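import Cfsg.Agent.Lib.MaxSylow128.Sixteen

/-!
# The members of the family are abelian
-/

set_option autoImplicit false
set_option linter.style.haveILetI false
set_option linter.unusedSectionVars false

namespace CfsgLib.MaxSyl

open Subgroup CfsgLib.ConjFunctor

variable {G : Type*} [Group G] [Finite G]

theorem card_mul_card_le {A B R : Subgroup G} (hA : A ≤ R) (hB : B ≤ R) :
    Nat.card A * Nat.card B ≤ Nat.card ↥(A ⊓ B) * Nat.card R := by
  have h1 := ((A ⊓ B).subgroupOf A).card_mul_index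
  rw [Nat.card_congr (subgroupOfEquivOfLe (inf_le_left : A ⊓ B ≤ A)).toEquiv] at h1
  have h2 := (B.subgroupOf R).card_mul_index
  rw [Nat.card_congr (subgroupOfEquivOfLe hB).toEquiv] at h2
  have h3 : ((A ⊓ B).subgroupOf A).index ≤ (B.subgroupOf R).index := by
    rw [← relIndex, ← relIndex, inf_relIndex_left]
    exact relIndex_le_of_le_right hA (index_ne_zero_of_finite (H := B.subgroupOf R))
  rw [← h1, ← h2, mul_assoc]
  exact Nat.mul_le_mul_left _ (le_of_le_of_eq (Nat.mul_le_mul_right _ h3) (mul_comm _ _))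

/-- The four representatives. -/
def rep4 (a b : G) : Fin 4 → G := ![1, a, b, a * b]

theorem rep4_mem {E : Subgroup G} {a b : G} (ha : a ∈ E) (hb : b ∈ E) : ∀ i, rep4 a b i ∈ E := by
  intro i; fin_cases i
  exacts [one_mem _, ha, hb, mul_mem ha hb]

theorem four_injective {Z E : Subgroup G} (hZE : Z ≤ E) {a b : G} (ha : a ∈ E) (hb : b ∈ E)
    (haZ : a ∉ Z) (hbZ : b ∉ Z) (habZ : a⁻¹ * b ∉ Z) (hmZ : a * b ∉ Z)
    (hz : ∀ z ∈ Z, ∀ x ∈ E, x * z = z * x) :
    Function.Injective (fun p : Fin 4 × Z => (⟨rep4 a b p.1 * p.2,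
      mul_mem (rep4_mem ha hb p.1) (hZE p.2.2)⟩ : E)) := by
  rintro ⟨i, z⟩ ⟨j, z'⟩ h
  have h' : rep4 a b i * (z : G) = rep4 a b j * z' := congrArg Subtype.val h
  have hd : (rep4 a b i)⁻¹ * rep4 a b j ∈ Z := by
    have : (rep4 a b i)⁻¹ * rep4 a b j = z * (z' : G)⁻¹ := by
      rw [inv_mul_eq_iff_eq_mul, ← mul_assoc, h', mul_inv_cancel_right]
    rw [this]; exact mul_mem z.2 (inv_mem z'.2)
  have hconj : b⁻¹ * (a * b) ∉ Z := fun hm => haZ (by
    have h5 := hz _ hm b hb
    have h7 : b * (b⁻¹ * (a * b)) * b⁻¹ = a := by group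
    rw [h5, mul_inv_cancel_right] at h7
    exact h7 ▸ hm)
  have hij : i = j := by
    have hinv : ∀ {p q : G}, p⁻¹ * q ∈ Z → q⁻¹ * p ∈ Z := fun {p q} hp => by simpa using inv_mem hp
    fin_cases i <;> fin_cases j <;> try rfl
    all_goals exfalso
    all_goals simp only [rep4] at hd
    · exact haZ (by simpa using hd)
    · exact hbZ (by simpa using hd)
    · exact hmZ (by simpa using hd)
    · exact haZ (by simpa using hinv hd)
    · exact habZ (by simpa using hd)
    · exact hbZ (by simpa [← mul_assoc] using hd)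
    · exact hbZ (by simpa using hinv hd)
    · exact habZ (by simpa using hinv hd)
    · exact hconj (by simpa using hd)
    · exact hmZ (by simpa using hinv hd)
    · exact hbZ (by simpa [← mul_assoc] using hinv hd)
    · exact hconj (by simpa using hinv hd)
  subst hij
  exact Prod.ext rfl (Subtype.ext (mul_left_cancel h'))

theorem four_le {Z E : Subgroup G} (hZE : Z ≤ E) {a b : G} (ha : a ∈ E) (hb : b ∈ E)
    (haZ : a ∉ Z) (hbZ : b ∉ Z) (habZ : a⁻¹ * b ∉ Z) (hmZ : a * b ∉ Z)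
    (hz : ∀ z ∈ Z, ∀ x ∈ E, x * z = z * x) : 4 * Nat.card Z ≤ Nat.card E := by
  have h := Nat.card_le_card_of_injective _ (four_injective hZE ha hb haZ hbZ habZ hmZ hz)
  rwa [Nat.card_prod, Nat.card_fin] at h

theorem four_cover {Z E : Subgroup G} (hZE : Z ≤ E) {a b : G} (ha : a ∈ E) (hb : b ∈ E)
    (haZ : a ∉ Z) (hbZ : b ∉ Z) (habZ : a⁻¹ * b ∉ Z) (hmZ : a * b ∉ Z)
    (hz : ∀ z ∈ Z, ∀ x ∈ E, x * z = z * x) (hc : Nat.card E = 4 * Nat.card Z) {x : G} (hx : x ∈ E) :
    ∃ z ∈ Z, x = z ∨ x = a * z ∨ x = b * z ∨ x = a * b * z := by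
  have hbij := (Nat.bijective_iff_injective_and_card _).2
    ⟨four_injective hZE ha hb haZ hbZ habZ hmZ hz, by rw [Nat.card_prod, Nat.card_fin, hc]⟩
  obtain ⟨⟨i, z⟩, h⟩ := hbij.2 ⟨x, hx⟩
  have h' : rep4 a b i * (z : G) = x := congrArg Subtype.val h
  refine ⟨z, z.2, ?_⟩
  fin_cases i <;> simp [rep4] at h' <;> simp [← h']

theorem no_fixed_four {U : Subgroup G} (hU : Nat.card U = 4) {y w z : G}
    (hy : ∀ u ∈ U, y * u * y⁻¹ ∈ U) (ho : Odd (orderOf y)) (hw : w ∈ U) (hw1 : w ≠ 1)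
    (hyw : y * w * y⁻¹ = w) (hz : z ∈ U) (hz2 : z * z = 1) (hyz : y * z ≠ z * y) : False := by
  have hne : y * z * y⁻¹ ≠ z := fun e => hyz (mul_inv_eq_iff_eq_mul.1 e)
  have hzw : z ≠ w := fun e => hne (e ▸ hyw)
  have hz1 : z ≠ 1 := fun e => hne (by rw [e]; simp)
  have h3 : w * z ≠ 1 := fun e => hzw (by rw [eq_inv_of_mul_eq_one_right e, eq_inv_of_mul_eq_one_left e]; rw [inv_inv]; exact (inv_eq_of_mul_eq_one_right hz2).symm)
  have hmem : ∀ u ∈ U, u = 1 ∨ u = w ∨ u = z ∨ u = w * z := by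
    intro u hu
    let r : Fin 4 → U := ![1, ⟨w, hw⟩, ⟨z, hz⟩, ⟨w * z, mul_mem hw hz⟩]
    have hr : Function.Injective r := by
      intro i j h
      have h' := congrArg Subtype.val h
      fin_cases i <;> fin_cases j <;> first | rfl | (simp [r, hw1, hw1.symm, hz1, hz1.symm, h3,
        Ne.symm h3, hzw, hzw.symm] at h')
    obtain ⟨i, hi⟩ := ((Nat.bijective_iff_injective_and_card r).2 ⟨hr, by simp [hU]⟩).2 ⟨u, hu⟩
    have h' := congrArg Subtype.val hi
    fin_cases i <;> simp [r] at h' <;> simp [← h']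
  rcases hmem _ (hy z hz) with e | e | e | e
  · exact hz1 (conj_eq_one_iff.1 e)
  · exact hzw ((MulAut.conj y).injective (a₁ := z) (a₂ := w) (e.trans hyw.symm))
  · exact hne e
  · have hww : w * w = 1 := by
      rcases hmem _ (mul_mem hw hw) with e2 | e2 | e2 | e2
      · exact e2
      · exact absurd (mul_eq_left.1 e2) hw1
      · exfalso
        apply hne
        rw [← e2, ← conj_mul, hyw]
      · exact absurd (mul_left_cancel e2).symm hzw
    have h2 : y ^ 2 * z * (y ^ 2)⁻¹ = z := by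
      calc y ^ 2 * z * (y ^ 2)⁻¹ = y * (y * z * y⁻¹) * y⁻¹ := by rw [pow_two]; group
        _ = (y * w * y⁻¹) * (y * z * y⁻¹) := by rw [conj_mul, e]
        _ = z := by rw [hyw, e, ← mul_assoc, hww, one_mul]
    exact hyz (Transv.Pr.conj_mem_of_sq ho (mul_inv_eq_iff_eq_mul.1 h2)).eq

namespace Setup.Loc

variable {X : Setup G} {E : Subgroup G}

theorem exists_odd (L : X.Loc E) :
    ∃ y ∈ normalizer (E : Set G), y ≠ 1 ∧ Odd (orderOf y) := by
  obtain ⟨p, hp, hpd⟩ := Nat.exists_prime_and_dvd L.relIndex_ne_one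
  haveI := Fact.mk hp
  obtain ⟨x, hx⟩ := exists_prime_orderOf_dvd_card' (G := ↥(normalizer (E : Set G))) p
    (L.card_normalizer ▸ dvd_mul_of_dvd_left hpd _)
  refine ⟨x, x.2, fun e => hp.ne_one ?_, ?_⟩
  · rw [← hx, ← orderOf_coe, e, orderOf_one]
  · rw [orderOf_coe, hx]
    exact L.odd_relIndex.of_dvd_nat hpd

theorem moves_center (L : X.Loc E) {y z : G} (hy1 : y ≠ 1) (ho : Odd (orderOf y))
    (hz : ∀ s ∈ (X.S : Subgroup G), s * z = z * s) (hz1 : z ≠ 1) : y * z ≠ z * y :=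
  fun e => hy1 (X.odd_not_centralize (L.lt.le (L.central_mem hz)) hz hz1 e ho)

theorem conj_centralizer (_L : X.Loc E) {y : G} (hy : y ∈ normalizer (E : Set G)) :
    ∀ u ∈ centralizer (E : Set G), y * u * y⁻¹ ∈ centralizer (E : Set G) := by
  intro u hu
  rw [mem_centralizer_iff] at hu ⊢
  intro f hf
  have h := hu (y⁻¹ * f * y) (by simpa using (mem_normalizer_iff.1 (inv_mem hy) f).1 hf)
  calc f * (y * u * y⁻¹) = y * ((y⁻¹ * f * y) * u) * y⁻¹ := by group
    _ = y * (u * (y⁻¹ * f * y)) * y⁻¹ := by rw [h]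
    _ = y * u * y⁻¹ * f := by group

theorem center_card_ge (L : X.Loc E) : 4 ≤ Nat.card (centralizer (E : Set G)) := by
  obtain ⟨y, hyN, hy1, hyo⟩ := L.exists_odd
  obtain ⟨z, hzS, hz1, hz2, hz⟩ := X.exists_center
  have hzC : z ∈ centralizer (E : Set G) := mem_centralizer_iff.2 fun e he => hz e (L.lt.le he)
  have hwC := L.conj_centralizer hyN z hzC
  obtain ⟨k, -, hk⟩ := X.card_eq_pow (L.cent.trans L.lt.le)
  by_contra h
  have h3 : 3 ≤ Nat.card (centralizer (E : Set G)) := by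
    have hinj : Function.Injective (![1, ⟨z, hzC⟩, ⟨_, hwC⟩] : Fin 3 → centralizer (E : Set G)) := by
      intro i j h
      have h' := congrArg Subtype.val h
      have hne : y * z * y⁻¹ ≠ z := fun e =>
        L.moves_center hy1 hyo hz hz1 (mul_inv_eq_iff_eq_mul.1 e)
      have hne1 : y * z * y⁻¹ ≠ 1 := fun e => hz1 (conj_eq_one_iff.1 e)
      fin_cases i <;> fin_cases j <;> first | rfl | (simp [hz1, hne, hne1, Ne.symm hz1,
        Ne.symm hne, Ne.symm hne1] at h')
    have := Nat.card_le_card_of_injective _ hinj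
    rwa [Nat.card_fin] at this
  rw [hk] at h h3
  have hk2 : k < 2 := by
    by_contra hk2
    exact h (le_trans (by norm_num) (Nat.pow_le_pow_right (by norm_num) (not_lt.1 hk2)))
  interval_cases k <;> norm_num at h3

theorem center_card_le (L : X.Loc E) {a b : G} (ha : a ∈ E) (hb : b ∈ E) (hab : a * b ≠ b * a) :
    4 * Nat.card (centralizer (E : Set G)) ≤ Nat.card E := by
  have hz : ∀ z ∈ centralizer (E : Set G), ∀ x ∈ E, x * z = z * x :=
    fun z hz x hx => mem_centralizer_iff.1 hz x hx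
  refine four_le L.cent ha hb (fun h => hab (hz a h b hb).symm) (fun h => hab (hz b h a ha))
    (fun h => hab ?_) (fun h => hab ?_) hz
  · have h1 := hz _ h a ha
    calc a * b = a * (a * (a⁻¹ * b)) := by group
      _ = a * (a⁻¹ * b * a) := by rw [h1]
      _ = b * a := by group
  · have h1 := hz _ h a ha
    calc a * b = a⁻¹ * (a * (a * b)) := by group
      _ = a⁻¹ * (a * b * a) := by rw [h1]
      _ = b * a := by group

/-- A nonabelian member of order 16 is impossible. -/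
theorem not_nonab_sixteen (L : X.Loc E) (h16 : Nat.card E ≤ 16) {a b : G} (ha : a ∈ E) (hb : b ∈ E)
    (hab : a * b ≠ b * a) : False := by
  have hge := L.center_card_ge
  have hle := L.center_card_le ha hb hab
  have hZ4 : Nat.card (centralizer (E : Set G)) = 4 := by omega
  have hE4 : Nat.card E = 4 * Nat.card (centralizer (E : Set G)) := by omega
  obtain ⟨y, hyN, hy1, hyo⟩ := L.exists_odd
  obtain ⟨z, hzS, hz1, hz2, hz⟩ := X.exists_center
  set Z := centralizer (E : Set G) with hZdef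
  have hzc : ∀ z ∈ Z, ∀ x ∈ E, x * z = z * x := fun z hz x hx => mem_centralizer_iff.1 hz x hx
  have haZ : a ∉ Z := fun h => hab (hzc a h b hb).symm
  have hbZ : b ∉ Z := fun h => hab (hzc b h a ha)
  have habZ : a⁻¹ * b ∉ Z := fun h => hab (by
    have h1 := hzc _ h a ha
    calc a * b = a * (a * (a⁻¹ * b)) := by group
      _ = a * (a⁻¹ * b * a) := by rw [h1]
      _ = b * a := by group)
  have hmZ : a * b ∉ Z := fun h => hab (by
    have h1 := hzc _ h a ha
    calc a * b = a⁻¹ * (a * (a * b)) := by group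
      _ = a⁻¹ * (a * b * a) := by rw [h1]
      _ = b * a := by group)
  have cov := fun {x : G} (hx : x ∈ E) =>
    four_cover (L.cent) ha hb haZ hbZ habZ hmZ hzc hE4 hx
  set c := a * b * a⁻¹ * b⁻¹ with hc
  -- `b * a` lies in the coset of `a * b`
  have hcZ : c ∈ Z := by
    obtain ⟨u, hu, e | e | e | e⟩ := cov (mul_mem hb ha)
    · exfalso
      apply hab
      have h1 := hzc _ hu a ha
      rw [← e] at h1
      calc a * b = a * (b * a) * a⁻¹ := by group
        _ = b * a * a * a⁻¹ := by rw [h1]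
        _ = b * a := by group
    · exfalso
      apply hbZ
      have h1 := hzc _ hu a ha
      rw [h1] at e
      rw [mul_right_cancel e]; exact hu
    · exfalso
      exact haZ (by rw [mul_left_cancel e]; exact hu)
    · have : c = u⁻¹ := by
        have e2 : u = (a * b)⁻¹ * (b * a) := by rw [e]; group
        have h1 := hzc _ hu _ (mul_mem hb ha)
        have h2 := hzc _ (inv_mem hu) _ (mul_mem hb ha)
        calc c = a * b * (b * a)⁻¹ := by rw [hc]; group
          _ = b * a * u⁻¹ * (b * a)⁻¹ := by rw [e]; group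
          _ = u⁻¹ := by rw [h2, mul_inv_cancel_right]
      rw [this]; exact inv_mem hu
  have hcc : c * c = 1 := by
    have hsq : a * a ∈ Z := by
      obtain ⟨u, hu, e | e | e | e⟩ := cov (mul_mem ha ha)
      · exact e ▸ hu
      · exact absurd (mul_left_cancel e ▸ hu) haZ
      · exfalso
        apply hab
        have h1 := hzc _ (inv_mem hu) a ha
        have e' : b = a * a * u⁻¹ := by rw [e, mul_inv_cancel_right]
        rw [e']
        calc a * (a * a * u⁻¹) = a * a * (a * u⁻¹) := by group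
          _ = a * a * (u⁻¹ * a) := by rw [h1]
          _ = a * a * u⁻¹ * a := by group
      · exfalso
        apply habZ
        have h1 := hzc _ hu a ha
        have e' : a = b * u := mul_left_cancel (a := a) (by rw [e, mul_assoc])
        have : a⁻¹ * b = u⁻¹ := by rw [e']; group
        rw [this]; exact inv_mem hu
    have h1 := hzc _ hsq b hb
    have h2 := hzc _ hcZ a ha
    calc c * c = (a * b * a⁻¹ * b⁻¹) * c := by rw [hc]
      _ = a * (b * a⁻¹ * b⁻¹) * c := by group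
      _ = a * (a⁻¹ * c) * c := by rw [hc]; group
      _ = (a * c * a⁻¹) * (a * b * a⁻¹ * b⁻¹) := by rw [h2]; rw [hc]; group
      _ = a * a * b * (a * a)⁻¹ * b⁻¹ := by rw [hc]; group
      _ = 1 := by rw [← h1]; group
  -- all commutators lie in `⟨c⟩`
  have key : ∀ p q : G, ∀ u ∈ Z, ∀ u' ∈ Z, p ∈ E → q ∈ E →
      (p * u) * (q * u') * (p * u)⁻¹ * (q * u')⁻¹ = p * q * p⁻¹ * q⁻¹ := by
    intro p q u hu u' hu' hp hq
    have h1 := hzc u hu (q * u') (mul_mem hq (L.cent hu'))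
    have h2 := hzc u' hu' p⁻¹ (inv_mem hp)
    calc p * u * (q * u') * (p * u)⁻¹ * (q * u')⁻¹
        = p * (u * (q * u')) * u⁻¹ * p⁻¹ * u'⁻¹ * q⁻¹ := by group
      _ = p * q * (u' * p⁻¹) * u'⁻¹ * q⁻¹ := by rw [← h1]; group
      _ = p * q * p⁻¹ * q⁻¹ := by rw [← h2]; group
  have hcomm : ∀ p ∈ E, ∀ q ∈ E, p * q * p⁻¹ * q⁻¹ = 1 ∨ p * q * p⁻¹ * q⁻¹ = c := by
    intro p hp q hq
    have hci : c⁻¹ = c := inv_eq_of_mul_eq_one_right hcc
    have hca : a * c = c * a := hzc c hcZ a ha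
    have hcb : b * c = c * b := hzc c hcZ b hb
    have k1 : b * a * b⁻¹ * a⁻¹ = c := by rw [← hci, hc]; group
    have k2 : a * (a * b) * a⁻¹ * (a * b)⁻¹ = c := by
      calc _ = a * c * a⁻¹ := by rw [hc]; group
        _ = c := by rw [hca, mul_inv_cancel_right]
    have k3 : b * (a * b) * b⁻¹ * (a * b)⁻¹ = c := by
      calc _ = c⁻¹ := by rw [hc]; group
        _ = c := hci
    have k4 : a * b * a * (a * b)⁻¹ * a⁻¹ = c := by
      calc _ = (a * (a * b) * a⁻¹ * (a * b)⁻¹)⁻¹ := by group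
        _ = c := by rw [k2, hci]
    have k5 : a * b * b * (a * b)⁻¹ * b⁻¹ = c := by rw [hc]; group
    have one1 : ∀ r : G, 1 * r * (1 : G)⁻¹ * r⁻¹ = 1 := fun r => by group
    have one2 : ∀ r : G, r * 1 * r⁻¹ * (1 : G)⁻¹ = 1 := fun r => by group
    have same : ∀ r : G, r * r * r⁻¹ * r⁻¹ = 1 := fun r => by group
    obtain ⟨u, hu, hp'⟩ := cov hp
    obtain ⟨u', hu', hq'⟩ := cov hq
    have hp'' : ∃ r, (r = 1 ∨ r = a ∨ r = b ∨ r = a * b) ∧ r ∈ E ∧ p = r * u := by
      rcases hp' with e | e | e | e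
      exacts [⟨1, Or.inl rfl, one_mem _, by rw [e, one_mul]⟩, ⟨a, Or.inr (Or.inl rfl), ha, e⟩,
        ⟨b, Or.inr (Or.inr (Or.inl rfl)), hb, e⟩, ⟨_, Or.inr (Or.inr (Or.inr rfl)), mul_mem ha hb, e⟩]
    have hq'' : ∃ r, (r = 1 ∨ r = a ∨ r = b ∨ r = a * b) ∧ r ∈ E ∧ q = r * u' := by
      rcases hq' with e | e | e | e
      exacts [⟨1, Or.inl rfl, one_mem _, by rw [e, one_mul]⟩, ⟨a, Or.inr (Or.inl rfl), ha, e⟩,
        ⟨b, Or.inr (Or.inr (Or.inl rfl)), hb, e⟩, ⟨_, Or.inr (Or.inr (Or.inr rfl)), mul_mem ha hb, e⟩]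
    obtain ⟨r, hr, hrE, rfl⟩ := hp''
    obtain ⟨r', hr', hrE', rfl⟩ := hq''
    rw [key r r' u hu u' hu' hrE hrE']
    rcases hr with rfl | rfl | rfl | rfl <;> rcases hr' with rfl | rfl | rfl | rfl
    all_goals first
      | exact Or.inl (one1 _)
      | exact Or.inl (one2 _)
      | exact Or.inl (same _)
      | exact Or.inr hc.symm
      | exact Or.inr k1
      | exact Or.inr k2
      | exact Or.inr k3
      | exact Or.inr k4
      | exact Or.inr k5
  have hyc : y * c * y⁻¹ = c := by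
    have h1 := (mem_normalizer_iff.1 hyN a).1 ha
    have h2 := (mem_normalizer_iff.1 hyN b).1 hb
    have h3 : y * c * y⁻¹ = (y * a * y⁻¹) * (y * b * y⁻¹) * (y * a * y⁻¹)⁻¹ * (y * b * y⁻¹)⁻¹ := by
      rw [hc]; group
    rcases hcomm _ h1 _ h2 with e | e
    · exfalso
      rw [← h3] at e
      have := conj_eq_one_iff.1 e
      rw [hc, mul_inv_eq_one, mul_inv_eq_iff_eq_mul] at this
      exact hab this
    · rw [h3, e]
  have hc1 : c ≠ 1 := fun e => hab (by
    rw [hc, mul_inv_eq_one, mul_inv_eq_iff_eq_mul] at e; exact e)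
  exact no_fixed_four hZ4 (L.conj_centralizer hyN) hyo hcZ hc1 hyc
    (mem_centralizer_iff.2 fun e he => hz e (L.lt.le he)) hz2 (L.moves_center hy1 hyo hz hz1)

end Setup.Loc

end CfsgLib.MaxSyl
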