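import Cfsg.Agent.Lib.MaxSylow128.Abelian

/-!
# The members of the family are abelian, order 32
-/

set_option autoImplicit false
set_option linter.style.haveILetI false
set_option linter.unusedSectionVars false

namespace CfsgLib.MaxSyl

open Subgroup CfsgLib.ConjFunctor

variable {G : Type*} [Group G] [Finite G]

theorem mem_normalizer_of_both {H : Subgroup G} {g : G} (h1 : ∀ x ∈ H, g * x * g⁻¹ ∈ H)
    (h2 : ∀ x ∈ H, g⁻¹ * x * g ∈ H) : g ∈ normalizer (H : Set G) := by
  rw [mem_normalizer_iff]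
  refine fun x => ⟨h1 x, fun hx => ?_⟩
  simpa [mul_assoc] using h2 _ hx

theorem mem_normalizer_closure {s : Set G} {g : G} (h1 : ∀ x ∈ s, g * x * g⁻¹ ∈ closure s)
    (h2 : ∀ x ∈ s, g⁻¹ * x * g ∈ closure s) : g ∈ normalizer (closure s : Set G) := by
  refine mem_normalizer_of_both (fun x hx => ?_) (fun x hx => ?_)
  · have h : closure s ≤ (closure s).comap (MulAut.conj g).toMonoidHom :=
      (closure_le _).2 fun a ha => by simpa using h1 a ha
    simpa using h hx
  · have h : closure s ≤ (closure s).comap (MulAut.conj g⁻¹).toMonoidHom :=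
      (closure_le _).2 fun a ha => by simpa using h2 a ha
    simpa using h hx

theorem card_inf_eq {A B : Subgroup G} {n : ℕ} (hA : Nat.card A = 2 ^ (n + 1))
    (hB : Nat.card B = 2 ^ (n + 1)) (hne : A ≠ B) {Z : Subgroup G} (hZA : Z ≤ A) (hZB : Z ≤ B)
    (hZ : Nat.card Z = 2 ^ n) : A ⊓ B = Z := by
  have h1 : Nat.card ↥(A ⊓ B) ∣ 2 ^ (n + 1) := hA ▸ card_dvd_of_le inf_le_left
  have h2 : Z ≤ A ⊓ B := le_inf hZA hZB
  obtain ⟨k, hk, hke⟩ := (Nat.dvd_prime_pow Nat.prime_two).1 h1
  rcases Nat.lt_or_ge k (n + 1) with hlt | hge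
  · refine (eq_of_le_of_card_ge h2 ?_).symm
    rw [hke, hZ]
    exact Nat.pow_le_pow_right (by norm_num) (Nat.lt_succ_iff.1 hlt)
  · exfalso
    have hk' : k = n + 1 := le_antisymm hk hge
    refine hne ((eq_of_le_of_card_ge inf_le_left ?_).symm.trans
      (eq_of_le_of_card_ge inf_le_right ?_))
    · rw [hke, hk', hA]
    · rw [hke, hk', hB]

theorem three_le {U : Subgroup G} {y z : G} (hz : z ∈ U) (hw : y * z * y⁻¹ ∈ U) (hz1 : z ≠ 1)
    (hyz : y * z ≠ z * y) : 3 ≤ Nat.card U := by
  have hne : y * z * y⁻¹ ≠ z := fun e => hyz (mul_inv_eq_iff_eq_mul.1 e)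
  have hne1 : y * z * y⁻¹ ≠ 1 := fun e => hz1 (conj_eq_one_iff.1 e)
  have hinj : Function.Injective (![1, ⟨z, hz⟩, ⟨_, hw⟩] : Fin 3 → U) := by
    intro i j h
    have h' := congrArg Subtype.val h
    fin_cases i <;> fin_cases j <;> first | rfl | (simp [hz1, hne, hne1, Ne.symm hz1,
      Ne.symm hne, Ne.symm hne1] at h')
  have := Nat.card_le_card_of_injective _ hinj
  rwa [Nat.card_fin] at this

namespace Setup.Loc

variable {X : Setup G} {E : Subgroup G}

theorem le_normalizer_of_card (L : X.Loc E) (hE : Nat.card E = 32) :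
    (X.S : Subgroup G) ≤ normalizer (((X.S : Subgroup G) ⊓ normalizer (E : Set G) : Subgroup G) : Set G) := by
  obtain ⟨g, hgS, hgR, hgN⟩ := X.exists_normalizing le_rfl L.inf_lt
  set R := (X.S : Subgroup G) ⊓ normalizer (E : Set G) with hR
  have hlt : R < (X.S : Subgroup G) ⊓ normalizer (R : Set G) := by
    refine lt_of_le_of_ne (le_inf inf_le_left le_normalizer) fun e => hgR ?_
    rw [e]; exact ⟨hgS, hgN⟩
  have h2 := X.card_two_mul inf_le_left hlt
  rw [L.index_two, hE] at h2
  have := eq_of_le_of_card_ge (inf_le_left : (X.S : Subgroup G) ⊓ normalizer (R : Set G) ≤ X.S)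
    (by rw [X.card]; omega)
  intro s hs
  rw [← this] at hs
  exact hs.2

theorem normalizer_le_centralizer (L : X.Loc E) :
    normalizer (E : Set G) ≤ normalizer ((centralizer (E : Set G) : Subgroup G) : Set G) := by
  intro s hs
  exact mem_normalizer_of_both (L.conj_centralizer hs) (fun x hx => by
    simpa using L.conj_centralizer (inv_mem hs) x hx)

set_option maxHeartbeats 1000000 in
theorem not_nonab_32 (L : X.Loc E) (h32 : Nat.card E = 32) {a b : G} (ha : a ∈ E) (hb : b ∈ E)
    (hab : a * b ≠ b * a) : False := by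
  haveI : Fact (Nat.Prime 2) := ⟨Nat.prime_two⟩
  obtain ⟨y, hyN, hy1, hyo⟩ := L.exists_odd
  obtain ⟨z, hzS, hz1, hz2, hz⟩ := X.exists_center
  obtain ⟨g, hgS, hgR, hgN⟩ := X.exists_normalizing le_rfl L.inf_lt
  have hSR := L.le_normalizer_of_card h32
  have hR2 := L.index_two
  rw [h32] at hR2
  have hgE : cj g E ≠ E := fun e => hgR ⟨hgS, cj_eq_self_iff.1 e⟩
  set R := (X.S : Subgroup G) ⊓ normalizer (E : Set G) with hRdef
  have hidx : (R.subgroupOf (X.S : Subgroup G)).index = 2 := by
    have h1 := (R.subgroupOf (X.S : Subgroup G)).card_mul_index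
    rw [Nat.card_congr (subgroupOfEquivOfLe (inf_le_left : R ≤ X.S)).toEquiv, hR2, X.card] at h1
    omega
  have hE'R : cj g E ≤ R := by
    intro x hx
    rw [mem_cj] at hx
    have := (mem_normalizer_iff.1 hgN _).1 (L.lt_inf.le hx)
    simpa [mul_assoc] using this
  have hgg : cj g (cj g E) = E := by
    rw [← cj_mul, cj_eq_self_iff]
    have h1 := mul_self_mem_of_index_two hidx ⟨g, hgS⟩
    exact (mem_subgroupOf.1 h1).2
  set D := E ⊓ cj g E with hDdef
  have hDE : D ≤ E := inf_le_left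
  have hDS : D ≤ X.S := hDE.trans L.lt.le
  have hD16 : Nat.card D = 16 := by
    have h1 := card_mul_card_le L.lt_inf.le hE'R
    rw [card_cj, h32, hR2] at h1
    have hlt : D < E := lt_of_le_of_ne hDE fun e => hgE (eq_of_le_of_card_ge (inf_eq_left.1 e)
      (card_cj g E).le).symm
    have h2 := X.card_two_mul L.lt.le hlt
    rw [h32] at h2
    rw [← hDdef] at h1
    omega
  have hgD : g ∈ normalizer (D : Set G) := by
    rw [← cj_eq_self_iff, hDdef, cj_inf, hgg, inf_comm]
  have hRD : R ≤ normalizer (D : Set G) := by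
    intro r hr
    rw [← cj_eq_self_iff, hDdef, cj_inf, cj_eq_self_iff.2 hr.2]
    have h1 : g⁻¹ * r * g ∈ R := by simpa using (mem_normalizer_iff.1 (inv_mem hgN) r).1 hr
    have h2 : cj r (cj g E) = cj g E := by
      rw [← cj_mul, show r * g = g * (g⁻¹ * r * g) by group, cj_mul, cj_eq_self_iff.2 h1.2]
    rw [h2]
  have hSD : (X.S : Subgroup G) ≤ normalizer (D : Set G) := by
    intro s hs
    by_cases hsR : s ∈ R
    · exact hRD hsR
    · have h1 := (mul_mem_iff_of_index_two hidx (a := ⟨g, hgS⟩⁻¹) (b := ⟨s, hs⟩)).2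
        (iff_of_false (fun h => hgR (mem_subgroupOf.1 ((inv_mem_iff).1 h)))
          (fun h => hsR (mem_subgroupOf.1 h)))
      have h2 := mul_mem hgD (hRD (mem_subgroupOf.1 h1))
      simpa [mul_assoc] using h2
  have hDne : D ≠ ⊥ := fun e => by rw [e, card_bot] at hD16; norm_num at hD16
  set Z := centralizer (E : Set G) with hZdef
  have hzc : ∀ z ∈ Z, ∀ x ∈ E, x * z = z * x := fun z hz x hx => mem_centralizer_iff.1 hz x hx
  have hZne : Z ≠ ⊥ := fun e => by
    have := L.center_card_ge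
    rw [← hZdef, e, card_bot] at this
    norm_num at this
  by_cases hZD : Z ≤ D
  swap
  · -- the derived group of `E` is that of `D`
    obtain ⟨u, huZ, huD⟩ := SetLike.not_le_iff_exists.1 hZD
    have hidxD : (D.subgroupOf E).index = 2 := by
      have h1 := (D.subgroupOf E).card_mul_index
      rw [Nat.card_congr (subgroupOfEquivOfLe hDE).toEquiv, hD16, h32] at h1
      omega
    have hdec : ∀ x ∈ E, ∃ d ∈ D, ∃ w ∈ Z, x = d * w := by
      intro x hx
      by_cases hxD : x ∈ D
      · exact ⟨x, hxD, 1, one_mem _, (mul_one x).symm⟩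
      · refine ⟨x * u, ?_, u⁻¹, inv_mem huZ, (mul_inv_cancel_right x u).symm⟩
        exact mem_subgroupOf.1 ((mul_mem_iff_of_index_two hidxD (a := ⟨x, hx⟩)
          (b := ⟨u, L.cent huZ⟩)).2 (iff_of_false (fun h => hxD (mem_subgroupOf.1 h))
            (fun h => huD (mem_subgroupOf.1 h))))
    set s : Set G := {c | ∃ p ∈ D, ∃ q ∈ D, c = p * q * p⁻¹ * q⁻¹} with hs
    have hall : ∀ p ∈ E, ∀ q ∈ E, p * q * p⁻¹ * q⁻¹ ∈ closure s := by
      intro p hp q hq
      obtain ⟨d, hd, w, hw, rfl⟩ := hdec p hp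
      obtain ⟨d', hd', w', hw', rfl⟩ := hdec q hq
      refine subset_closure ⟨d, hd, d', hd', ?_⟩
      have h1 := hzc w hw (d' * w') hq
      have h2 := hzc w' hw' d⁻¹ (inv_mem (hDE hd))
      calc d * w * (d' * w') * (d * w)⁻¹ * (d' * w')⁻¹
          = d * (w * (d' * w')) * w⁻¹ * d⁻¹ * w'⁻¹ * d'⁻¹ := by group
        _ = d * d' * (w' * d⁻¹) * w'⁻¹ * d'⁻¹ := by rw [← h1]; group
        _ = d * d' * d⁻¹ * d'⁻¹ := by rw [← h2]; group
    have hle : closure s ≤ D := (closure_le _).2 fun c ⟨p, hp, q, hq, e⟩ =>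
      e ▸ mul_mem (mul_mem (mul_mem hp hq) (inv_mem hp)) (inv_mem hq)
    have hconj : ∀ h : G, (∀ p ∈ D, h * p * h⁻¹ ∈ E) → ∀ c ∈ s, h * c * h⁻¹ ∈ closure s := by
      rintro h hh c ⟨p, hp, q, hq, rfl⟩
      convert hall _ (hh p hp) _ (hh q hq) using 1
      group
    have hbe : closure s ≠ ⊥ := fun e => hab (by
      have := hall a ha b hb
      rw [e, mem_bot, mul_inv_eq_one, mul_inv_eq_iff_eq_mul] at this
      exact this)
    have hSs : (X.S : Subgroup G) ≤ normalizer (closure s : Set G) := fun h hh =>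
      mem_normalizer_closure (hconj h fun p hp => hDE ((mem_normalizer_iff.1 (hSD hh) p).1 hp))
        (fun c hc => by
          simpa using hconj h⁻¹ (fun p hp => hDE ((mem_normalizer_iff.1 (hSD (inv_mem hh)) p).1 hp)) c hc)
    refine hy1 (X.odd_not_normalize hbe (hle.trans hDS) hSs ?_ hyo)
    exact mem_normalizer_closure (hconj y fun p hp => (mem_normalizer_iff.1 hyN p).1 (hDE hp))
      (fun c hc => by
        simpa using hconj y⁻¹ (fun p hp => (mem_normalizer_iff.1 (inv_mem hyN) p).1 (hDE hp)) c hc)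
  · set Z' := cj g Z with hZ'
    have hZ'D : Z' ≤ D := by
      rw [hZ', ← cj_eq_self_iff.2 hgD]; exact cj_mono hZD
    have hZ'ne : Z' ≠ Z := by
      intro e
      refine hy1 (X.odd_not_normalize hZne (hZD.trans hDS) ?_ (L.normalizer_le_centralizer hyN) hyo)
      intro s hs
      by_cases hsR : s ∈ R
      · exact L.normalizer_le_centralizer hsR.2
      · have h1 := (mul_mem_iff_of_index_two hidx (a := ⟨g, hgS⟩⁻¹) (b := ⟨s, hs⟩)).2
          (iff_of_false (fun h => hgR (mem_subgroupOf.1 ((inv_mem_iff).1 h)))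
            (fun h => hsR (mem_subgroupOf.1 h)))
        have h2 := mul_mem (cj_eq_self_iff.1 e) (L.normalizer_le_centralizer (mem_subgroupOf.1 h1).2)
        simpa [mul_assoc] using h2
    set W := Z ⊔ Z' with hW
    have hWD : W ≤ D := sup_le hZD hZ'D
    have hWc : W ≤ centralizer (D : Set G) := by
      refine sup_le (fun u hu => mem_centralizer_iff.2 fun d hd => hzc u hu d (hDE hd)) ?_
      intro u hu
      rw [hZ', mem_cj] at hu
      refine mem_centralizer_iff.2 fun d hd => ?_
      have hd' : g⁻¹ * d * g ∈ E := mem_cj.1 (inf_le_right (a := E) hd)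
      have h1 := hzc _ hu _ hd'
      calc d * u = g * ((g⁻¹ * d * g) * (g⁻¹ * u * g)) * g⁻¹ := by group
        _ = g * ((g⁻¹ * u * g) * (g⁻¹ * d * g)) * g⁻¹ := by rw [h1]
        _ = u * d := by group
    have hZW : Z < W := lt_of_le_of_ne le_sup_left fun e =>
      hZ'ne (eq_of_le_of_card_ge (sup_eq_left.1 e.symm) (card_cj g Z).ge)
    have hW8 : 8 ≤ Nat.card W := by
      have h1 := X.card_two_mul (hWD.trans hDS) hZW
      have h2 := L.center_card_ge
      rw [← hZdef] at h2
      omega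
    have hDab : ∀ p ∈ D, ∀ q ∈ D, p * q = q * p := by
      intro p hp q hq
      by_cases hpW : p ∈ W
      · exact (mem_centralizer_iff.1 (hWc hpW) q hq).symm
      by_cases hqW : q ∈ W
      · exact mem_centralizer_iff.1 (hWc hqW) p hp
      have hidxW : (W.subgroupOf D).index = 2 := by
        have h1 := (W.subgroupOf D).card_mul_index
        rw [Nat.card_congr (subgroupOfEquivOfLe hWD).toEquiv, hD16] at h1
        have hne : (W.subgroupOf D).index ≠ 1 := fun e =>
          hpW (mem_subgroupOf.1 ((index_eq_one.1 e).symm ▸ mem_top (⟨p, hp⟩ : D)))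
        have := Nat.pos_of_ne_zero (index_ne_zero_of_finite (H := W.subgroupOf D))
        have h3 : (W.subgroupOf D).index ≤ 2 := by nlinarith
        omega
      have h1 := (mul_mem_iff_of_index_two hidxW (a := ⟨p, hp⟩⁻¹) (b := ⟨q, hq⟩)).2
        (iff_of_false (fun h => hpW (mem_subgroupOf.1 (inv_mem_iff.1 h)))
          (fun h => hqW (mem_subgroupOf.1 h)))
      have h2 := mem_centralizer_iff.1 (hWc (mem_subgroupOf.1 h1)) p hp
      simp only [coe_mul, coe_inv] at h2
      calc p * q = p * (p * (p⁻¹ * q)) := by group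
        _ = p * (p⁻¹ * q * p) := by rw [h2]
        _ = q * p := by group
    -- the conjugates of `D`
    have hconjD : ∀ k ∈ normalizer (E : Set G), cj k D ≤ E ∧ Z ≤ cj k D ∧
        ∀ p ∈ cj k D, ∀ q ∈ cj k D, p * q = q * p := by
      intro k hk
      refine ⟨fun x hx => ?_, fun x hx => ?_, fun p hp q hq => ?_⟩
      · have h1 := (mem_normalizer_iff.1 hk _).1 (hDE (mem_cj.1 hx))
        simpa [mul_assoc] using h1
      · rw [mem_cj]
        exact hZD (by simpa using L.conj_centralizer (inv_mem hk) x hx)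
      · calc p * q = k * ((k⁻¹ * p * k) * (k⁻¹ * q * k)) * k⁻¹ := by group
          _ = k * ((k⁻¹ * q * k) * (k⁻¹ * p * k)) * k⁻¹ := by
              rw [hDab _ (mem_cj.1 hp) _ (mem_cj.1 hq)]
          _ = q * p := by group
    have hmove : ∀ k ∈ normalizer (E : Set G), k ≠ 1 → Odd (orderOf k) → cj k D ≠ D :=
      fun k _ hk1 hko e => hk1 (X.odd_not_normalize hDne hDS hSD (cj_eq_self_iff.1 e) hko)
    have hne1 := hmove y hyN hy1 hyo
    obtain ⟨hD1E, hZD1, hD1ab⟩ := hconjD y hyN
    have hsup : D ⊔ cj y D = E := by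
      refine eq_of_le_of_card_ge (sup_le hDE hD1E) ?_
      have hlt : D < D ⊔ cj y D := lt_of_le_of_ne le_sup_left fun e =>
        hne1 (eq_of_le_of_card_ge (sup_eq_left.1 e.symm) (card_cj y D).ge)
      have h1 := X.card_two_mul ((sup_le hDE hD1E).trans L.lt.le) hlt
      rw [hD16] at h1
      omega
    have hTZ : D ⊓ cj y D ≤ Z := by
      intro x hx
      rw [hZdef, mem_centralizer_iff]
      intro e he
      have h1 : D ⊔ cj y D ≤ centralizer ({x} : Set G) := sup_le
        (fun d hd => mem_centralizer_singleton_iff.2 (hDab d hd x hx.1))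
        (fun d hd => mem_centralizer_singleton_iff.2 (hD1ab d hd x hx.2))
      rw [hsup] at h1
      exact mem_centralizer_singleton_iff.1 (h1 he)
    have hZ8 : Nat.card Z = 8 := by
      have h1 := card_mul_card_le hDE hD1E
      rw [card_cj, hD16, h32] at h1
      have h2 := card_le_of_le hTZ
      have h3 := X.card_two_mul (hWD.trans hDS) hZW
      have h4 := card_le_of_le hWD
      rw [hD16] at h4
      omega
    -- `Z` is elementary
    have hzU : z ∈ omegaCenter E := ⟨L.central_mem hz, fun f hf => hz f (L.lt.le hf), hz2⟩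
    have hUc : ∀ k ∈ normalizer (E : Set G), ∀ u ∈ omegaCenter E, k * u * k⁻¹ ∈ omegaCenter E := by
      intro k hk u hu
      refine ⟨(mem_normalizer_iff.1 hk u).1 hu.1, fun f hf => ?_, ?_⟩
      · have h1 := L.conj_centralizer hk u (mem_centralizer_iff.2 fun e he => hu.2.1 e he)
        exact mem_centralizer_iff.1 h1 f hf
      · rw [conj_mul, hu.2.2, mul_one, mul_inv_cancel]
    have hyz := L.moves_center hy1 hyo hz hz1
    have hUZ : omegaCenter E ≤ Z := fun u hu => mem_centralizer_iff.2 fun e he => hu.2.1 e he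
    have hUfull : omegaCenter E = Z := by
      have h3 := three_le hzU (hUc y hyN z hzU) hz1 hyz
      obtain ⟨l, hl, hlU⟩ := (Nat.dvd_prime_pow Nat.prime_two).1
        (show Nat.card (omegaCenter E) ∣ 2 ^ 3 by
          rw [show (2 : ℕ) ^ 3 = Nat.card Z by rw [hZ8]; norm_num]
          exact card_dvd_of_le hUZ)
      interval_cases l
      · omega
      · omega
      · exfalso
        have hidxU : ((omegaCenter E).subgroupOf Z).index = 2 := by
          have h1 := ((omegaCenter E).subgroupOf Z).card_mul_index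
          rw [Nat.card_congr (subgroupOfEquivOfLe hUZ).toEquiv, hlU, hZ8] at h1
          omega
        obtain ⟨q, hqZ, hqU⟩ : ∃ q ∈ Z, q ∉ omegaCenter E := by
          by_contra hc
          push Not at hc
          have := card_le_of_le (show Z ≤ omegaCenter E from hc)
          omega
        have hsq : q * q ∈ omegaCenter E := mem_subgroupOf.1 (mul_self_mem_of_index_two hidxU ⟨q, hqZ⟩)
        have hall : ∀ q' ∈ Z, q' ∉ omegaCenter E → q' * q' = q * q := by
          intro q' hq'Z hq'U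
          have h1 := mem_subgroupOf.1 ((mul_mem_iff_of_index_two hidxU (a := ⟨q, hqZ⟩⁻¹)
            (b := ⟨q', hq'Z⟩)).2 (iff_of_false (fun h => hqU (mem_subgroupOf.1 (inv_mem_iff.1 h)))
              (fun h => hq'U (mem_subgroupOf.1 h))))
          simp only [coe_mul, coe_inv] at h1
          have hu := h1.2.2
          have hcm := h1.2.1 q (L.cent hqZ)
          calc q' * q' = q * (q⁻¹ * q') * (q * (q⁻¹ * q')) := by group
            _ = q * ((q⁻¹ * q') * q) * (q⁻¹ * q') := by group
            _ = q * (q * (q⁻¹ * q')) * (q⁻¹ * q') := by rw [← hcm]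
            _ = q * q * ((q⁻¹ * q') * (q⁻¹ * q')) := by group
            _ = q * q := by rw [hu, mul_one]
        have hne : q * q ≠ 1 := fun e =>
          hqU ⟨L.cent hqZ, fun f hf => hzc q hqZ f hf, e⟩
        refine no_fixed_four (by rw [hlU]; norm_num) (hUc y hyN) hyo hsq hne ?_ hzU hz2 hyz
        rw [← conj_mul]
        refine hall _ (L.conj_centralizer hyN q hqZ) fun h => hqU ?_
        simpa [mul_assoc] using hUc y⁻¹ (inv_mem hyN) _ h
      · exact eq_of_le_of_card_ge hUZ (by rw [hlU, hZ8]; norm_num)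
    have hWfull : W = D := eq_of_le_of_card_ge hWD (by
      have h1 := X.card_two_mul (hWD.trans hDS) hZW
      omega)
    have hDel : ∀ d ∈ D, d * d = 1 := by
      intro d hd
      have h1 : W ≤ omegaCenter D := by
        refine sup_le (fun u hu => ⟨hZD hu, fun f hf => hDab f hf u (hZD hu), ?_⟩)
          (fun u hu => ⟨hZ'D hu, fun f hf => hDab f hf u (hZ'D hu), ?_⟩)
        · rw [← hUfull] at hu; exact hu.2.2
        · have h2 : g⁻¹ * u * g ∈ omegaCenter E := hUfull.symm ▸ mem_cj.1 hu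
          calc u * u = g * ((g⁻¹ * u * g) * (g⁻¹ * u * g)) * g⁻¹ := by group
            _ = 1 := by rw [h2.2.2]; group
      rw [hWfull] at h1
      exact (h1 hd).2.2
    have hy2 : y ^ 2 ≠ 1 := by
      intro e
      obtain ⟨m, hm⟩ := hyo
      have h1 := orderOf_dvd_of_pow_eq_one e
      have h2 := Nat.le_of_dvd (by norm_num) h1
      have h3 : orderOf y = 1 := by omega
      exact hy1 (orderOf_eq_one_iff.1 h3)
    have hne2 := hmove (y ^ 2) (pow_mem hyN 2) hy2 (hyo.of_dvd_nat (orderOf_pow_dvd 2))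
    obtain ⟨hD2E, hZD2, hD2ab⟩ := hconjD (y ^ 2) (pow_mem hyN 2)
    have hne12 : cj y D ≠ cj (y ^ 2) D := by
      intro e
      rw [pow_two, cj_mul] at e
      exact hne1 (cj_inj e).symm
    have hc16 : ∀ k : G, Nat.card (cj k D) = 2 ^ (3 + 1) := fun k => by rw [card_cj, hD16]; norm_num
    have i01 := card_inf_eq (n := 3) (A := D) (B := cj y D) (by rw [hD16]; norm_num) (hc16 y)
      hne1.symm hZD hZD1 (by rw [hZ8]; norm_num)
    have i02 := card_inf_eq (n := 3) (A := D) (B := cj (y ^ 2) D) (by rw [hD16]; norm_num) (hc16 _)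
      hne2.symm hZD hZD2 (by rw [hZ8]; norm_num)
    have i12 := card_inf_eq (n := 3) (hc16 y) (hc16 _) hne12 hZD1 hZD2 (by rw [hZ8]; norm_num)
    have hout : ∀ k : G, Z ≤ cj k D → ∃ d ∈ cj k D, d ∉ Z := by
      intro k _
      by_contra hc
      push Not at hc
      have := card_le_of_le (show cj k D ≤ Z from hc)
      rw [card_cj, hD16, hZ8] at this
      omega
    obtain ⟨d0, hd0, hd0Z⟩ := hout 1 (by rw [cj_one]; exact hZD)
    rw [cj_one] at hd0
    obtain ⟨d1, hd1, hd1Z⟩ := hout y hZD1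
    obtain ⟨d2, hd2, hd2Z⟩ := hout (y ^ 2) hZD2
    have hd1D : d1 ∉ D := fun h => hd1Z (i01 ▸ ⟨h, hd1⟩)
    have hd2D : d2 ∉ D := fun h => hd2Z (i02 ▸ ⟨h, hd2⟩)
    have hd2D1 : d2 ∉ cj y D := fun h => hd2Z (i12 ▸ ⟨h, hd2⟩)
    have cov := fun {x : G} (hx : x ∈ E) => four_cover L.cent (hDE hd0) (hD1E hd1) hd0Z hd1Z
      (fun h => hd1D (by simpa using mul_mem hd0 (hZD h)))
      (fun h => hd1D (by simpa using mul_mem (inv_mem hd0) (hZD h))) hzc (by rw [h32, hZ8]) hx
    have hel : ∀ k : G, ∀ x ∈ cj k D, x * x = 1 := fun k x hx => by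
      have := hDel _ (mem_cj.1 hx)
      calc x * x = k * ((k⁻¹ * x * k) * (k⁻¹ * x * k)) * k⁻¹ := by group
        _ = 1 := by rw [this]; group
    have hexp : ∀ x ∈ E, x * x = 1 := by
      intro x hx
      obtain ⟨u, hu, rfl | rfl | rfl | rfl⟩ := cov hx
      · exact hDel _ (hZD hu)
      · exact hDel _ (mul_mem hd0 (hZD hu))
      · exact hel y _ (mul_mem hd1 (hZD1 hu))
      · obtain ⟨u2, hu2, e | e | e | e⟩ := cov (hD2E hd2)
        · exact absurd (e ▸ hu2) hd2Z
        · exact absurd (e ▸ mul_mem hd0 (hZD hu2)) hd2D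
        · exact absurd (e ▸ mul_mem hd1 (hZD1 hu2)) hd2D1
        · have : d0 * d1 * u = d2 * (u2⁻¹ * u) := by rw [e]; group
          rw [this]
          exact hel (y ^ 2) _ (mul_mem hd2 (mul_mem (inv_mem (hZD2 hu2)) (hZD2 hu)))
    apply hab
    calc a * b = (a * b)⁻¹ := (inv_eq_of_mul_eq_one_right (hexp _ (mul_mem ha hb))).symm
      _ = b * a := by
        rw [mul_inv_rev, inv_eq_of_mul_eq_one_right (hexp a ha), inv_eq_of_mul_eq_one_right (hexp b hb)]

/-- The members of the family are abelian. -/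
theorem comm (L : X.Loc E) : ∀ a ∈ E, ∀ b ∈ E, a * b = b * a := by
  intro a ha b hb
  by_contra hab
  obtain ⟨i, hi7, hi⟩ := X.card_eq_pow L.lt.le
  have h1 := L.index_two
  have h2 := X.card_two_mul le_rfl L.inf_lt
  rw [h1, X.card, hi] at h2
  rcases Nat.lt_or_ge i 5 with h | h
  · refine L.not_nonab_sixteen ?_ ha hb hab
    rw [hi]
    calc 2 ^ i ≤ 2 ^ 4 := Nat.pow_le_pow_right (by norm_num) (by omega)
      _ = 16 := by norm_num
  · have h5 : i = 5 := by
      by_contra h5
      have : 2 ^ 6 ≤ 2 ^ i := Nat.pow_le_pow_right (by norm_num) (by omega)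
      omega
    exact L.not_nonab_32 (by rw [hi, h5]; norm_num) ha hb hab

end Setup.Loc

end CfsgLib.MaxSyl
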