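import Mathlib.GroupTheory.Sylow
import Mathlib.GroupTheory.Nilpotent
import Mathlib.GroupTheory.IndexNormal
import Mathlib.GroupTheory.Solvable

/-!
# Simple groups of subgroup length eight with Sylow 2-subgroups of order 128: basic facts
-/

set_option autoImplicit false
set_option linter.style.haveILetI false

namespace CfsgLib.MaxSyl

open Subgroup

variable {G : Type*} [Group G]

/-- `H` is the top of a strictly increasing chain with `n` steps. -/
def Len (H : Subgroup G) (n : ℕ) : Prop :=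
  ∃ c : Fin (n + 1) → Subgroup G, StrictMono c ∧ c (Fin.last n) = H

theorem len_zero (H : Subgroup G) : Len H 0 :=
  ⟨fun _ => H, fun i j h => absurd h (by have := i.2; have := j.2; rw [Fin.lt_def]; omega), rfl⟩

theorem Len.step {H K : Subgroup G} {n : ℕ} (h : Len H n) (hHK : H < K) : Len K (n + 1) := by
  obtain ⟨c, hc, hl⟩ := h
  refine ⟨Fin.snoc c K, Fin.strictMono_iff_lt_succ.2 fun i => ?_, by simp⟩
  rw [Fin.snoc_castSucc]
  rcases Fin.eq_castSucc_or_eq_last i with ⟨j, rfl⟩ | rfl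
  · rw [← Fin.castSucc_succ, Fin.snoc_castSucc]
    exact hc (Fin.castSucc_lt_succ (i := j))
  · rw [Fin.succ_last, Fin.snoc_last, hl]; exact hHK

theorem len_of_card [Finite G] : ∀ (n : ℕ) (H : Subgroup G), Nat.card H = 2 ^ n → Len H n := by
  intro n
  induction n with
  | zero => exact fun H _ => len_zero H
  | succ n ih =>
    intro H hH
    haveI : Fact (Nat.Prime 2) := ⟨Nat.prime_two⟩
    obtain ⟨K, hK⟩ := Sylow.exists_subgroup_card_pow_prime (G := H) 2 (n := n)
      (by rw [hH]; exact pow_dvd_pow 2 (by omega))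
    have hcard : Nat.card (K.map H.subtype) = 2 ^ n := by
      rw [card_map_of_injective H.subtype_injective, hK]
    refine (ih _ hcard).step (lt_of_le_of_ne (map_subtype_le K) fun e => ?_)
    rw [e, hH] at hcard
    exact absurd hcard (Nat.ne_of_gt (Nat.pow_lt_pow_right (by norm_num) (by omega)))

/-- The data of the problem. -/
structure Setup (G : Type*) [Group G] [Finite G] where
  S : Sylow 2 G
  card : Nat.card (S : Subgroup G) = 2 ^ 7
  nine : ∀ c : Fin 10 → Subgroup G, ¬ StrictMono c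
  simple : IsSimpleGroup G
  nab : ¬ IsMulCommutative G

namespace Setup

variable [Finite G] (X : Setup G)

include X in
theorem not_len_nine (H : Subgroup G) : ¬ Len H 9 := fun ⟨c, hc, _⟩ => X.nine c hc

theorem S_ne_top : (X.S : Subgroup G) ≠ ⊤ := by
  intro h
  haveI := X.simple
  haveI : Fact (Nat.Prime 2) := ⟨Nat.prime_two⟩
  haveI : Group.IsNilpotent G := by
    have hp : IsPGroup 2 G :=
      X.S.isPGroup'.of_equiv ((MulEquiv.subgroupCongr h).trans Subgroup.topEquiv)
    exact hp.isNilpotent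
  refine X.nab ⟨⟨IsSimpleGroup.comm_iff_isSolvable.2 inferInstance⟩⟩

/-- The Sylow subgroup is maximal. -/
theorem eq_of_le {H : Subgroup G} (h : (X.S : Subgroup G) ≤ H) : H = X.S ∨ H = ⊤ := by
  by_contra hc
  push Not at hc
  exact X.not_len_nine _ (((len_of_card 7 _ X.card).step (lt_of_le_of_ne h (Ne.symm hc.1))).step
    (lt_top_iff_ne_top.2 hc.2))

theorem normalizer_eq {D : Subgroup G} (hD : D ≠ ⊥) (hDS : D ≤ X.S)
    (h : (X.S : Subgroup G) ≤ normalizer (D : Set G)) : normalizer (D : Set G) = X.S := by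
  refine (X.eq_of_le h).resolve_right fun ht => ?_
  haveI := X.simple
  rcases (normalizer_eq_top_iff.1 ht).eq_bot_or_eq_top with h1 | h1
  · exact hD h1
  · exact X.S_ne_top (top_le_iff.1 (h1 ▸ hDS))

/-- Nothing of odd order normalizes a nontrivial normal subgroup of the Sylow subgroup. -/
theorem odd_not_normalize {D : Subgroup G} (hD : D ≠ ⊥) (hDS : D ≤ X.S)
    (h : (X.S : Subgroup G) ≤ normalizer (D : Set G)) {x : G} (hx : x ∈ normalizer (D : Set G))
    (ho : Odd (orderOf x)) : x = 1 := by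
  rw [X.normalizer_eq hD hDS h] at hx
  obtain ⟨k, hk⟩ := IsPGroup.iff_orderOf.1 X.S.isPGroup' ⟨x, hx⟩
  rw [orderOf_mk] at hk
  rw [hk] at ho
  rcases Nat.eq_zero_or_pos k with rfl | hk0
  · rw [← orderOf_eq_one_iff, hk, pow_zero]
  · exact absurd ho (Nat.not_odd_iff_even.2 (Nat.even_pow.2 ⟨even_two, by omega⟩))

theorem centralizer_eq {z : G} (hz : z ∈ (X.S : Subgroup G))
    (hc : ∀ s ∈ (X.S : Subgroup G), s * z = z * s) (h1 : z ≠ 1) :
    centralizer ({z} : Set G) = X.S := by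
  refine (X.eq_of_le fun s hs => mem_centralizer_singleton_iff.2 (hc s hs)).resolve_right fun ht => ?_
  haveI := X.simple
  have hn : (zpowers z).Normal := by
    refine ⟨fun w hw g => ?_⟩
    have hg : g ∈ centralizer ({z} : Set G) := ht ▸ mem_top g
    obtain ⟨k, rfl⟩ := mem_zpowers_iff.1 hw
    have hcm : Commute g z := mem_centralizer_singleton_iff.1 hg
    rw [(hcm.zpow_right k).eq, mul_inv_cancel_right]
    exact zpow_mem (mem_zpowers z) k
  rcases hn.eq_bot_or_eq_top with h | h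
  · exact h1 (zpowers_eq_bot.1 h)
  · exact X.S_ne_top (top_le_iff.1 (h ▸ zpowers_le.2 hz))

/-- No element of odd order centralises a central element of the Sylow subgroup. -/
theorem odd_not_centralize {z : G} (hz : z ∈ (X.S : Subgroup G))
    (hc : ∀ s ∈ (X.S : Subgroup G), s * z = z * s) (h1 : z ≠ 1) {x : G} (hxz : x * z = z * x)
    (ho : Odd (orderOf x)) : x = 1 := by
  have hmem : x ∈ (X.S : Subgroup G) := by
    rw [← X.centralizer_eq hz hc h1]; exact mem_centralizer_singleton_iff.2 hxz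
  obtain ⟨k, hk⟩ := IsPGroup.iff_orderOf.1 X.S.isPGroup' ⟨x, hmem⟩
  rw [orderOf_mk] at hk
  rw [hk] at ho
  rcases Nat.eq_zero_or_pos k with rfl | hk0
  · rw [← orderOf_eq_one_iff, hk, pow_zero]
  · exact absurd ho (Nat.not_odd_iff_even.2 (Nat.even_pow.2 ⟨even_two, by omega⟩))

/-- Normalizers grow in the Sylow subgroup. -/
theorem exists_normalizing {D A : Subgroup G} (hA : A ≤ X.S) (hDA : D < A) :
    ∃ g ∈ A, g ∉ D ∧ g ∈ normalizer (D : Set G) := by
  haveI : Fact (Nat.Prime 2) := ⟨Nat.prime_two⟩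
  haveI : Group.IsNilpotent A := (X.S.isPGroup'.to_le hA).isNilpotent
  have hne : D.subgroupOf A < ⊤ := by
    rw [lt_top_iff_ne_top, ne_eq, subgroupOf_eq_top]; exact hDA.not_ge
  obtain ⟨y, hy, hyD⟩ := SetLike.exists_of_lt (Group.normalizerCondition_of_isNilpotent (G := A) _ hne)
  refine ⟨y, y.2, fun h => hyD (mem_subgroupOf.2 h), ?_⟩
  rw [mem_normalizer_iff] at hy ⊢
  intro a
  by_cases ha : a ∈ A
  · simpa [mem_subgroupOf] using hy ⟨a, ha⟩
  · constructor
    · intro h; exact absurd (hDA.le h) ha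
    · intro h
      refine absurd ?_ ha
      have := mul_mem (mul_mem (inv_mem y.2) (hDA.le h)) y.2
      simpa [mul_assoc] using this

theorem card_eq_pow {D : Subgroup G} (hD : D ≤ X.S) : ∃ k ≤ 7, Nat.card D = 2 ^ k := by
  haveI : Fact (Nat.Prime 2) := ⟨Nat.prime_two⟩
  have h := Subgroup.card_dvd_of_le hD
  rw [X.card] at h
  exact (Nat.dvd_prime_pow Nat.prime_two).1 h

theorem card_two_mul {D A : Subgroup G} (hA : A ≤ X.S) (hDA : D < A) :
    2 * Nat.card D ≤ Nat.card A := by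
  obtain ⟨i, _, hi⟩ := X.card_eq_pow (hDA.le.trans hA)
  obtain ⟨j, _, hj⟩ := X.card_eq_pow hA
  have hlt : Nat.card D < Nat.card A := by
    refine lt_of_le_of_ne (card_le_of_le hDA.le) fun e => hDA.ne ?_
    exact eq_of_le_of_card_ge hDA.le e.ge
  rw [hi, hj] at hlt ⊢
  calc 2 * 2 ^ i = 2 ^ (i + 1) := by ring
    _ ≤ 2 ^ j := Nat.pow_le_pow_right (by norm_num) ((Nat.pow_lt_pow_iff_right (by norm_num)).1 hlt)

/-- A subgroup of the Sylow subgroup fixes an involution in a nontrivial subgroup it normalizes. -/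
theorem exists_fixed {D A : Subgroup G} (hD : D ≠ ⊥) (hDS : D ≤ X.S) (hA : A ≤ X.S)
    (h : A ≤ normalizer (D : Set G)) :
    ∃ z ∈ D, z ≠ 1 ∧ z * z = 1 ∧ ∀ s ∈ A, s * z = z * s := by
  haveI : Fact (Nat.Prime 2) := ⟨Nat.prime_two⟩
  letI act : MulAction A D :=
    { smul := fun x w => ⟨(x : G) * w * (x : G)⁻¹, (mem_normalizer_iff.1 (h x.2) w).1 w.2⟩
      one_smul := fun w => Subtype.ext (by show (1 : G) * w * (1 : G)⁻¹ = w; simp)
      mul_smul := fun x y w => Subtype.ext (by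
        show ((x : G) * y) * w * ((x : G) * y)⁻¹ = (x : G) * ((y : G) * w * (y : G)⁻¹) * (x : G)⁻¹
        group) }
  have hd : 2 ∣ Nat.card D := by
    obtain ⟨k, _, hk⟩ := X.card_eq_pow hDS
    rw [hk]
    refine dvd_pow_self 2 fun e => hD ?_
    rw [e, pow_zero] at hk
    exact eq_bot_of_card_le D hk.le
  obtain ⟨w, hw, hne⟩ := (X.S.isPGroup'.to_le hA).exists_fixed_point_of_prime_dvd_card_of_fixed_point D hd
    (a := 1) (fun x => Subtype.ext (by show (x : G) * (1 : G) * (x : G)⁻¹ = 1; simp))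
  have hw1 : ∀ s ∈ A, Commute s (w : G) := fun s hs =>
    mul_inv_eq_iff_eq_mul.1 (congrArg Subtype.val (hw ⟨s, hs⟩))
  obtain ⟨k, hk⟩ := IsPGroup.iff_orderOf.1 (X.S.isPGroup'.to_le hDS) w
  rcases Nat.eq_zero_or_pos k with rfl | hk0
  · exact absurd (orderOf_eq_one_iff.1 (by rw [hk, pow_zero])).symm hne
  rw [← orderOf_coe] at hk
  refine ⟨(w : G) ^ 2 ^ (k - 1), pow_mem w.2 _, fun e => ?_, ?_, fun s hs => ((hw1 s hs).pow_right _).eq⟩
  · have h1 := orderOf_dvd_of_pow_eq_one e
    rw [hk, Nat.pow_dvd_pow_iff_le_right (by norm_num)] at h1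
    omega
  · rw [← pow_add, ← two_mul, ← pow_succ', Nat.sub_add_cancel hk0, ← hk]
    exact pow_orderOf_eq_one _

theorem exists_central {D : Subgroup G} (hD : D ≠ ⊥) (hDS : D ≤ X.S)
    (h : (X.S : Subgroup G) ≤ normalizer (D : Set G)) :
    ∃ z ∈ D, z ≠ 1 ∧ z * z = 1 ∧ ∀ s ∈ (X.S : Subgroup G), s * z = z * s :=
  X.exists_fixed hD hDS le_rfl h

end Setup

end CfsgLib.MaxSyl
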