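import Cfsg.Agent.Lib.MaxSylow128.NotTwo
import Cfsg.Agent.Lib.SelfCentEight.Small
import Cfsg.Agent.Lib.PSL2Sub.Small

/-!
# The Sylow subgroup is dihedral
-/

set_option autoImplicit false
set_option linter.style.haveILetI false
set_option linter.unusedSectionVars false

namespace CfsgLib.MaxSyl

open Subgroup CfsgLib.ConjFunctor

universe u

variable {G : Type u} [Group G] [Finite G]

private theorem sq_roots : ∀ k < 64, k * k % 64 = 1 → k = 1 ∨ k = 31 ∨ k = 33 ∨ k = 63 := by decide

set_option maxHeartbeats 1000000 in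
theorem Setup.dihedral (X : Setup G) : Nonempty ((X.S : Subgroup G) ≃* DihedralGroup 64) := by
  classical
  haveI : Fact (Nat.Prime 2) := ⟨Nat.prime_two⟩
  obtain ⟨E, e, h1⟩ := X.exists_card_Q_one
  have hE : Nat.card E = 4 := by rw [e.card_E, h1]
  have haS : e.a ∈ (X.S : Subgroup G) := e.loc.lt.le e.a_mem
  set a : (X.S : Subgroup G) := ⟨e.a, haS⟩ with ha
  have hcent : ∀ s : (X.S : Subgroup G), s * a = a * s → (s : G) ∈ E := fun s hs =>
    e.cent_out e.a_mem e.a_not_D s.2 (congrArg Subtype.val hs)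
  have hcle : ∀ H : Subgroup (X.S : Subgroup G), (∀ s ∈ H, s * a = a * s) → Nat.card H ≤ 4 := by
    intro H hH
    have h := card_le_of_le (show H.map (X.S : Subgroup G).subtype ≤ E by
      rintro _ ⟨s, hs, rfl⟩; exact hcent s (hH s hs))
    rwa [card_map_of_injective (subtype_injective _), hE] at h
  obtain ⟨c, hc⟩ : ∃ c : (X.S : Subgroup G), (zpowers c).index ≤ 2 := by
    refine (CfsgLib.SelfCentEight.exists_cyclic X.S.isPGroup' a
      (hcle _ fun s hs => mem_centralizer_singleton_iff.1 hs)).resolve_left ?_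
    rw [X.card]; norm_num
  have hcard := (zpowers c).card_mul_index
  rw [X.card] at hcard
  have hidx : (zpowers c).index = 2 := by
    have h0 := index_ne_zero_of_finite (H := zpowers c)
    by_contra h2
    have h3 : (zpowers c).index = 1 := by omega
    have htop := index_eq_one.1 h3
    have h4 := hcle ⊤ fun s _ => by
      obtain ⟨i, rfl⟩ := mem_zpowers_iff.1 (htop ▸ mem_top s)
      obtain ⟨j, hj⟩ := mem_zpowers_iff.1 (htop ▸ mem_top a)
      rw [← hj, ← zpow_add, ← zpow_add, add_comm]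
    rw [card_top, X.card] at h4
    norm_num at h4
  rw [hidx, Nat.card_zpowers] at hcard
  have hord : orderOf c = 64 := by omega
  have hac : a ∉ zpowers c := by
    intro h
    obtain ⟨j, hj⟩ := mem_zpowers_iff.1 h
    have h4 := hcle (zpowers c) fun s hs => by
      obtain ⟨i, rfl⟩ := mem_zpowers_iff.1 hs
      rw [← hj, ← zpow_add, ← zpow_add, add_comm]
    rw [Nat.card_zpowers, hord] at h4
    norm_num at h4
  have haa : a * a = 1 := Subtype.ext e.pr.sqw
  have hai : a⁻¹ = a := inv_eq_of_mul_eq_one_right haa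
  haveI := normal_of_index_eq_two hidx
  obtain ⟨k, hk, hkc⟩ : ∃ k < 64, c ^ k = a * c * a⁻¹ := by
    have h5 : a * c * a⁻¹ ∈ zpowers c := Normal.conj_mem inferInstance c (mem_zpowers c) a
    obtain ⟨k, hk, hk'⟩ := Finset.mem_image.1 (mem_zpowers_iff_mem_range_orderOf.1 h5)
    rw [Finset.mem_range, hord] at hk
    exact ⟨k, hk, hk'⟩
  have hconj : ∀ i : ℤ, a * c ^ i * a⁻¹ = c ^ ((k : ℤ) * i) := fun i => by
    rw [← conj_zpow, ← hkc, zpow_mul, zpow_natCast]
  have hk2 : k * k % 64 = 1 := by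
    have h5 : c ^ (k * k) = c := by
      rw [pow_mul, hkc, conj_pow, hkc]
      calc a * (a * c * a⁻¹) * a⁻¹ = (a * a) * c * (a * a)⁻¹ := by group
        _ = c := by rw [haa]; group
    have h6 := (pow_inj_mod (n := k * k) (m := 1)).1 (by rw [h5, pow_one])
    rw [hord] at h6
    exact h6
  have hform : ∀ s : (X.S : Subgroup G), ∃ i : ℤ, s = c ^ i ∨ s = a * c ^ i := by
    intro s
    by_cases hs : s ∈ zpowers c
    · obtain ⟨i, hi⟩ := mem_zpowers_iff.1 hs
      exact ⟨i, Or.inl hi.symm⟩
    · have h5 : a⁻¹ * s ∈ zpowers c := (mul_mem_iff_of_index_two hidx).2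
        (iff_of_false (fun h => hac (inv_mem_iff.1 h)) hs)
      obtain ⟨i, hi⟩ := mem_zpowers_iff.1 h5
      exact ⟨i, Or.inr (by rw [hi, mul_inv_cancel_left])⟩
  rcases sq_roots k hk hk2 with rfl | rfl | rfl | rfl
  · exfalso
    have h4 := hcle (zpowers c) fun s hs => by
      obtain ⟨i, rfl⟩ := mem_zpowers_iff.1 hs
      have h5 := hconj i
      rw [Nat.cast_one, one_mul] at h5
      exact (mul_inv_eq_iff_eq_mul.1 h5).symm
    rw [Nat.card_zpowers, hord] at h4
    norm_num at h4
  · exfalso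
    have hswap : ∀ i : ℤ, c ^ i * a = a * c ^ (31 * i) := by
      intro i
      have h5 := hconj i
      calc c ^ i * a = a * (a * c ^ i * a⁻¹) * (a * a) * (a * a) := by
            rw [haa]; simp only [mul_one]
            calc c ^ i * a = (a * a) * c ^ i * a := by rw [haa, one_mul]
              _ = _ := by rw [hai]; group
        _ = _ := by rw [haa, h5]; simp
    have hpar : ∀ i j : ℤ, c ^ i = c ^ j → (Even i ↔ Even j) := by
      intro i j hij
      rw [zpow_eq_zpow_iff_modEq, hord] at hij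
      obtain ⟨d, hd⟩ := Int.modEq_iff_dvd.1 hij
      rw [show j = i + 2 * (32 * d) by push_cast at hd; linarith, Int.even_add]
      simp
    let M : Subgroup (X.S : Subgroup G) :=
      { carrier := {s | ∃ i : ℤ, Even i ∧ (s = c ^ i ∨ s = a * c ^ i)}
        one_mem' := ⟨0, by simp, Or.inl (zpow_zero c).symm⟩
        mul_mem' := by
          rintro p q ⟨i, hi, hp⟩ ⟨j, hj, hq⟩
          have hij : Even (31 * i + j) := (hi.mul_left 31).add hj
          rcases hp with rfl | rfl <;> rcases hq with rfl | rfl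
          · exact ⟨i + j, hi.add hj, Or.inl (zpow_add c i j).symm⟩
          · exact ⟨_, hij, Or.inr (by rw [← mul_assoc, hswap, mul_assoc, zpow_add])⟩
          · exact ⟨i + j, hi.add hj, Or.inr (by rw [mul_assoc, zpow_add])⟩
          · exact ⟨_, hij, Or.inl (by
              rw [mul_assoc a, ← mul_assoc (c ^ i), hswap, mul_assoc a (c ^ (31 * i)), ← mul_assoc a a, haa,
                one_mul, zpow_add])⟩
        inv_mem' := by
          rintro p ⟨i, hi, hp⟩
          rcases hp with rfl | rfl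
          · exact ⟨-i, hi.neg, Or.inl (zpow_neg c i).symm⟩
          · exact ⟨31 * -i, hi.neg.mul_left 31, Or.inr (by rw [mul_inv_rev, hai, ← zpow_neg, hswap])⟩ }
    have hMmem : ∀ i : ℤ, (c ^ i ∈ M ↔ Even i) ∧ (a * c ^ i ∈ M ↔ Even i) := by
      intro i
      refine ⟨⟨?_, fun hi => ⟨i, hi, Or.inl rfl⟩⟩, ⟨?_, fun hi => ⟨i, hi, Or.inr rfl⟩⟩⟩
      · rintro ⟨j, hj, h | h⟩
        · exact (hpar i j h).2 hj
        · refine absurd ?_ hac
          have : a = c ^ i * (c ^ j)⁻¹ := by rw [h, mul_inv_cancel_right]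
          rw [this]
          exact mul_mem (zpow_mem (mem_zpowers c) i) (inv_mem (zpow_mem (mem_zpowers c) j))
      · rintro ⟨j, hj, h | h⟩
        · refine absurd ?_ hac
          have : a = c ^ j * (c ^ i)⁻¹ := by rw [← h, mul_inv_cancel_right]
          rw [this]
          exact mul_mem (zpow_mem (mem_zpowers c) j) (inv_mem (zpow_mem (mem_zpowers c) i))
        · exact (hpar i j (mul_left_cancel h)).2 hj
    have hM2 : M.index = 2 := by
      rw [index_eq_two_iff]
      refine ⟨c, fun b => ?_⟩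
      have hxor : ∀ i : ℤ, Xor (Even (i + 1)) (Even i) := fun i => by
        by_cases hi : Even i
        · exact Or.inr ⟨hi, fun h => Int.even_add_one.1 h hi⟩
        · exact Or.inl ⟨Int.even_add_one.2 hi, hi⟩
      obtain ⟨i, rfl | rfl⟩ := hform b
      · rw [← zpow_add_one, (hMmem (i + 1)).1, (hMmem i).1]
        exact hxor i
      · rw [mul_assoc, ← zpow_add_one, (hMmem (i + 1)).2, (hMmem i).2]
        exact hxor i
    haveI := normal_of_index_eq_two hM2
    have hcm : ∀ p ∈ (X.S : Subgroup G), ∀ q ∈ (X.S : Subgroup G),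
        p⁻¹ * q⁻¹ * p * q ∈ M.map (X.S : Subgroup G).subtype := by
      intro p hp q hq
      refine ⟨(⟨p, hp⟩ : (X.S : Subgroup G))⁻¹ * ⟨q, hq⟩⁻¹ * ⟨p, hp⟩ * ⟨q, hq⟩, ?_, rfl⟩
      show _ ∈ M
      simp only [mul_mem_iff_of_index_two hM2, inv_mem_iff]
      tauto
    obtain ⟨E', e', -, ha'⟩ := X.exists_moved_notin hcm fun hle => by
      have h5 := card_le_of_le hle
      rw [card_map_of_injective (subtype_injective _)] at h5
      have h6 := M.card_mul_index
      rw [hM2] at h6
      have h7 := X.card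
      omega
    apply ha'
    set a' : (X.S : Subgroup G) := ⟨e'.a, e'.loc.lt.le e'.a_mem⟩ with ha''
    refine ⟨a', ?_, rfl⟩
    have haa' : a' * a' = 1 := Subtype.ext e'.pr.sqw
    show a' ∈ M
    obtain ⟨i, hi | hi⟩ := hform a' <;> rw [hi] at haa' ⊢
    · refine (hMmem i).1.2 ?_
      rw [← zpow_add, ← orderOf_dvd_iff_zpow_eq_one, hord] at haa'
      obtain ⟨d, hd⟩ := haa'
      rw [show i = 2 * (16 * d) by push_cast at hd; linarith]
      exact even_two_mul _
    · refine (hMmem i).2.2 ?_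
      rw [mul_assoc a, ← mul_assoc (c ^ i), hswap, mul_assoc a (c ^ (31 * i)), ← mul_assoc a a, haa,
        one_mul, ← zpow_add, ← orderOf_dvd_iff_zpow_eq_one, hord] at haa'
      obtain ⟨d, hd⟩ := haa'
      rw [show i = 2 * d by push_cast at hd; linarith]
      exact even_two_mul _
  · exfalso
    have h4 := hcle (zpowers (c ^ 2)) fun s hs => by
      obtain ⟨i, rfl⟩ := mem_zpowers_iff.1 hs
      have h5 := hconj (2 * i)
      rw [show ((33 : ℕ) : ℤ) * (2 * i) = 2 * i + (64 : ℕ) * i by push_cast; ring, zpow_add,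
        zpow_mul _ ((64 : ℕ) : ℤ), zpow_natCast, ← hord, pow_orderOf_eq_one, one_zpow, mul_one] at h5
      rw [← zpow_natCast c 2, ← zpow_mul]
      exact (mul_inv_eq_iff_eq_mul.1 h5).symm
    rw [Nat.card_zpowers, orderOf_pow' c two_ne_zero, hord] at h4
    norm_num at h4
  · have hinvc : ∀ i : ℤ, a * c ^ i * a⁻¹ = c ^ (-i) := fun i => by
      rw [hconj, show ((63 : ℕ) : ℤ) * i = -i + (64 : ℕ) * i by push_cast; ring, zpow_add,
        zpow_mul _ ((64 : ℕ) : ℤ), zpow_natCast, ← hord, pow_orderOf_eq_one, one_zpow, mul_one]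
    have h := CfsgLib.PSL2Sub.dihedral_of_index_two (zpowers c) hidx inferInstance fun x hx => by
      obtain ⟨i, rfl | rfl⟩ := hform x
      · exact absurd (zpow_mem (mem_zpowers c) i) hx
      · calc a * c ^ i * (a * c ^ i) = (a * c ^ i * a⁻¹) * (a * a) * c ^ i := by group
          _ = 1 := by rw [hinvc, haa, mul_one, ← zpow_add, neg_add_cancel, zpow_zero]
    rwa [Nat.card_zpowers, hord] at h

end CfsgLib.MaxSyl
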