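import Cfsg.Agent.Lib.MaxSylow128.Facts

/-!
# The fixed part of a member of the family has order at most four
-/

set_option autoImplicit false
set_option linter.style.haveILetI false
set_option linter.unusedSectionVars false

namespace CfsgLib.MaxSyl

open Subgroup CfsgLib.ConjFunctor

variable {G : Type*} [Group G] [Finite G]

namespace Ess

variable {X : Setup G} {E : Subgroup G}

theorem card_Q (e : Ess X E) :
    Nat.card e.Q = 1 ∨ Nat.card e.Q = 2 ∨ Nat.card e.Q = 4 := by
  have hQS : e.Q ≤ X.S := fun q hq => e.loc.lt.le (e.mem_Q.1 hq).1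
  obtain ⟨i, -, hi⟩ := X.card_eq_pow hQS
  have h1 := e.card_E
  have h2 := e.card_R
  have h3 := X.card_two_mul le_rfl e.loc.inf_lt
  rw [X.card] at h3
  change 2 * Nat.card (X.R E) ≤ 2 ^ 7 at h3
  rw [hi] at h1 ⊢
  have hi3 : i ≤ 3 := by
    by_contra h
    have : 2 ^ 4 ≤ 2 ^ i := Nat.pow_le_pow_right (by norm_num) (by omega)
    omega
  interval_cases i <;> try (norm_num; done)
  -- order eight is impossible
  exfalso
  have hE : Nat.card E = 32 := by rw [h1]; norm_num
  have hSR : (X.S : Subgroup G) ≤ normalizer (X.R E : Set G) := e.loc.le_normalizer_of_card hE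
  have hgD := e.normalize_D e.g_nm
  have hQ'D : cj e.g e.Q ≤ e.D := by
    rw [← cj_eq_self_iff.2 hgD]; exact cj_mono e.Q_le
  have h4 := card_mul_card_le e.Q_le hQ'D
  rw [card_cj, hi, e.card_D, hi] at h4
  have hne : e.Q ⊓ cj e.g e.Q ≠ ⊥ := fun h => by
    rw [h, card_bot] at h4
    norm_num at h4
  have hidx : ((X.R E).subgroupOf (X.S : Subgroup G)).index = 2 := by
    have h5 := ((X.R E).subgroupOf (X.S : Subgroup G)).card_mul_index
    rw [Nat.card_congr (subgroupOfEquivOfLe (inf_le_left : X.R E ≤ X.S)).toEquiv, h2, hE, X.card] at h5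
    omega
  have hRfix : ∀ T : Subgroup G, T ≤ e.D → ∀ r ∈ X.R E, cj r T = T := by
    intro T hT r hr
    rw [cj_eq_self_iff]
    refine mem_normalizer_of_both (fun x hx => ?_) (fun x hx => ?_)
    · rw [e.D_comm (hT hx) hr, mul_inv_cancel_right]; exact hx
    · rw [e.D_comm (hT hx) (inv_mem hr), inv_mul_cancel_right]; exact hx
  refine e.not_normalized inf_le_left hne fun s hs => ?_
  rw [← cj_eq_self_iff]
  by_cases hsR : s ∈ X.R E
  · exact hRfix _ (inf_le_left.trans e.Q_le) s hsR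
  · have h6 := mem_subgroupOf.1 ((mul_mem_iff_of_index_two hidx (a := ⟨e.g, e.g_mem⟩⁻¹)
      (b := ⟨s, hs⟩)).2 (iff_of_false (fun h => e.g_not (mem_subgroupOf.1 (inv_mem_iff.1 h)))
        (fun h => hsR (mem_subgroupOf.1 h))))
    simp only [coe_mul, coe_inv] at h6
    have h7 : cj (e.g * e.g) e.Q = e.Q :=
      hRfix _ e.Q_le _ (mem_subgroupOf.1 (mul_self_mem_of_index_two hidx ⟨e.g, e.g_mem⟩))
    have h8 : cj e.g (e.Q ⊓ cj e.g e.Q) = e.Q ⊓ cj e.g e.Q := by
      rw [cj_inf, ← cj_mul, h7, inf_comm]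
    rw [show s = e.g * (e.g⁻¹ * s) by group, cj_mul, hRfix _ (inf_le_left.trans e.Q_le) _ h6, h8]

end Ess

end CfsgLib.MaxSyl
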