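import Cfsg.Agent.Lib.MaxSylow128.Basic
import Cfsg.Agent.Lib.LocEven.StrongAlperin
import Cfsg.Agent.Lib.Transfer.Focal

/-!
# Local subgroups producing all of the focal subgroup
-/

set_option autoImplicit false
set_option linter.style.haveILetI false

namespace CfsgLib.MaxSyl

open Subgroup CfsgLib.LocEven.StrongAlperin CfsgLib.ConjFunctor
open scoped commutatorElement

variable {G : Type*} [Group G] [Finite G]

/-- The members of the conjugation family. -/
structure Setup.Loc (X : Setup G) (E : Subgroup G) : Prop where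
  lt : E < X.S
  cent : centralizer (E : Set G) ≤ E
  sylow : ¬ 2 ∣ ((X.S : Subgroup G) ⊓ normalizer (E : Set G)).relIndex (normalizer (E : Set G))
  core : ∀ Y : Subgroup G, E ≤ Y → IsPGroup 2 Y → Y ≤ normalizer (E : Set G) →
    normalizer (E : Set G) ≤ normalizer (Y : Set G) → Y ≤ E

theorem Setup.exists_center (X : Setup G) :
    ∃ z ∈ (X.S : Subgroup G), z ≠ 1 ∧ z * z = 1 ∧ ∀ s ∈ (X.S : Subgroup G), s * z = z * s := by
  refine X.exists_central (fun h => ?_) le_rfl le_normalizer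
  have := X.card
  rw [h, card_bot] at this
  norm_num at this

theorem Setup.loc_of_fam (X : Setup G) {E : Subgroup G} (h : Fam 2 (X.S : Subgroup G) E) : X.Loc E := by
  haveI : Fact (Nat.Prime 2) := ⟨Nat.prime_two⟩
  obtain ⟨hC, hcore⟩ := fam_props X.S h
  have hcent : centralizer (E : Set G) ≤ E := by
    intro c hc
    obtain ⟨z, hzS, hz1, -, hz⟩ := X.exists_center
    have hzE : z ∈ E := hC ⟨hzS, mem_centralizer_iff.2 fun e he => hz e (h.1.le he)⟩
    refine hC ⟨?_, hc⟩
    rw [← X.centralizer_eq hzS hz hz1]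
    exact mem_centralizer_singleton_iff.2 (mem_centralizer_iff.1 hc z hzE).symm
  refine ⟨h.1, hcent, h.2.1.2.not_dvd, fun Y _ hY hYN hNY => ?_⟩
  set N := normalizer (E : Set G)
  haveI : (Y.subgroupOf N).Normal := (normal_subgroupOf_iff_le_normalizer hYN).2 hNY
  have h1 : Y.subgroupOf N ≤ Cfsg.pPrimePCore 2 N := by
    intro a ha
    show QuotientGroup.mk' (Cfsg.pPrimeCore 2 N) a ∈ Cfsg.pCore 2 (N ⧸ Cfsg.pPrimeCore 2 N)
    haveI : ((Y.subgroupOf N).map (QuotientGroup.mk' (Cfsg.pPrimeCore 2 N))).Normal :=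
      Subgroup.Normal.map inferInstance _ (QuotientGroup.mk'_surjective _)
    exact (le_sSup (α := Subgroup (N ⧸ Cfsg.pPrimeCore 2 N))
      (show (Y.subgroupOf N).map (QuotientGroup.mk' (Cfsg.pPrimeCore 2 N)) ∈
        {K : Subgroup (N ⧸ Cfsg.pPrimeCore 2 N) | K.Normal ∧ IsPGroup 2 K} from
        ⟨inferInstance, (hY.of_equiv (subgroupOfEquivOfLe hYN).symm).map _⟩)) (mem_map_of_mem _ ha)
  calc Y = (Y.subgroupOf N).map N.subtype := (map_subgroupOf_eq_of_le hYN).symm
    _ ≤ _ := (map_mono h1).trans hcore.le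
    _ ≤ E := sup_le le_rfl hcent

theorem exists_escape (X : Setup G) {M : Subgroup G}
    (hMS : ∀ a ∈ (X.S : Subgroup G), ∀ b ∈ (X.S : Subgroup G), a⁻¹ * b⁻¹ * a * b ∈ M)
    (hlt : ¬ (X.S : Subgroup G) ≤ M) :
    ∃ E : Subgroup G, X.Loc E ∧ ∃ x ∈ normalizer (E : Set G), Odd (orderOf x) ∧
      ∃ u ∈ E, u⁻¹ * (x⁻¹ * u * x) ∉ M := by
  haveI : Fact (Nat.Prime 2) := ⟨Nat.prime_two⟩
  by_contra hno
  push Not at hno
  apply hlt
  have hstep : ∀ U : Subgroup G, Fam 2 (X.S : Subgroup G) U → ∀ x ∈ stepGroup 2 U,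
      x ∈ normalizer (U : Set G) ∧ ∀ u ∈ U, u⁻¹ * (x⁻¹ * u * x) ∈ M := by
    intro U hU x hx
    induction hx using Subgroup.closure_induction with
    | mem x hx =>
      obtain ⟨hxN, hco, -⟩ := hx
      refine ⟨hxN, hno U (X.loc_of_fam hU) x hxN ?_⟩
      rw [Nat.odd_iff]
      by_contra hh
      have h2 : 2 ∣ Nat.gcd (orderOf x) 2 := Nat.dvd_gcd (by omega) dvd_rfl
      rw [hco] at h2
      norm_num at h2
    | one => exact ⟨one_mem _, fun u _ => by simp⟩
    | mul a b _ _ iha ihb =>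
      refine ⟨mul_mem iha.1 ihb.1, fun u hu => ?_⟩
      have hu' : a⁻¹ * u * a ∈ U := by simpa using (mem_normalizer_iff.1 (inv_mem iha.1) u).1 hu
      have h3 := mul_mem (iha.2 u hu) (ihb.2 _ hu')
      convert h3 using 1
      group
    | inv a _ iha =>
      refine ⟨inv_mem iha.1, fun u hu => ?_⟩
      have hu' : a * u * a⁻¹ ∈ U := (mem_normalizer_iff.1 iha.1 u).1 hu
      have h3 := inv_mem (iha.2 _ hu')
      convert h3 using 1
      group
  have hchain : ∀ (D : Subgroup G) (Y : G), SC 2 (X.S : Subgroup G) D Y → D ≤ X.S →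
      ∀ d ∈ D, Y⁻¹ * d * Y ∈ (X.S : Subgroup G) ∧ d⁻¹ * (Y⁻¹ * d * Y) ∈ M := by
    intro D Y h
    induction h with
    | nil D => intro hD d hd; simpa using hD hd
    | cons D U x Y hDU hU hx _ ih =>
      intro _ d hd
      obtain ⟨hxN, hxM⟩ := hstep U hU x hx
      have hle : cj x⁻¹ D ≤ (X.S : Subgroup G) := by
        intro e he
        rw [mem_cj, inv_inv] at he
        have h4 : x⁻¹ * (x * e * x⁻¹) * x ∈ U := by
          simpa using (mem_normalizer_iff.1 (inv_mem hxN) _).1 (hDU he)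
        exact hU.1.le (by simpa [mul_assoc] using h4)
      have hd' : x⁻¹ * d * x ∈ cj x⁻¹ D := by rw [mem_cj]; simpa [mul_assoc] using hd
      obtain ⟨h1, h2⟩ := ih hle _ hd'
      refine ⟨by convert h1 using 1; group, ?_⟩
      have h3 := mul_mem (hxM d (hDU hd)) h2
      convert h3 using 1
      group
  have hfoc : (X.S : Subgroup G).focalSubgroup ≤ M := by
    rw [focalSubgroup, closure_le]
    rintro _ ⟨hS, a, ha, g, rfl⟩
    rw [commutatorElement_def] at hS ⊢
    -- `g a⁻¹ g⁻¹` lies in the Sylow subgroup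
    have hb : g * a⁻¹ * g⁻¹ ∈ (X.S : Subgroup G) := by
      have := mul_mem (inv_mem ha) hS
      simpa [mul_assoc] using this
    have hle : cj g (zpowers a) ≤ (X.S : Subgroup G) := by
      rw [cj_le_iff, zpowers_le, mem_cj, inv_inv]
      simpa [mul_assoc] using inv_mem hb
    have hD : zpowers a ≤ (X.S : Subgroup G) := zpowers_le.2 ha
    obtain ⟨c, hc, Y, hY, y, hy, hg⟩ := sgood_all X.S (zpowers a) g⁻¹ hD (by rwa [inv_inv])
    rw [X.normalizer_eq ?_ le_rfl le_normalizer] at hy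
    swap
    · intro e
      have := X.card
      rw [e, card_bot] at this
      norm_num at this
    obtain ⟨h1, h2⟩ := hchain _ Y hY hD a⁻¹ (inv_mem (mem_zpowers a))
    have h3 := mul_mem h2 (hMS _ h1 y hy)
    have hca : c⁻¹ * a⁻¹ * c = a⁻¹ := by
      rw [mul_assoc, mem_centralizer_iff.1 hc _ (inv_mem (mem_zpowers a)), inv_mul_cancel_left]
    have he : g * a⁻¹ * g⁻¹ = (c * Y * y)⁻¹ * a⁻¹ * (c * Y * y) := by rw [← hg]; simp
    show a * g * a⁻¹ * g⁻¹ ∈ M
    convert h3 using 1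
    calc a * g * a⁻¹ * g⁻¹ = a * (g * a⁻¹ * g⁻¹) := by simp only [mul_assoc]
      _ = a * ((c * Y * y)⁻¹ * a⁻¹ * (c * Y * y)) := by rw [he]
      _ = a * (y⁻¹ * (Y⁻¹ * (c⁻¹ * a⁻¹ * c) * Y) * y) := by group
      _ = _ := by rw [hca]; group
  have htop : Cfsg.pResidual 2 G = ⊤ := by
    haveI := X.simple
    haveI hn : (Cfsg.pResidual 2 G).Normal := by
      refine ⟨fun n hn g => ?_⟩
      have hle : (Cfsg.pResidual 2 G).map (MulAut.conj g).toMonoidHom ≤ Cfsg.pResidual 2 G := by
        rw [Cfsg.pResidual, MonoidHom.map_closure, closure_le]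
        rintro _ ⟨x, hx, rfl⟩
        refine subset_closure ?_
        show Nat.Coprime (orderOf ((MulAut.conj g).toMonoidHom x)) 2
        rw [orderOf_injective (MulAut.conj g).toMonoidHom (MulAut.conj g).injective x]
        exact hx
      exact hle (mem_map_of_mem (MulAut.conj g).toMonoidHom hn)
    rcases hn.eq_bot_or_eq_top with h | h
    · exfalso
      obtain ⟨p, hp, hdvd⟩ : ∃ p, p.Prime ∧ p ∣ Nat.card G ∧ p ≠ 2 := by
        by_contra hc
        push Not at hc
        have hG : IsPGroup 2 G := IsPGroup.of_card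
          (Nat.eq_prime_pow_of_unique_prime_dvd Nat.card_pos.ne' fun {q} hq hd => hc q hq hd)
        exact X.S_ne_top (X.S.is_maximal' (IsPGroup.of_equiv hG Subgroup.topEquiv.symm) le_top).symm
      haveI := Fact.mk hp
      obtain ⟨x, hx⟩ := exists_prime_orderOf_dvd_card' (G := G) p hdvd.1
      have : x ∈ Cfsg.pResidual 2 G := subset_closure (by
        show Nat.Coprime (orderOf x) 2
        rw [hx]; exact (Nat.coprime_primes hp Nat.prime_two).2 hdvd.2)
      rw [h, mem_bot] at this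
      rw [this, orderOf_one] at hx
      exact absurd hx.symm hp.ne_one
    · exact h
  have := CfsgLib.Transfer.sylow_inf_pResidual_le_focal (p := 2) X.S
  rw [htop, inf_top_eq] at this
  exact this.trans hfoc

end CfsgLib.MaxSyl
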