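import Cfsg.Agent.Lib.MaxSylow128.Abelian32

/-!
# The structure of a member of the family
-/

set_option autoImplicit false
set_option linter.style.haveILetI false
set_option linter.unusedSectionVars false

namespace CfsgLib.MaxSyl

open Subgroup CfsgLib.ConjFunctor

variable {G : Type*} [Group G] [Finite G]

/-- The Sylow normalizer of `E`. -/
abbrev Setup.R (X : Setup G) (E : Subgroup G) : Subgroup G :=
  (X.S : Subgroup G) ⊓ normalizer (E : Set G)

/-- A member of the family with its two transvections and the element of order three. -/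
structure Ess (X : Setup G) (E : Subgroup G) where
  g : G
  t : G
  v : G
  a : G
  y : G
  loc : X.Loc E
  g_mem : g ∈ (X.S : Subgroup G)
  g_not : g ∉ X.R E
  g_nm : g ∈ normalizer (X.R E : Set G)
  t_eq : t = g * a * g⁻¹
  t_mem : t ∈ X.R E
  t_not : t ∉ E
  pr : Transv.Pr E v a y
  v1 : v ≠ 1
  a1 : a ≠ 1
  va : v ≠ a
  tv : Transv.Tv E t v
  fix_iff : ∀ x ∈ E, t * x * t⁻¹ = x ↔ x ∈ cj g E
  ta : t * a * t⁻¹ = a * v
  kconj : ∃ k ∈ normalizer (E : Set G), k * v * k⁻¹ = a
  y_mem : y ∈ normalizer (E : Set G)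
  y3 : y ^ 3 = 1
  y1 : y ≠ 1
  free : y * v * y⁻¹ ≠ v ∧ y * a * y⁻¹ ≠ a ∧ y * (v * a) * y⁻¹ ≠ v * a
  split : ∀ x ∈ E, ∃ c, (c = 1 ∨ c = v ∨ c = a ∨ c = v * a) ∧
    ∃ q ∈ E, y * q * y⁻¹ = q ∧ x = c * q
  qfix : ∀ q ∈ E, y * q * y⁻¹ = q → t * q * t⁻¹ = q

namespace Setup.Loc

variable {X : Setup G} {E : Subgroup G}

theorem card_le_of_isPGroup (L : X.Loc E) {H : Subgroup G} (hH : IsPGroup 2 H)
    (hN : H ≤ normalizer (E : Set G)) : Nat.card H ≤ Nat.card (X.R E) := by
  haveI : Fact (Nat.Prime 2) := ⟨Nat.prime_two⟩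
  refine Nat.le_of_dvd Nat.card_pos ?_
  have h := card_dvd_of_le hN
  rw [← L.card_normalizer] at h
  obtain ⟨m, hm⟩ := IsPGroup.iff_card.1 hH
  rw [hm] at h ⊢
  exact (Nat.Coprime.pow_left m (Nat.coprime_two_left.2 L.odd_relIndex)).dvd_of_dvd_mul_left h

set_option maxHeartbeats 1000000 in
theorem ess_of_moving (L : X.Loc E) {g t v k : G} (hgS : g ∈ (X.S : Subgroup G)) (hgR : g ∉ X.R E)
    (hgN : g ∈ normalizer (X.R E : Set G)) (htR : t ∈ X.R E) (htE : t ∉ E) (hTv : Transv.Tv E t v)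
    (hfix : ∀ x ∈ E, t * x * t⁻¹ = x ↔ x ∈ cj g E) (hv1 : v ≠ 1)
    (hkN : k ∈ normalizer (E : Set G)) (hkv : k * v * k⁻¹ ≠ v) :
    ∃ e : Ess X E, e.v = v ∧ e.a = k * v * k⁻¹ := by
  haveI : Fact (Nat.Prime 2) := ⟨Nat.prime_two⟩
  have hab := L.comm
  have hvE := hTv.mem
  have hvv := hTv.sq
  have hvfix := hTv.fix
  have hE'R : cj g E ≤ X.R E := by
    intro x hx
    rw [mem_cj] at hx
    have := (mem_normalizer_iff.1 hgN _).1 (L.lt_inf.le hx)
    simpa [mul_assoc] using this
  have hER : E ≤ X.R E := L.lt_inf.le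
  have hR2 : Nat.card (X.R E) = 2 * Nat.card E := L.index_two
  have hidxR : (E.subgroupOf (X.R E)).index = 2 := by
    have h1 := (E.subgroupOf (X.R E)).card_mul_index
    rw [Nat.card_congr (subgroupOfEquivOfLe hER).toEquiv, hR2] at h1
    have := Nat.card_pos (α := E)
    nlinarith
  set D := E ⊓ cj g E with hD
  have htD : ∀ d ∈ D, t * d * t⁻¹ = d := fun d hd => (hfix d hd.1).2 hd.2
  set w := k * v * k⁻¹ with hw
  have hTs := hTv.conj hkN
  rw [← hw] at hTs
  set s := k * t * k⁻¹ with hs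
  have hsN : s ∈ normalizer (E : Set G) := mul_mem (mul_mem hkN htR.2) (inv_mem hkN)
  set y' := s * t⁻¹ with hy'
  have hy'N : y' ∈ normalizer (E : Set G) := mul_mem hsN (inv_mem htR.2)
  have hPr' := Transv.pr_of_tv hab hTv hTs
  rw [← hy'] at hPr'
  have hw1 : w ≠ 1 := fun e => hv1 (conj_eq_one_iff.1 e)
  have hvw : v ≠ w := Ne.symm hkv
  set y := y' ^ 2 ^ 7 with hy
  have hyN : y ∈ normalizer (E : Set G) := pow_mem hy'N _
  have hyodd : Odd (orderOf y) := X.odd_pow _
  have hPr := hPr'.pow (2 ^ 7)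
  rw [← hy] at hPr
  have hy1 : y ≠ 1 := by
    intro e
    obtain ⟨e0, he0, h3⟩ : ∃ e0 ∈ E, t * e0 * t⁻¹ = e0 * v := by
      by_contra hc
      push Not at hc
      refine htE (L.cent (mem_centralizer_iff.2 fun x hx => ?_))
      rcases hTv.move x hx with h | h
      · exact (mul_inv_eq_iff_eq_mul.1 h).symm
      · exact absurd h (hc x hx)
    have hy'E : y' ∉ E := by
      intro h
      have h1 : y' * (t * e0 * t⁻¹) * y'⁻¹ = t * e0 * t⁻¹ := by
        rw [hab _ h _ ((mem_normalizer_iff.1 htR.2 e0).1 he0), mul_inv_cancel_right]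
      have h2 : s * e0 * s⁻¹ = e0 * v := by
        rw [← h3, ← h1, hy']; group
      rcases hTs.move e0 he0 with h4 | h4
      · exact hv1 (mul_eq_left.1 (h2.symm.trans h4))
      · exact hvw (mul_left_cancel (h2.symm.trans h4))
    have hp : IsPGroup 2 (zpowers y') := by
      obtain ⟨m, -, hm⟩ := (Nat.dvd_prime_pow Nat.prime_two).1
        (orderOf_dvd_of_pow_eq_one (hy ▸ e : y' ^ 2 ^ 7 = 1))
      exact IsPGroup.of_card (by rw [Nat.card_zpowers, hm])
    set H := zpowers y' ⊔ E with hH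
    have hHp : IsPGroup 2 H := hp.to_sup_of_normal_right' L.isPGroup (zpowers_le.2 hy'N)
    have hHN : H ≤ normalizer (E : Set G) := sup_le (zpowers_le.2 hy'N) le_normalizer
    have hHc : Nat.card H = 2 * Nat.card E := by
      refine le_antisymm ((L.card_le_of_isPGroup hHp hHN).trans hR2.le) ?_
      have hlt : E < H := lt_of_le_of_ne le_sup_right fun e2 =>
        hy'E (e2 ▸ mem_sup_left (mem_zpowers y'))
      obtain ⟨i, hi⟩ := IsPGroup.iff_card.1 L.isPGroup
      obtain ⟨j, hj⟩ := IsPGroup.iff_card.1 hHp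
      have : Nat.card E < Nat.card H := by
        refine lt_of_le_of_ne (card_le_of_le hlt.le) fun e2 => hlt.ne ?_
        exact eq_of_le_of_card_ge hlt.le e2.ge
      rw [hi, hj] at this ⊢
      calc 2 * 2 ^ i = 2 ^ (i + 1) := by ring
        _ ≤ 2 ^ j := Nat.pow_le_pow_right (by norm_num) ((Nat.pow_lt_pow_iff_right (by norm_num)).1 this)
    have htt : t * t ∈ E := mem_subgroupOf.1 (mul_self_mem_of_index_two hidxR ⟨t, htR⟩)
    have htH : t ∈ normalizer (H : Set G) := by
      rw [← cj_eq_self_iff]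
      refine eq_of_le_of_card_ge ?_ (card_cj t H).ge
      rw [cj_le_iff, hH]
      refine sup_le (zpowers_le.2 ?_) (fun x hx => ?_)
      · rw [mem_cj, inv_inv, ← hH]
        have h1 : t * y' * t⁻¹ = y'⁻¹ * (k * (t * t) * k⁻¹ * (t * t)⁻¹) := by
          rw [hy', hs]; group
        rw [h1]
        exact mul_mem (inv_mem (mem_sup_left (mem_zpowers _)))
          (mem_sup_right (mul_mem ((mem_normalizer_iff.1 hkN _).1 htt) (inv_mem htt)))
      · rw [mem_cj, inv_inv]
        exact mem_sup_right ((mem_normalizer_iff.1 htR.2 x).1 hx)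
    have htp : IsPGroup 2 (zpowers t) := X.S.isPGroup'.to_le (zpowers_le.2 htR.1)
    have h5 := L.card_le_of_isPGroup (htp.to_sup_of_normal_right' hHp (zpowers_le.2 htH))
      (sup_le (zpowers_le.2 htR.2) hHN)
    have h6 : zpowers t ⊔ H = H := (eq_of_le_of_card_ge le_sup_right (by rw [hHc, ← hR2]; exact h5)).symm
    have htH' : t ∈ H := h6 ▸ mem_sup_left (mem_zpowers t)
    have hidxH : (E.subgroupOf H).index = 2 := by
      have h1 := (E.subgroupOf H).card_mul_index
      rw [Nat.card_congr (subgroupOfEquivOfLe (le_sup_right : E ≤ H)).toEquiv, hHc] at h1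
      have := Nat.card_pos (α := E)
      nlinarith
    have h7 := mem_subgroupOf.1 ((mul_mem_iff_of_index_two hidxH
      (a := ⟨y', mem_sup_left (mem_zpowers y')⟩) (b := ⟨t, htH'⟩)).2
        (iff_of_false (fun h => hy'E (mem_subgroupOf.1 h)) (fun h => htE (mem_subgroupOf.1 h))))
    simp only [coe_mul, hy', inv_mul_cancel_right] at h7
    exact htE ((mem_normalizer_iff.1 hkN t).2 h7)
  have hmove : ∃ x ∈ E, y * x * y⁻¹ ≠ x := by
    by_contra hc
    push Not at hc
    exact hy1 (eq_one_of_odd_of_mem L.isPGroup (L.cent (mem_centralizer_iff.2 fun x hx =>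
      (mul_inv_eq_iff_eq_mul.1 (hc x hx)).symm)) hyodd)
  have hfree := hPr.free hyodd hv1 hw1 hvw hmove
  have hy3 : y ^ 3 = 1 := eq_one_of_odd_of_mem L.isPGroup (L.cent (mem_centralizer_iff.2 fun x hx =>
    (mul_inv_eq_iff_eq_mul.1 (hPr.cube hyodd hv1 hw1 hvw hx)).symm))
    (hyodd.of_dvd_nat (orderOf_pow_dvd 3))
  have hwE : w ∈ E := hTs.mem
  have hwD : w ∉ cj g E := by
    intro h
    have h1 := (hfix w hwE).2 h
    have h2 : t⁻¹ * w * t = w := by
      rw [mul_assoc, inv_mul_eq_iff_eq_mul]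
      exact (mul_inv_eq_iff_eq_mul.1 h1).symm
    have h3 : y' * w * y'⁻¹ = w := by
      calc y' * w * y'⁻¹ = s * (t⁻¹ * w * t) * s⁻¹ := by rw [hy']; group
        _ = w := by rw [h2, hTs.fix]
    refine hfree.2.1 (mul_inv_eq_iff_eq_mul.2 ?_)
    exact (Commute.pow_left (mul_inv_eq_iff_eq_mul.1 h3) _).eq
  have htw : t * w * t⁻¹ = w * v := by
    rcases hTv.move w hwE with h | h
    · exact absurd ((hfix w hwE).1 h) hwD
    · exact h
  have hqfix : ∀ q ∈ E, y * q * y⁻¹ = q → t * q * t⁻¹ = q := by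
    intro q hq hqy
    obtain ⟨c, hc, e⟩ := hPr'.delta hq
    have hcc : Commute y y' := (Commute.refl y').pow_left _
    have h1 : y * (q * c) * y⁻¹ = q * c := by
      calc y * (q * c) * y⁻¹ = (y * y') * q * (y * y')⁻¹ := by rw [← e]; group
        _ = (y' * y) * q * (y' * y)⁻¹ := by rw [hcc.eq]
        _ = y' * (y * q * y⁻¹) * y'⁻¹ := by group
        _ = q * c := by rw [hqy, e]
    rw [← conj_mul, hqy] at h1
    have h2 := mul_left_cancel h1
    have hc1 : c = 1 := by
      rcases hc with rfl | rfl | rfl | rfl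
      · rfl
      · exact absurd h2 hfree.1
      · exact absurd h2 hfree.2.1
      · exact absurd h2 hfree.2.2
    rw [hc1, mul_one] at e
    have e2 : t⁻¹ * q * t = s⁻¹ * q * s := by
      calc t⁻¹ * q * t = s⁻¹ * (y' * q * y'⁻¹) * s := by rw [hy']; group
        _ = _ := by rw [e]
    have e3 : t⁻¹ * q * t = q := by
      rcases hTv.move_inv q hq with h | h
      · exact h
      · exfalso
        rw [h] at e2
        rcases hTs.move_inv q hq with h' | h' <;> rw [h'] at e2
        · exact hv1 (mul_eq_left.1 e2)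
        · exact hvw (mul_left_cancel e2)
    rw [mul_inv_eq_iff_eq_mul]
    rw [mul_assoc, inv_mul_eq_iff_eq_mul] at e3
    exact e3.symm
  have hsplit : ∀ x ∈ E, ∃ c, (c = 1 ∨ c = v ∨ c = w ∨ c = v * w) ∧
      ∃ q ∈ E, y * q * y⁻¹ = q ∧ x = c * q := by
    intro x hx
    have hx2 : ∀ u ∈ E, y * u * y⁻¹ ∈ E := fun u hu => (mem_normalizer_iff.1 hyN u).1 hu
    obtain ⟨c, hc, e⟩ := hPr.delta hx
    have hcE := hPr.four_mem hc
    set c' := y * c * y⁻¹ with hc'
    have hc'4 := hPr.four_conj hc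
    rw [← hc'] at hc'4
    have hc'E := hPr.four_mem hc'4
    set q := x * (x * c) * (x * c * c') with hq
    have hqE : q ∈ E := mul_mem (mul_mem hx (mul_mem hx hcE)) (mul_mem (mul_mem hx hcE) hc'E)
    have h33 : y * (x * c * c') * y⁻¹ = x := by
      have h7 : x * c * c' = y ^ 2 * x * (y ^ 2)⁻¹ := by
        rw [pow_two]
        calc x * c * c' = (y * x * y⁻¹) * c' := by rw [e]
          _ = y * (x * c) * y⁻¹ := by rw [hc']; group
          _ = y * (y * x * y⁻¹) * y⁻¹ := by rw [e]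
          _ = y * y * x * (y * y)⁻¹ := by group
      rw [h7]
      calc y * (y ^ 2 * x * (y ^ 2)⁻¹) * y⁻¹ = y ^ 3 * x * (y ^ 3)⁻¹ := by
            rw [pow_succ' y 2]; group
        _ = x := by rw [hy3]; group
    have hqy : y * q * y⁻¹ = q := by
      have h8 : y * (x * c) * y⁻¹ = x * c * c' := by rw [← conj_mul, e, hc']
      calc y * q * y⁻¹ = (y * x * y⁻¹) * (y * (x * c) * y⁻¹) * (y * (x * c * c') * y⁻¹) := by
            rw [hq]; group
        _ = x * c * (x * c * c') * x := by rw [e, h8, h33]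
        _ = x * (x * c * (x * c * c')) := by
            rw [hab _ (mul_mem (mul_mem hx hcE) (mul_mem (mul_mem hx hcE) hc'E)) _ hx]
        _ = q := by rw [hq]; group
    have hcc : c * c = 1 := by
      rcases hc with rfl | rfl | rfl | rfl
      · simp
      · exact hvv
      · exact hTs.sq
      · calc v * w * (v * w) = v * (w * v) * w := by group
          _ = (v * v) * (w * w) := by rw [← hPr.comm]; group
          _ = 1 := by rw [hvv, hTs.sq, one_mul]
    have hq3 : q = x ^ 3 * c' := by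
      rw [hq]
      calc x * (x * c) * (x * c * c') = x * x * (c * x) * c * c' := by group
        _ = x * x * (x * c) * c * c' := by rw [hab c hcE x hx]
        _ = x ^ 3 * (c * c) * c' := by rw [pow_succ, pow_two]; group
        _ = x ^ 3 * c' := by rw [hcc, mul_one]
    obtain ⟨j, hj⟩ := L.isPGroup ⟨x, hx⟩
    have hj' : x ^ 2 ^ j = 1 := congrArg Subtype.val hj
    have hm : ∃ m, x = (x ^ 3) ^ m := by
      have hcop : Nat.Coprime 3 (orderOf x) := Nat.Coprime.coprime_dvd_right
        (orderOf_dvd_of_pow_eq_one hj') (Nat.Coprime.pow_right _ (by norm_num))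
      obtain ⟨m, hm⟩ := exists_pow_eq_self_of_coprime hcop
      exact ⟨m, hm.symm⟩
    obtain ⟨m, hm⟩ := hm
    have hc'inv : x ^ 3 = q * c' := by
      rw [hq3, mul_assoc]
      have : c' * c' = 1 := by rw [hc', conj_mul, hcc, mul_one, mul_inv_cancel]
      rw [this, mul_one]
    refine ⟨c' ^ m, ?_, q ^ m, pow_mem hqE m, by rw [← conj_pow, hqy], ?_⟩
    · clear hm
      induction m with
      | zero => exact Or.inl (pow_zero _)
      | succ m ih => rw [pow_succ]; exact hPr.four_mul ih hc'4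
    · rw [← Commute.mul_pow (hab c' hc'E q hqE), hab c' hc'E q hqE, ← hc'inv, ← hm]
  -- the centre of the Sylow normalizer
  have hDZ : ∀ x, (x ∈ X.R E ∧ ∀ r ∈ X.R E, r * x = x * r) ↔ x ∈ D := by
    refine fun x => ⟨fun ⟨hxR, hxc⟩ => ?_, fun hx => ⟨hER hx.1, fun r hr => ?_⟩⟩
    · have hxE : x ∈ E := L.cent (mem_centralizer_iff.2 fun e he => hxc e (hER he))
      exact ⟨hxE, (hfix x hxE).1 (by rw [hxc t htR, mul_inv_cancel_right])⟩
    · by_cases hrE : r ∈ E
      · exact hab r hrE x hx.1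
      · have h1 := mem_subgroupOf.1 ((mul_mem_iff_of_index_two hidxR (a := ⟨t, htR⟩⁻¹)
          (b := ⟨r, hr⟩)).2 (iff_of_false (fun h => htE (mem_subgroupOf.1 (inv_mem_iff.1 h)))
            (fun h => hrE (mem_subgroupOf.1 h))))
        simp only [coe_mul, coe_inv] at h1
        have h2 : Commute (t⁻¹ * r) x := hab _ h1 x hx.1
        have h3 : Commute t x := mul_inv_eq_iff_eq_mul.1 (htD x hx)
        have h4 := h3.mul_left h2
        rw [mul_inv_cancel_left] at h4
        exact h4.eq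
  set t1 := g * w * g⁻¹ with ht1
  have ht1E' : t1 ∈ cj g E := conj_mem_cj hwE
  have ht1E : t1 ∉ E := by
    intro h
    have h1 := (hDZ t1).2 ⟨h, ht1E'⟩
    refine hwD ((hDZ w).1 ⟨hER hwE, fun r hr => ?_⟩).2
    have h2 := h1.2 _ ((mem_normalizer_iff.1 hgN r).1 hr)
    have h3 : g * (r * w) * g⁻¹ = g * (w * r) * g⁻¹ := by
      calc g * (r * w) * g⁻¹ = (g * r * g⁻¹) * t1 := by rw [ht1]; group
        _ = t1 * (g * r * g⁻¹) := h2
        _ = g * (w * r) * g⁻¹ := by rw [ht1]; group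
    exact mul_left_cancel (mul_right_cancel h3)
  have ht1R := hE'R ht1E'
  have hsame : ∀ x ∈ E, t1 * x * t1⁻¹ = t * x * t⁻¹ := by
    intro x hx
    have h1 := mem_subgroupOf.1 ((mul_mem_iff_of_index_two hidxR (a := ⟨t, htR⟩⁻¹)
      (b := ⟨t1, ht1R⟩)).2 (iff_of_false (fun h => htE (mem_subgroupOf.1 (inv_mem_iff.1 h)))
        (fun h => ht1E (mem_subgroupOf.1 h))))
    simp only [coe_mul, coe_inv] at h1
    calc t1 * x * t1⁻¹ = t * ((t⁻¹ * t1) * x) * t1⁻¹ := by group
      _ = t * (x * (t⁻¹ * t1)) * t1⁻¹ := by rw [hab _ h1 x hx]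
      _ = t * x * t⁻¹ := by group
  exact ⟨{
    g := g, t := t1, v := v, a := w, y := y
    loc := L, g_mem := hgS, g_not := hgR, g_nm := hgN, t_eq := rfl, t_mem := ht1R, t_not := ht1E
    pr := hPr, v1 := hv1, a1 := hw1, va := hvw
    tv := ⟨hvE, hvv, by rw [hsame v hvE, hvfix], fun x hx => by rw [hsame x hx]; exact hTv.move x hx⟩
    fix_iff := fun x hx => by rw [hsame x hx]; exact hfix x hx
    ta := by rw [hsame w hwE, htw]
    kconj := ⟨k, hkN, rfl⟩, y_mem := hyN, y3 := hy3, y1 := hy1, free := hfree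
    split := hsplit, qfix := fun q hq hqy => by rw [hsame q hq]; exact hqfix q hq hqy }, rfl, rfl⟩

set_option maxHeartbeats 1000000 in
theorem exists_ess (L : X.Loc E) : ∃ _ : Ess X E, True := by
  haveI : Fact (Nat.Prime 2) := ⟨Nat.prime_two⟩
  have hab := L.comm
  obtain ⟨g, hgS, hgR, hgN⟩ := X.exists_normalizing le_rfl L.inf_lt
  have hgE : cj g E ≠ E := fun e => hgR ⟨hgS, cj_eq_self_iff.1 e⟩
  have hE'R : cj g E ≤ X.R E := by
    intro x hx
    rw [mem_cj] at hx
    have := (mem_normalizer_iff.1 hgN _).1 (L.lt_inf.le hx)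
    simpa [mul_assoc] using this
  have hER : E ≤ X.R E := L.lt_inf.le
  have hR2 : Nat.card (X.R E) = 2 * Nat.card E := L.index_two
  have hidxR : (E.subgroupOf (X.R E)).index = 2 := by
    have h1 := (E.subgroupOf (X.R E)).card_mul_index
    rw [Nat.card_congr (subgroupOfEquivOfLe hER).toEquiv, hR2] at h1
    have := Nat.card_pos (α := E)
    nlinarith
  have hab' : ∀ p ∈ cj g E, ∀ q ∈ cj g E, p * q = q * p := fun p hp q hq => by
    calc p * q = g * ((g⁻¹ * p * g) * (g⁻¹ * q * g)) * g⁻¹ := by group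
      _ = g * ((g⁻¹ * q * g) * (g⁻¹ * p * g)) * g⁻¹ := by
          rw [hab _ (mem_cj.1 hp) _ (mem_cj.1 hq)]
      _ = q * p := by group
  set D := E ⊓ cj g E with hD
  have hidxD : (D.subgroupOf E).index = 2 := by
    have h1 := (D.subgroupOf E).card_mul_index
    rw [Nat.card_congr (subgroupOfEquivOfLe (inf_le_left : D ≤ E)).toEquiv] at h1
    have h2 := card_mul_card_le hER hE'R
    rw [card_cj, hR2, ← hD] at h2
    have hlt : D < E := lt_of_le_of_ne inf_le_left fun e =>
      hgE (eq_of_le_of_card_ge (inf_eq_left.1 e) (card_cj g E).le).symm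
    have h3 := X.card_two_mul L.lt.le hlt
    have h4 := Nat.card_pos (α := E)
    have h6 : Nat.card E ≤ 2 * Nat.card D := by nlinarith
    have h5 : Nat.card E = 2 * Nat.card D := by omega
    rw [h5] at h1
    have := Nat.card_pos (α := D)
    nlinarith
  obtain ⟨t, htE', htE⟩ : ∃ t ∈ cj g E, t ∉ E := by
    by_contra h
    push Not at h
    exact hgE (eq_of_le_of_card_ge (fun x hx => h x hx) (card_cj g E).ge)
  obtain ⟨e0, he0, he0D⟩ : ∃ e0 ∈ E, e0 ∉ cj g E := by
    by_contra h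
    push Not at h
    exact hgE (eq_of_le_of_card_ge (fun x hx => h x hx) (card_cj g E).le).symm
  have htR := hE'R htE'
  have htD : ∀ d ∈ D, t * d * t⁻¹ = d := fun d hd => by
    rw [hab' t htE' d hd.2, mul_inv_cancel_right]
  set v := t * e0 * t⁻¹ * e0⁻¹ with hv
  have hvE : v ∈ E := mul_mem ((mem_normalizer_iff.1 htR.2 e0).1 he0) (inv_mem he0)
  have hvE' : v ∈ cj g E := by
    have h1 : g⁻¹ * e0 * g ∈ X.R E := by
      simpa using (mem_normalizer_iff.1 (inv_mem hgN) e0).1 (hER he0)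
    have h2 : e0 * t⁻¹ * e0⁻¹ ∈ cj g E := by
      rw [mem_cj]
      have h3 := (mem_normalizer_iff.1 h1.2 _).1 (mem_cj.1 (inv_mem htE'))
      convert h3 using 1
      group
    have h4 : v = t * (e0 * t⁻¹ * e0⁻¹) := by rw [hv]; group
    rw [h4]; exact mul_mem htE' h2
  have hvfix : t * v * t⁻¹ = v := htD v ⟨hvE, hvE'⟩
  have hvv : v * v = 1 := by
    have htt : t * t ∈ E := mem_subgroupOf.1 (mul_self_mem_of_index_two hidxR ⟨t, htR⟩)
    calc v * v = (t * v * t⁻¹) * (t * e0 * t⁻¹ * e0⁻¹) := by rw [hvfix]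
      _ = t * t * e0 * (t * t)⁻¹ * e0⁻¹ := by rw [hv]; group
      _ = 1 := by rw [hab _ htt _ he0]; group
  have hTv : Transv.Tv E t v := by
    refine ⟨hvE, hvv, hvfix, fun x hx => ?_⟩
    by_cases hxD : x ∈ D
    · exact Or.inl (htD x hxD)
    · right
      have h1 := mem_subgroupOf.1 ((mul_mem_iff_of_index_two hidxD (a := ⟨x, hx⟩)
        (b := ⟨e0, he0⟩⁻¹)).2 (iff_of_false (fun h => hxD (mem_subgroupOf.1 h))
          (fun h => he0D (mem_subgroupOf.1 (inv_mem_iff.1 h)).2)))
      have h2 := htD _ h1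
      simp only [coe_mul, coe_inv] at h2
      calc t * x * t⁻¹ = (t * (x * e0⁻¹) * t⁻¹) * (t * e0 * t⁻¹) := by group
        _ = x * e0⁻¹ * (v * e0) := by rw [h2, hv, inv_mul_cancel_right]
        _ = x * (e0⁻¹ * (e0 * v)) := by rw [hab v hvE e0 he0]; group
        _ = x * v := by group
  have hv1 : v ≠ 1 := by
    intro e
    refine htE (L.cent (mem_centralizer_iff.2 fun x hx => ?_))
    have hxt : t * x * t⁻¹ = x := by
      rcases hTv.move x hx with h | h
      · exact h
      · rw [h, e, mul_one]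
    exact (mul_inv_eq_iff_eq_mul.1 hxt).symm
  have hfix : ∀ x ∈ E, t * x * t⁻¹ = x ↔ x ∈ cj g E := by
    refine fun x hx => ⟨fun h => ?_, fun h => htD x ⟨hx, h⟩⟩
    by_contra hxD
    have h1 := mem_subgroupOf.1 ((mul_mem_iff_of_index_two hidxD (a := ⟨x, hx⟩⁻¹)
      (b := ⟨e0, he0⟩)).2 (iff_of_false (fun h => hxD (mem_subgroupOf.1 (inv_mem_iff.1 h)).2)
        (fun h => he0D (mem_subgroupOf.1 h).2)))
    have h2 := htD _ h1
    simp only [coe_mul, coe_inv] at h2
    apply hv1
    calc v = (t * x * t⁻¹) * (t * (x⁻¹ * e0) * t⁻¹) * e0⁻¹ := by rw [hv]; group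
      _ = 1 := by rw [h, h2]; group
  -- some element of the normalizer moves `v`
  obtain ⟨k, hkN, hkv⟩ : ∃ k ∈ normalizer (E : Set G), k * v * k⁻¹ ≠ v := by
    by_contra hc
    push Not at hc
    let Y : Subgroup G :=
      { carrier := {u | u ∈ normalizer (E : Set G) ∧ u * v * u⁻¹ = v ∧
          ∀ x ∈ E, u * x * u⁻¹ = x ∨ u * x * u⁻¹ = x * v}
        one_mem' := ⟨one_mem _, by simp, fun x _ => Or.inl (by simp)⟩
        mul_mem' := by
          rintro p q ⟨hp, hpv, hpm⟩ ⟨hq, hqv, hqm⟩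
          refine ⟨mul_mem hp hq, ?_, fun x hx => ?_⟩
          · calc p * q * v * (p * q)⁻¹ = p * (q * v * q⁻¹) * p⁻¹ := by group
              _ = v := by rw [hqv, hpv]
          · have e1 : p * q * x * (p * q)⁻¹ = p * (q * x * q⁻¹) * p⁻¹ := by group
            rw [e1]
            rcases hqm x hx with e | e <;> rw [e]
            · exact hpm x hx
            · rw [← conj_mul, hpv]
              rcases hpm x hx with e' | e' <;> rw [e']
              · exact Or.inr rfl
              · exact Or.inl (by rw [mul_assoc, hvv, mul_one])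
        inv_mem' := by
          rintro p ⟨hp, hpv, hpm⟩
          refine ⟨inv_mem hp, ?_, fun x hx => ?_⟩
          · have e1 := congrArg (fun w => p⁻¹ * w * p) hpv
            simpa [mul_assoc] using e1.symm
          · have hx' : p⁻¹ * x * p ∈ E := by
              simpa using (mem_normalizer_iff.1 (inv_mem hp) x).1 hx
            rw [inv_inv]
            rcases hpm _ hx' with e | e
            · left
              rw [show p * (p⁻¹ * x * p) * p⁻¹ = x by group] at e
              exact e.symm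
            · right
              rw [show p * (p⁻¹ * x * p) * p⁻¹ = x by group] at e
              calc p⁻¹ * x * p = p⁻¹ * x * p * (v * v) := by rw [hvv, mul_one]
                _ = x * v := by rw [← mul_assoc, ← e] }
    have hEY : E ≤ Y := fun e he => ⟨le_normalizer he, by rw [hab e he v hvE, mul_inv_cancel_right],
      fun x hx => Or.inl (by rw [hab e he x hx, mul_inv_cancel_right])⟩
    have hYp : IsPGroup 2 Y := by
      intro u
      have hu2 : (u : G) ^ 2 ∈ E := by
        refine L.cent (mem_centralizer_iff.2 fun x hx => ?_)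
        have h4 : (u : G) ^ 2 * x * ((u : G) ^ 2)⁻¹ = (u : G) * ((u : G) * x * (u : G)⁻¹) * (u : G)⁻¹ := by
          rw [pow_two]; group
        refine (mul_inv_eq_iff_eq_mul.1 ?_).symm
        rcases u.2.2.2 x hx with h | h
        · rw [h4, h, h]
        · rw [h4, h, ← conj_mul, h, u.2.2.1, mul_assoc, hvv, mul_one]
      obtain ⟨j, hj⟩ := L.isPGroup ⟨_, hu2⟩
      refine ⟨j + 1, Subtype.ext ?_⟩
      have := congrArg Subtype.val hj
      simp only [SubmonoidClass.coe_pow, coe_one] at this ⊢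
      rw [← this, ← pow_mul, pow_succ']
    have hYN : Y ≤ normalizer (E : Set G) := fun u hu => hu.1
    have hconj : ∀ k ∈ normalizer (E : Set G), ∀ u ∈ Y, k * u * k⁻¹ ∈ Y := by
      intro k hk u hu
      have hk' : k⁻¹ * v * k = v := by
        have := hc k⁻¹ (inv_mem hk)
        rwa [inv_inv] at this
      refine ⟨mul_mem (mul_mem hk hu.1) (inv_mem hk), ?_, fun x hx => ?_⟩
      · calc k * u * k⁻¹ * v * (k * u * k⁻¹)⁻¹ = k * (u * (k⁻¹ * v * k) * u⁻¹) * k⁻¹ := by group
          _ = v := by rw [hk', hu.2.1, hc k hk]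
      · have hx' : k⁻¹ * x * k ∈ E := by
          simpa using (mem_normalizer_iff.1 (inv_mem hk) x).1 hx
        have e1 : k * u * k⁻¹ * x * (k * u * k⁻¹)⁻¹ = k * (u * (k⁻¹ * x * k) * u⁻¹) * k⁻¹ := by group
        rw [e1]
        rcases hu.2.2 _ hx' with e | e <;> rw [e]
        · exact Or.inl (by group)
        · right
          rw [← conj_mul, hc k hk]
          group
    have hNY : normalizer (E : Set G) ≤ normalizer (Y : Set G) := fun k hk =>
      mem_normalizer_of_both (hconj k hk) (fun u hu => by simpa using hconj k⁻¹ (inv_mem hk) u hu)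
    exact htE (L.core Y hEY hYp hYN hNY ⟨htR.2, hvfix, hTv.move⟩)
  obtain ⟨e, -, -⟩ := L.ess_of_moving hgS hgR hgN htR htE hTv hfix hv1 hkN hkv
  exact ⟨e, trivial⟩


/-- Any moved conjugate of `v` can play the part of `a`. -/
theorem _root_.CfsgLib.MaxSyl.Ess.change (e : Ess X E) {k : G} (hk : k ∈ normalizer (E : Set G))
    (hkv : k * e.v * k⁻¹ ≠ e.v) : ∃ e' : Ess X E, e'.v = e.v ∧ e'.a = k * e.v * k⁻¹ :=
  e.loc.ess_of_moving e.g_mem e.g_not e.g_nm e.t_mem e.t_not e.tv e.fix_iff e.v1 hk hkv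

end Setup.Loc

end CfsgLib.MaxSyl
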