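import Cfsg.Agent.Lib.MaxSylow128.Ess

/-!
# Consequences of the structure of a member of the family
-/

set_option autoImplicit false
set_option linter.style.haveILetI false
set_option linter.unusedSectionVars false

namespace CfsgLib.MaxSyl

open Subgroup CfsgLib.ConjFunctor

variable {G : Type*} [Group G] [Finite G]

namespace Ess

variable {X : Setup G} {E : Subgroup G} (e : Ess X E)

/-- The part of `E` centralized by the element of order three. -/
def Q : Subgroup G := E ⊓ centralizer ({e.y} : Set G)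

/-- The intersection of `E` with its conjugate. -/
def D : Subgroup G := E ⊓ cj e.g E

theorem mem_Q {q : G} : q ∈ e.Q ↔ q ∈ E ∧ e.y * q * e.y⁻¹ = q := by
  rw [Q, mem_inf, mem_centralizer_singleton_iff, mul_inv_eq_iff_eq_mul]
  exact and_congr_right fun _ => eq_comm

theorem comm (e : Ess X E) {p q : G} (hp : p ∈ E) (hq : q ∈ E) : p * q = q * p := e.loc.comm p hp q hq

theorem E_le_R (e : Ess X E) : E ≤ X.R E := e.loc.lt_inf.le

theorem card_R (e : Ess X E) : Nat.card (X.R E) = 2 * Nat.card E := e.loc.index_two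

theorem index_R (e : Ess X E) : (E.subgroupOf (X.R E)).index = 2 := by
  have h1 := (E.subgroupOf (X.R E)).card_mul_index
  rw [Nat.card_congr (subgroupOfEquivOfLe e.E_le_R).toEquiv, e.card_R] at h1
  have := Nat.card_pos (α := E)
  nlinarith

theorem conj_mem_R (e : Ess X E) {x : G} (hx : x ∈ X.R E) : e.g * x * e.g⁻¹ ∈ X.R E :=
  (mem_normalizer_iff.1 e.g_nm x).1 hx

theorem cj_le_R (e : Ess X E) : cj e.g E ≤ X.R E := by
  intro x hx
  have := e.conj_mem_R (e.E_le_R (mem_cj.1 hx))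
  simpa [mul_assoc] using this

theorem a_mem (e : Ess X E) : e.a ∈ E := e.pr.memw

theorem v_mem (e : Ess X E) : e.v ∈ E := e.pr.memv

theorem t_mem_cj (e : Ess X E) : e.t ∈ cj e.g E := by
  rw [e.t_eq]; exact conj_mem_cj e.a_mem

theorem tt (e : Ess X E) : e.t * e.t = 1 := by
  rw [e.t_eq, conj_mul, e.pr.sqw, mul_one, mul_inv_cancel]

theorem v_mem_D (e : Ess X E) : e.v ∈ e.D := ⟨e.v_mem, (e.fix_iff _ e.v_mem).1 e.tv.fix⟩

theorem a_not_D (e : Ess X E) : e.a ∉ e.D := fun h => by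
  have h1 := (e.fix_iff _ e.a_mem).2 h.2
  rw [e.ta] at h1
  exact e.v1 (mul_eq_left.1 h1)

theorem Q_le (e : Ess X E) : e.Q ≤ e.D := fun q hq =>
  ⟨(e.mem_Q.1 hq).1, (e.fix_iff q (e.mem_Q.1 hq).1).1 (e.qfix q (e.mem_Q.1 hq).1 (e.mem_Q.1 hq).2)⟩

theorem eq_one_of_mem_Q (e : Ess X E) {c : G} (hc : c = 1 ∨ c = e.v ∨ c = e.a ∨ c = e.v * e.a)
    (hq : c ∈ e.Q) : c = 1 := by
  rcases hc with rfl | rfl | rfl | rfl
  · rfl
  · exact absurd (e.mem_Q.1 hq).2 e.free.1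
  · exact absurd (e.mem_Q.1 hq).2 e.free.2.1
  · exact absurd (e.mem_Q.1 hq).2 e.free.2.2

theorem v_not_Q (e : Ess X E) : e.v ∉ e.Q := fun h => e.v1 (e.eq_one_of_mem_Q (Or.inr (Or.inl rfl)) h)

theorem split' (e : Ess X E) {x : G} (hx : x ∈ E) :
    ∃ c, (c = 1 ∨ c = e.v ∨ c = e.a ∨ c = e.v * e.a) ∧ ∃ q ∈ e.Q, x = c * q := by
  obtain ⟨c, hc, q, hq, hqy, h⟩ := e.split x hx
  exact ⟨c, hc, q, e.mem_Q.2 ⟨hq, hqy⟩, h⟩

theorem card_E (e : Ess X E) : Nat.card E = 4 * Nat.card e.Q := by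
  have hm : ∀ i : Fin 4, (![1, e.v, e.a, e.v * e.a] i) ∈ E := by
    intro i; fin_cases i
    exacts [one_mem _, e.v_mem, e.a_mem, mul_mem e.v_mem e.a_mem]
  have hV : ∀ i : Fin 4, ![1, e.v, e.a, e.v * e.a] i = 1 ∨ ![1, e.v, e.a, e.v * e.a] i = e.v ∨
      ![1, e.v, e.a, e.v * e.a] i = e.a ∨ ![1, e.v, e.a, e.v * e.a] i = e.v * e.a := by
    intro i; fin_cases i <;> simp
  let f : Fin 4 × e.Q → E := fun p =>
    ⟨![1, e.v, e.a, e.v * e.a] p.1 * p.2, mul_mem (hm p.1) (e.mem_Q.1 p.2.2).1⟩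
  have hf : Function.Bijective f := by
    constructor
    · rintro ⟨i, q⟩ ⟨j, q'⟩ h
      have h' : ![1, e.v, e.a, e.v * e.a] i * (q : G) = ![1, e.v, e.a, e.v * e.a] j * q' :=
        congrArg Subtype.val h
      set ci := ![1, e.v, e.a, e.v * e.a] i with hci
      set cjj := ![1, e.v, e.a, e.v * e.a] j with hcj
      have hcjE : cjj ∈ E := hm j
      have hprod : ci⁻¹ * cjj = 1 ∨ ci⁻¹ * cjj = e.v ∨ ci⁻¹ * cjj = e.a ∨ ci⁻¹ * cjj = e.v * e.a := by
        have hinv : ci⁻¹ = ci := by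
          refine inv_eq_of_mul_eq_one_right ?_
          rcases hV i with h | h | h | h <;> rw [hci, h]
          · exact one_mul 1
          · exact e.pr.sqv
          · exact e.pr.sqw
          · rw [mul_assoc, ← mul_assoc e.a, ← e.pr.comm, mul_assoc e.v e.a e.a, e.pr.sqw, mul_one,
              e.pr.sqv]
        rw [hinv]
        exact e.pr.four_mul (hV i) (hV j)
      have h1 : ci⁻¹ * cjj = q * (q' : G)⁻¹ := by
        rw [inv_mul_eq_iff_eq_mul, ← mul_assoc, h', mul_inv_cancel_right]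
      have h2 := e.eq_one_of_mem_Q hprod (h1 ▸ mul_mem q.2 (inv_mem q'.2))
      have h3 : ci = cjj := inv_mul_eq_one.1 h2
      have hij : i = j := by
        have hne : e.v * e.a ≠ 1 := fun h => e.va (by
          rw [eq_inv_of_mul_eq_one_left h]; exact inv_eq_of_mul_eq_one_right e.pr.sqw)
        rw [hci, hcj] at h3
        fin_cases i <;> fin_cases j <;> first | rfl | (simp [e.v1, e.a1, e.va, hne, Ne.symm e.v1,
          Ne.symm e.a1, Ne.symm e.va, Ne.symm hne] at h3)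
      subst hij
      exact Prod.ext rfl (Subtype.ext (mul_left_cancel h'))
    · rintro ⟨x, hx⟩
      obtain ⟨c, hc, q, hq, rfl⟩ := e.split' hx
      rcases hc with rfl | rfl | rfl | rfl
      exacts [⟨(0, ⟨q, hq⟩), rfl⟩, ⟨(1, ⟨q, hq⟩), rfl⟩, ⟨(2, ⟨q, hq⟩), rfl⟩, ⟨(3, ⟨q, hq⟩), rfl⟩]
  rw [← Nat.card_congr (Equiv.ofBijective f hf), Nat.card_prod, Nat.card_fin]

theorem mem_D (e : Ess X E) {x : G} (hx : x ∈ e.D) :
    ∃ c, (c = 1 ∨ c = e.v) ∧ ∃ q ∈ e.Q, x = c * q := by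
  obtain ⟨c, hc, q, hq, rfl⟩ := e.split' hx.1
  have hc' : c ∈ e.D := by
    have := mul_mem hx (inv_mem (e.Q_le hq))
    rwa [mul_inv_cancel_right] at this
  rcases hc with rfl | rfl | rfl | rfl
  · exact ⟨1, Or.inl rfl, q, hq, rfl⟩
  · exact ⟨e.v, Or.inr rfl, q, hq, rfl⟩
  · exact absurd hc' e.a_not_D
  · refine absurd ?_ e.a_not_D
    have := mul_mem (inv_mem e.v_mem_D) hc'
    rwa [inv_mul_cancel_left] at this

theorem card_D (e : Ess X E) : Nat.card e.D = 2 * Nat.card e.Q := by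
  let f : Fin 2 × e.Q → e.D := fun p => ⟨![1, e.v] p.1 * p.2, mul_mem (by
    match p.1 with
    | 0 => exact one_mem _
    | 1 => exact e.v_mem_D) (e.Q_le p.2.2)⟩
  have hf : Function.Bijective f := by
    constructor
    · rintro ⟨i, q⟩ ⟨j, q'⟩ h
      have h' : ![1, e.v] i * (q : G) = ![1, e.v] j * q' := congrArg Subtype.val h
      fin_cases i <;> fin_cases j <;> simp at h'
      · exact Prod.ext rfl h'
      · exact absurd (show e.v ∈ e.Q from eq_mul_inv_of_mul_eq h'.symm ▸ mul_mem q.2 (inv_mem q'.2))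
          e.v_not_Q
      · exact absurd (show e.v ∈ e.Q from eq_mul_inv_of_mul_eq h' ▸ mul_mem q'.2 (inv_mem q.2))
          e.v_not_Q
      · exact Prod.ext rfl h'
    · rintro ⟨x, hx⟩
      obtain ⟨c, hc, q, hq, rfl⟩ := e.mem_D hx
      rcases hc with rfl | rfl
      exacts [⟨(0, ⟨q, hq⟩), rfl⟩, ⟨(1, ⟨q, hq⟩), rfl⟩]
  rw [← Nat.card_congr (Equiv.ofBijective f hf), Nat.card_prod, Nat.card_fin]

/-- `D` is the centre of the Sylow normalizer of `E`. -/
theorem center_R (e : Ess X E) {x : G} :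
    x ∈ e.D ↔ x ∈ X.R E ∧ ∀ r ∈ X.R E, r * x = x * r := by
  refine ⟨fun hx => ⟨e.E_le_R hx.1, fun r hr => ?_⟩, fun ⟨hxR, hxc⟩ => ?_⟩
  · by_cases hrE : r ∈ E
    · exact e.comm hrE hx.1
    · have h1 := mem_subgroupOf.1 ((mul_mem_iff_of_index_two e.index_R (a := ⟨e.t, e.t_mem⟩⁻¹)
        (b := ⟨r, hr⟩)).2 (iff_of_false (fun h => e.t_not (mem_subgroupOf.1 (inv_mem_iff.1 h)))
          (fun h => hrE (mem_subgroupOf.1 h))))
      simp only [coe_mul, coe_inv] at h1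
      have h2 : Commute (e.t⁻¹ * r) x := e.comm h1 hx.1
      have h3 : Commute e.t x := mul_inv_eq_iff_eq_mul.1 ((e.fix_iff x hx.1).2 hx.2)
      have h4 := h3.mul_left h2
      rw [mul_inv_cancel_left] at h4
      exact h4.eq
  · have hxE : x ∈ E := e.loc.cent (mem_centralizer_iff.2 fun f hf => hxc f (e.E_le_R hf))
    exact ⟨hxE, (e.fix_iff x hxE).1 (by rw [hxc e.t e.t_mem, mul_inv_cancel_right])⟩

theorem D_comm (e : Ess X E) {x r : G} (hx : x ∈ e.D) (hr : r ∈ X.R E) : r * x = x * r :=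
  (e.center_R.1 hx).2 r hr

theorem normalize_D (e : Ess X E) {s : G} (hs : s ∈ normalizer (X.R E : Set G)) :
    s ∈ normalizer (e.D : Set G) := by
  have key : ∀ s ∈ normalizer (X.R E : Set G), ∀ x ∈ e.D, s * x * s⁻¹ ∈ e.D := by
    intro s hs x hx
    refine e.center_R.2 ⟨(mem_normalizer_iff.1 hs x).1 (e.E_le_R hx.1), fun r hr => ?_⟩
    have h1 := e.D_comm hx (show s⁻¹ * r * s ∈ X.R E by
      simpa using (mem_normalizer_iff.1 (inv_mem hs) r).1 hr)
    calc r * (s * x * s⁻¹) = s * ((s⁻¹ * r * s) * x) * s⁻¹ := by group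
      _ = s * (x * (s⁻¹ * r * s)) * s⁻¹ := by rw [h1]
      _ = s * x * s⁻¹ * r := by group
  exact mem_normalizer_of_both (key s hs) (fun x hx => by simpa using key s⁻¹ (inv_mem hs) x hx)

/-- The centralizer in `S` of an element of `E` outside `D` is `E`. -/
theorem cent_out (e : Ess X E) {x : G} (hx : x ∈ E) (hxD : x ∉ e.D) {s : G}
    (hs : s ∈ (X.S : Subgroup G)) (hc : s * x = x * s) : s ∈ E := by
  by_contra hsE
  have hlt : E < (X.S : Subgroup G) ⊓ centralizer ({x} : Set G) := by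
    refine lt_of_le_of_ne (le_inf e.loc.lt.le fun f hf => mem_centralizer_singleton_iff.2 (e.comm hf hx))
      fun h => hsE ?_
    rw [h]; exact ⟨hs, mem_centralizer_singleton_iff.2 hc⟩
  obtain ⟨c, hc', hcE, hcN⟩ := X.exists_normalizing inf_le_left hlt
  have h1 := mem_subgroupOf.1 ((mul_mem_iff_of_index_two e.index_R (a := ⟨e.t, e.t_mem⟩⁻¹)
    (b := ⟨c, ⟨hc'.1, hcN⟩⟩)).2 (iff_of_false (fun h => e.t_not (mem_subgroupOf.1 (inv_mem_iff.1 h)))
      (fun h => hcE (mem_subgroupOf.1 h))))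
  simp only [coe_mul, coe_inv] at h1
  have h2 : Commute c x := mem_centralizer_singleton_iff.1 hc'.2
  have h3 : Commute (e.t⁻¹ * c) x := e.comm h1 hx
  have h4 : Commute e.t x := by
    have h5 := h2.mul_left h3.inv_left
    have h6 : c * (e.t⁻¹ * c)⁻¹ = e.t := by group
    rwa [h6] at h5
  exact hxD ⟨hx, (e.fix_iff x hx).1 (mul_inv_eq_iff_eq_mul.2 h4.eq)⟩

theorem not_central (e : Ess X E) {q : G} (hq : q ∈ e.Q) (h1 : q ≠ 1)
    (hc : ∀ s ∈ (X.S : Subgroup G), s * q = q * s) : False := by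
  refine e.y1 (X.odd_not_centralize (e.loc.lt.le (e.mem_Q.1 hq).1) hc h1
    (mul_inv_eq_iff_eq_mul.1 (e.mem_Q.1 hq).2) ?_)
  exact Odd.of_dvd_nat (by decide : Odd 3) (orderOf_dvd_of_pow_eq_one e.y3)

theorem not_normalized (e : Ess X E) {T : Subgroup G} (hT : T ≤ e.Q) (hne : T ≠ ⊥)
    (h : (X.S : Subgroup G) ≤ normalizer (T : Set G)) : False := by
  obtain ⟨z, hzT, hz1, -, hz⟩ := X.exists_central hne
    ((hT.trans e.Q_le).trans (inf_le_left.trans e.loc.lt.le)) h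
  exact e.not_central (hT hzT) hz1 hz

theorem v_commutator (e : Ess X E) : e.v = e.t * e.a * e.t⁻¹ * e.a⁻¹ := by
  rw [e.ta, e.comm e.a_mem e.v_mem, mul_inv_cancel_right]

end Ess

end CfsgLib.MaxSyl
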