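import Cfsg.Agent.Lib.MaxSylow128.Eight

/-!
# A fixed part of order four
-/

set_option autoImplicit false
set_option linter.style.haveILetI false
set_option linter.unusedSectionVars false

namespace CfsgLib.MaxSyl

open Subgroup CfsgLib.ConjFunctor

variable {G : Type*} [Group G] [Finite G]

theorem mul_mul_of_comm {p q : G} (h : p * q = q * p) : p * q * (p * q) = p * p * (q * q) := by
  calc p * q * (p * q) = p * (q * p) * q := by group
    _ = p * (p * q) * q := by rw [h]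
    _ = p * p * (q * q) := by group

namespace Ess

variable {X : Setup G} {E : Subgroup G}

set_option maxHeartbeats 1000000 in
theorem four_data (e : Ess X E) (h4 : Nat.card e.Q = 4) :
    ∃ T A : Subgroup G, ∃ u w : G, T ≤ X.S ∧ Nat.card T = 64 ∧ A ≤ X.S ∧ Nat.card A = 16 ∧
      (X.S : Subgroup G) ≤ normalizer (A : Set G) ∧ (∀ p ∈ A, ∀ q ∈ A, p * q = q * p) ∧
      u ∈ A ∧ u ≠ 1 ∧ u * u = 1 ∧ (∀ s ∈ (X.S : Subgroup G), s * u = u * s ↔ s ∈ T) ∧
      (∀ x ∈ A, x * x = 1 → x = 1 ∨ x = u ∨ x = w ∨ x = u * w) ∧ w * w = 1 ∧ w ∈ A ∧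
      (∀ x ∈ A, (x * x) * (x * x) = 1) ∧ ∃ q0 ∈ e.Q, q0 * q0 ≠ 1 := by
  classical
  haveI : Fact (Nat.Prime 2) := ⟨Nat.prime_two⟩
  have hE : Nat.card E = 16 := by rw [e.card_E, h4]
  have hR : Nat.card (X.R E) = 32 := by rw [e.card_R, hE]
  have hD : Nat.card e.D = 8 := by rw [e.card_D, h4]
  have hDR : e.D ≤ X.R E := inf_le_left.trans e.E_le_R
  have hDS : e.D ≤ X.S := hDR.trans inf_le_left
  have htD : e.t ∉ e.D := fun h => e.t_not h.1
  have hatD : e.a * e.t ∉ e.D := fun h =>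
    e.t_not (by simpa using mul_mem (inv_mem e.a_mem) h.1)
  have hat : e.a⁻¹ * e.t ∉ e.D := fun h =>
    e.t_not (by simpa using mul_mem e.a_mem h.1)
  have cov := fun {x : G} (hx : x ∈ X.R E) => four_cover hDR (e.E_le_R e.a_mem) e.t_mem e.a_not_D htD
    hat hatD (fun z hz x hx => e.D_comm hz hx) (by rw [hR, hD]) hx
  set T := (X.S : Subgroup G) ⊓ normalizer (X.R E : Set G) with hTdef
  have hRT : X.R E ≤ T := le_inf inf_le_left le_normalizer
  have hgT : e.g ∈ T := ⟨e.g_mem, e.g_nm⟩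
  have hTD : T ≤ normalizer (e.D : Set G) := fun s hs => e.normalize_D hs.2
  have hTS : T < X.S := by
    refine lt_of_le_of_ne inf_le_left fun hT => ?_
    have hnm : ∀ s ∈ (X.S : Subgroup G), s ∈ normalizer (X.R E : Set G) := fun s hs => by
      rw [← hT] at hs; exact hs.2
    have hclass : ∀ s : (X.S : Subgroup G), ∃ i : Fin 3,
        (![e.a, e.t, e.a * e.t] i)⁻¹ * ((s : G) * e.a * (s : G)⁻¹) ∈ e.D := by
      intro s
      obtain ⟨z, hz, h | h | h | h⟩ := cov ((mem_normalizer_iff.1 (hnm s s.2) e.a).1 (e.E_le_R e.a_mem))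
      · exfalso
        refine e.a_not_D ((mem_normalizer_iff.1 (e.normalize_D (hnm s s.2)) e.a).2 ?_)
        rw [h]; exact hz
      · exact ⟨0, by simpa [h] using hz⟩
      · exact ⟨1, by simpa [h] using hz⟩
      · exact ⟨2, by rw [h]; simpa [mul_assoc] using hz⟩
    choose cls hcls using hclass
    let f : (X.S : Subgroup G) ⧸ (X.R E).subgroupOf (X.S : Subgroup G) → Fin 3 := fun q => cls q.out
    have hf : Function.Injective f := by
      intro p q hpq
      have h1 := hcls p.out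
      have h2 := hcls q.out
      change cls p.out = cls q.out at hpq
      rw [hpq] at h1
      set s := (q.out : G) with hs
      set s' := (p.out : G) with hs'
      have h3 : (s * e.a * s⁻¹)⁻¹ * (s' * e.a * s'⁻¹) ∈ e.D := by
        have h5 := mul_mem (inv_mem h2) h1
        simpa [mul_assoc] using h5
      set σ := s⁻¹ * s' with hσ
      have hσS : σ ∈ (X.S : Subgroup G) := mul_mem (inv_mem q.out.2) p.out.2
      have hsD := e.normalize_D (hnm s q.out.2)
      have h6 : e.a⁻¹ * (σ * e.a * σ⁻¹) ∈ e.D := by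
        have h7 : s⁻¹ * ((s * e.a * s⁻¹)⁻¹ * (s' * e.a * s'⁻¹)) * s ∈ e.D := by
          simpa using (mem_normalizer_iff.1 (inv_mem hsD) _).1 h3
        convert h7 using 1
        rw [hσ]; group
      have hσE : σ ∈ normalizer (E : Set G) := by
        have hmap : ∀ x ∈ E, σ * x * σ⁻¹ ∈ E := by
          intro x hx
          have hσD := e.normalize_D (hnm σ hσS)
          by_cases hxD : x ∈ e.D
          · exact ((mem_normalizer_iff.1 hσD x).1 hxD).1
          · obtain ⟨z, hz, h | h | h | h⟩ := cov (e.E_le_R hx)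
            · exact absurd (h ▸ hz) hxD
            · have h8 := mul_mem (mul_mem e.a_mem h6.1) ((mem_normalizer_iff.1 hσD z).1 hz).1
              convert h8 using 1
              rw [h]; group
            · exfalso
              have h9 := mul_mem hx (inv_mem hz.1)
              rw [h, mul_inv_cancel_right] at h9
              exact e.t_not h9
            · exfalso
              have h9 := mul_mem hx (inv_mem hz.1)
              rw [h, mul_inv_cancel_right] at h9
              exact e.t_not (by simpa using mul_mem (inv_mem e.a_mem) h9)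
        rw [← cj_eq_self_iff]
        refine eq_of_le_of_card_ge ?_ (card_cj σ E).ge
        intro x hx
        rw [mem_cj] at hx
        simpa [mul_assoc] using hmap _ hx
      rw [← QuotientGroup.out_eq' p, ← QuotientGroup.out_eq' q, QuotientGroup.eq, mem_subgroupOf]
      refine ⟨SetLike.coe_mem _, ?_⟩
      have h10 := inv_mem hσE
      simpa [hσ, hs, hs'] using h10
    have hc := Nat.card_le_card_of_injective f hf
    rw [Nat.card_fin, ← index_eq_card] at hc
    have h11 := ((X.R E).subgroupOf (X.S : Subgroup G)).card_mul_index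
    rw [Nat.card_congr (subgroupOfEquivOfLe (inf_le_left : X.R E ≤ X.S)).toEquiv, hR, X.card] at h11
    omega
  have hT64 : Nat.card T = 64 := by
    have h1 := X.card_two_mul le_rfl hTS
    have h2 := X.card_two_mul hTS.le (lt_of_le_of_ne hRT fun h => e.g_not (h ▸ hgT))
    rw [X.card] at h1
    rw [hR] at h2
    omega
  have hidx : (T.subgroupOf (X.S : Subgroup G)).index = 2 := by
    have h1 := (T.subgroupOf (X.S : Subgroup G)).card_mul_index
    rw [Nat.card_congr (subgroupOfEquivOfLe (inf_le_left : T ≤ X.S)).toEquiv, hT64, X.card] at h1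
    omega
  have hTn : ∀ s ∈ (X.S : Subgroup G), ∀ x ∈ T, s * x * s⁻¹ ∈ T := by
    intro s hs x hx
    haveI := normal_of_index_eq_two hidx
    exact mem_subgroupOf.1 ((inferInstance : (T.subgroupOf (X.S : Subgroup G)).Normal).conj_mem
      ⟨x, hx.1⟩ (mem_subgroupOf.2 hx) ⟨s, hs⟩)
  have hsplitT : ∀ h ∈ (X.S : Subgroup G), h ∉ T → ∀ s ∈ (X.S : Subgroup G), s ∈ T ∨ h⁻¹ * s ∈ T := by
    intro h hh hhT s hs
    by_cases hsT : s ∈ T
    · exact Or.inl hsT
    · refine Or.inr ?_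
      have h6 := mem_subgroupOf.1 ((mul_mem_iff_of_index_two hidx (a := ⟨h, hh⟩⁻¹) (b := ⟨s, hs⟩)).2
        (iff_of_false (fun hm => hhT (mem_subgroupOf.1 (inv_mem_iff.1 hm)))
          (fun hm => hsT (mem_subgroupOf.1 hm))))
      simpa using h6
  have hTc : ¬ T ≤ centralizer (e.D : Set G) := by
    intro hTc
    have hcen : ∀ x, x ∈ e.D ↔ x ∈ T ∧ ∀ r ∈ T, r * x = x * r := by
      refine fun x => ⟨fun hx => ⟨hRT (hDR hx), fun r hr => (mem_centralizer_iff.1 (hTc hr) x hx).symm⟩,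
        fun ⟨hxT, hxc⟩ => e.center_R.2 ⟨?_, fun r hr => hxc r (hRT hr)⟩⟩
      exact e.E_le_R (e.loc.cent (mem_centralizer_iff.2 fun f hf => hxc f (hRT (e.E_le_R hf))))
    have hSD : (X.S : Subgroup G) ≤ normalizer (e.D : Set G) := by
      have key : ∀ s ∈ (X.S : Subgroup G), ∀ x ∈ e.D, s * x * s⁻¹ ∈ e.D := by
        intro s hs x hx
        obtain ⟨hxT, hxc⟩ := (hcen x).1 hx
        refine (hcen _).2 ⟨hTn s hs x hxT, fun r hr => ?_⟩
        have h1 := hxc (s⁻¹ * r * s) (by simpa using hTn s⁻¹ (inv_mem hs) r hr)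
        calc r * (s * x * s⁻¹) = s * ((s⁻¹ * r * s) * x) * s⁻¹ := by group
          _ = s * (x * (s⁻¹ * r * s)) * s⁻¹ := by rw [h1]
          _ = s * x * s⁻¹ * r := by group
      exact fun s hs => mem_normalizer_of_both (key s hs)
        (fun x hx => by simpa using key s⁻¹ (inv_mem hs) x hx)
    obtain ⟨h, hhS, hhT⟩ := SetLike.exists_of_lt hTS
    have hfix : ∀ U : Subgroup G, U ≤ e.D → ∀ r ∈ T, cj r U = U := by
      intro U hU r hr
      rw [cj_eq_self_iff]
      refine mem_normalizer_of_both (fun x hx => ?_) (fun x hx => ?_)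
      · rw [← mem_centralizer_iff.1 (hTc hr) x (hU hx), mul_inv_cancel_right]; exact hx
      · rw [← mem_centralizer_iff.1 (hTc (inv_mem hr)) x (hU hx), inv_mul_cancel_right]; exact hx
    have hQ'D : cj h e.Q ≤ e.D := by
      rw [← cj_eq_self_iff.2 (hSD hhS)]; exact cj_mono e.Q_le
    have h5 := card_mul_card_le e.Q_le hQ'D
    rw [card_cj, h4, hD] at h5
    have hne : e.Q ⊓ cj h e.Q ≠ ⊥ := fun hb => by
      rw [hb, card_bot] at h5
      norm_num at h5
    refine e.not_normalized inf_le_left hne fun s hs => ?_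
    rw [← cj_eq_self_iff]
    rcases hsplitT h hhS hhT s hs with hsT | hsT
    · exact hfix _ (inf_le_left.trans e.Q_le) s hsT
    · have h7 : cj (h * h) e.Q = e.Q :=
        hfix _ e.Q_le _ (mem_subgroupOf.1 (mul_self_mem_of_index_two hidx ⟨h, hhS⟩))
      have h8 : cj h (e.Q ⊓ cj h e.Q) = e.Q ⊓ cj h e.Q := by
        rw [cj_inf, ← cj_mul, h7, inf_comm]
      rw [show s = h * (h⁻¹ * s) by group, cj_mul, hfix _ (inf_le_left.trans e.Q_le) _ hsT, h8]
  have hCT : ∀ s ∈ T, (∀ x ∈ e.D, s * x = x * s) → s ∈ X.R E := by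
    intro s hs hsc
    by_contra hsR
    have hlt : X.R E < T ⊓ centralizer (e.D : Set G) := by
      refine lt_of_le_of_ne (le_inf hRT fun r hr => mem_centralizer_iff.2 fun x hx => (e.D_comm hx hr).symm)
        fun hh => hsR ?_
      rw [hh]; exact ⟨hs, mem_centralizer_iff.2 fun x hx => (hsc x hx).symm⟩
    have h1 := X.card_two_mul (inf_le_left.trans hTS.le : T ⊓ centralizer (e.D : Set G) ≤ X.S) hlt
    rw [hR] at h1
    exact hTc ((eq_of_le_of_card_ge (inf_le_left : T ⊓ centralizer (e.D : Set G) ≤ T)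
      (by rw [hT64]; omega)).ge.trans inf_le_right)
  obtain ⟨h, hhS, hhD⟩ : ∃ h ∈ (X.S : Subgroup G), h ∉ normalizer (e.D : Set G) := by
    by_contra hall
    push Not at hall
    set C := (X.S : Subgroup G) ⊓ centralizer (e.D : Set G) with hC
    have hRC : X.R E ≤ C :=
      le_inf inf_le_left fun r hr => mem_centralizer_iff.2 fun x hx => (e.D_comm hx hr).symm
    have hCn : ∀ s ∈ (X.S : Subgroup G), ∀ c ∈ C, s * c * s⁻¹ ∈ C := by
      intro s hs c hc
      refine ⟨mul_mem (mul_mem hs hc.1) (Subgroup.inv_mem _ hs), mem_centralizer_iff.2 fun x hx => ?_⟩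
      have h1 := mem_centralizer_iff.1 hc.2 (s⁻¹ * x * s)
        (by simpa using (mem_normalizer_iff.1 (inv_mem (hall s hs)) x).1 hx)
      calc x * (s * c * s⁻¹) = s * ((s⁻¹ * x * s) * c) * s⁻¹ := by group
        _ = s * (c * (s⁻¹ * x * s)) * s⁻¹ := by rw [h1]
        _ = s * c * s⁻¹ * x := by group
    rcases eq_or_lt_of_le hRC with hh | hlt
    · refine hTS.ne (le_antisymm inf_le_left fun s hs => ⟨hs, ?_⟩)
      rw [hh]
      exact mem_normalizer_of_both (hCn s hs) (fun c hc => by simpa using hCn s⁻¹ (inv_mem hs) c hc)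
    · obtain ⟨c, hcC, hcR, hcN⟩ := X.exists_normalizing inf_le_left hlt
      exact hcR (hCT c ⟨hcC.1, hcN⟩ fun x hx => (mem_centralizer_iff.1 hcC.2 x hx).symm)
  have hhT : h ∉ T := fun hh => hhD (hTD hh)
  have hD'ne : cj h e.D ≠ e.D := fun hh => hhD (cj_eq_self_iff.1 hh)
  have hR'T : cj h (X.R E) ≤ T := fun x hx => by
    have h1 := hTn h hhS _ (hRT (mem_cj.1 hx))
    simpa [mul_assoc] using h1
  have hD'T : cj h e.D ≤ T := (cj_mono hDR).trans hR'T
  have hD'R : cj h e.D ≤ X.R E := by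
    intro d hd
    have hcm : ∀ x ∈ cj h (X.R E), x * d = d * x := fun x hx => by
      have h1 := e.D_comm (mem_cj.1 hd) (mem_cj.1 hx)
      calc x * d = h * ((h⁻¹ * x * h) * (h⁻¹ * d * h)) * h⁻¹ := by group
        _ = h * ((h⁻¹ * d * h) * (h⁻¹ * x * h)) * h⁻¹ := by rw [h1]
        _ = d * x := by group
    by_cases hcase : ∃ x ∈ cj h (X.R E), x ∈ E ∧ x ∉ e.D
    · obtain ⟨x, hx', hxE, hxD⟩ := hcase
      exact e.E_le_R (e.cent_out hxE hxD (hTS.le (hD'T hd)) (hcm x hx').symm)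
    · push Not at hcase
      have h1 := card_mul_card_le hRT hR'T
      rw [card_cj, hR, hT64] at h1
      have h2 := card_mul_card_le (inf_le_left : X.R E ⊓ cj h (X.R E) ≤ X.R E) e.E_le_R
      rw [hE, hR] at h2
      have h3 : X.R E ⊓ cj h (X.R E) ⊓ E ≤ e.D := fun x hx => hcase x hx.1.2 hx.2
      have h4' : e.D ≤ X.R E ⊓ cj h (X.R E) ⊓ E := by
        have h5 : 8 ≤ Nat.card ↥(X.R E ⊓ cj h (X.R E) ⊓ E) := by nlinarith
        exact (eq_of_le_of_card_ge h3 (by rw [hD]; exact h5)).ge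
      exact hCT d (hD'T hd) fun x hx => (hcm x (h4' hx).1.2).symm
  set A := e.D ⊔ cj h e.D with hA
  have hAR : A ≤ X.R E := sup_le hDR hD'R
  have hAc : ∀ p ∈ A, ∀ q ∈ A, p * q = q * p := by
    have hD'ab : ∀ p ∈ cj h e.D, ∀ q ∈ cj h e.D, p * q = q * p := fun p hp q hq => by
      calc p * q = h * ((h⁻¹ * p * h) * (h⁻¹ * q * h)) * h⁻¹ := by group
        _ = h * ((h⁻¹ * q * h) * (h⁻¹ * p * h)) * h⁻¹ := by
            rw [e.D_comm (mem_cj.1 hq) (hDR (mem_cj.1 hp))]
        _ = q * p := by group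
    have h1 : A ≤ centralizer (A : Set G) := by
      refine sup_le (fun p hp => mem_centralizer_iff.2 fun q hq => e.D_comm hp (hAR hq))
        fun p hp => ?_
      have h2 : A ≤ centralizer ({p} : Set G) := sup_le
        (fun q hq => mem_centralizer_singleton_iff.2 (e.D_comm hq (hD'R hp)).symm)
        (fun q hq => mem_centralizer_singleton_iff.2 (hD'ab q hq p hp))
      exact mem_centralizer_iff.2 fun q hq => mem_centralizer_singleton_iff.1 (h2 hq)
    exact fun p hp q hq => (mem_centralizer_iff.1 (h1 hp) q hq).symm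
  have hSA : (X.S : Subgroup G) ≤ normalizer (A : Set G) := by
    have hT' : ∀ τ ∈ T, cj τ A = A := by
      intro τ hτ
      have h1 : cj τ (cj h e.D) = cj h e.D := by
        rw [← cj_mul, show τ * h = h * (h⁻¹ * τ * h) by group, cj_mul,
          cj_eq_self_iff.2 (hTD (by simpa using hTn h⁻¹ (inv_mem hhS) τ hτ))]
      show Subgroup.map _ (e.D ⊔ cj h e.D) = _
      rw [Subgroup.map_sup]
      show cj τ e.D ⊔ cj τ (cj h e.D) = _
      rw [h1, cj_eq_self_iff.2 (hTD hτ)]
    intro s hs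
    rw [← cj_eq_self_iff]
    rcases hsplitT h hhS hhT s hs with hsT | hsT
    · exact hT' s hsT
    · rw [show s = h * (h⁻¹ * s) by group, cj_mul, hT' _ hsT]
      show Subgroup.map _ (e.D ⊔ cj h e.D) = _
      rw [Subgroup.map_sup]
      show cj h e.D ⊔ cj h (cj h e.D) = _
      have hhh : h * h ∈ T := mem_subgroupOf.1 (mul_self_mem_of_index_two hidx ⟨h, hhS⟩)
      rw [← cj_mul, cj_eq_self_iff.2 (hTD hhh), sup_comm]
  have haA : e.a ∉ A := by
    intro ha
    have hEA : E ≤ A := by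
      intro x hx
      obtain ⟨c, hc, q, hq, rfl⟩ := e.split' hx
      refine mul_mem ?_ (le_sup_left (a := e.D) (e.Q_le hq))
      rcases hc with rfl | rfl | rfl | rfl
      exacts [one_mem _, le_sup_left (a := e.D) e.v_mem_D, ha,
        mul_mem (le_sup_left (a := e.D) e.v_mem_D) ha]
    have hAE : A ≤ E := fun p hp => e.loc.cent (mem_centralizer_iff.2 fun f hf => hAc f (hEA hf) p hp)
    have h1 := hSA e.g_mem
    rw [le_antisymm hAE hEA] at h1
    exact e.g_not ⟨e.g_mem, h1⟩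
  have htA : e.t ∉ A := by
    intro ht
    have hEA : cj e.g E ≤ A := by
      intro x hx
      obtain ⟨z, hz, rfl | rfl | rfl | rfl⟩ := cov (e.cj_le_R hx)
      · exact le_sup_left (a := e.D) hz
      · exfalso
        have h1 := mul_mem hx (inv_mem hz.2)
        rw [mul_inv_cancel_right] at h1
        exact e.a_not_D ⟨e.a_mem, h1⟩
      · exact mul_mem ht (le_sup_left (a := e.D) hz)
      · exfalso
        have h1 := mul_mem (mul_mem hx (inv_mem hz.2)) (inv_mem e.t_mem_cj)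
        rw [mul_inv_cancel_right, mul_inv_cancel_right] at h1
        exact e.a_not_D ⟨e.a_mem, h1⟩
    have hAE : A ≤ cj e.g E := fun p hp => by
      rw [mem_cj]
      refine e.loc.cent (mem_centralizer_iff.2 fun f hf => ?_)
      have h1 := hAc _ (hEA (conj_mem_cj (g := e.g) hf)) p hp
      calc f * (e.g⁻¹ * p * e.g) = e.g⁻¹ * ((e.g * f * e.g⁻¹) * p) * e.g := by group
        _ = e.g⁻¹ * (p * (e.g * f * e.g⁻¹)) * e.g := by rw [h1]
        _ = e.g⁻¹ * p * e.g * f := by group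
    have h1 := hSA e.g_mem
    rw [le_antisymm hAE hEA, ← cj_eq_self_iff] at h1
    exact e.g_not ⟨e.g_mem, cj_eq_self_iff.1 (cj_inj h1)⟩
  have hAclass : ∀ x ∈ A, x ∈ e.D ∨ ∃ z ∈ e.D, x = e.a * e.t * z := by
    intro x hx
    obtain ⟨z, hz, rfl | rfl | rfl | rfl⟩ := cov (hAR hx)
    · exact Or.inl hz
    · exfalso
      have h1 := mul_mem hx (inv_mem (le_sup_left (a := e.D) (b := cj h e.D) hz))
      rw [mul_inv_cancel_right] at h1
      exact haA h1
    · exfalso
      have h1 := mul_mem hx (inv_mem (le_sup_left (a := e.D) (b := cj h e.D) hz))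
      rw [mul_inv_cancel_right] at h1
      exact htA h1
    · exact Or.inr ⟨z, hz, rfl⟩
  have hA16 : Nat.card A = 16 := by
    have h1 := X.card_two_mul (hAR.trans inf_le_left)
      (lt_of_le_of_ne (le_sup_left : e.D ≤ A) fun hh =>
        hD'ne (eq_of_le_of_card_ge (sup_eq_left.1 hh.symm) (card_cj h e.D).ge))
    have h2 := X.card_two_mul (inf_le_left : X.R E ≤ X.S)
      (lt_of_le_of_ne hAR fun hh => haA (hh ▸ e.E_le_R e.a_mem))
    rw [hD] at h1
    rw [hR] at h2
    omega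
  have hDsq : ∀ d ∈ e.D, ∃ q ∈ e.Q, d * d = q * q ∧ ∃ c, (c = 1 ∨ c = e.v) ∧ d = c * q := by
    intro d hd
    obtain ⟨c, hc, q, hq, rfl⟩ := e.mem_D hd
    refine ⟨q, hq, ?_, c, hc, rfl⟩
    have hcE : c ∈ E := by rcases hc with rfl | rfl; exacts [one_mem _, e.v_mem]
    rw [mul_mul_of_comm (e.comm hcE (e.mem_Q.1 hq).1)]
    rcases hc with rfl | rfl
    · rw [one_mul, one_mul]
    · rw [e.pr.sqv, one_mul]
  have hatsq : ∀ z ∈ e.D, e.a * e.t * z * (e.a * e.t * z) = e.v * (z * z) := by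
    intro z hz
    rw [mul_mul_of_comm (e.D_comm hz (mul_mem (e.E_le_R e.a_mem) e.t_mem))]
    congr 1
    calc e.a * e.t * (e.a * e.t) = e.a * (e.t * e.a * e.t⁻¹) * (e.t * e.t) := by group
      _ = e.a * e.a * e.v := by rw [e.ta, e.tt]; group
      _ = e.v := by rw [e.pr.sqw, one_mul]
  -- the fixed part is cyclic
  obtain ⟨q0, hq0, hq02⟩ : ∃ q0 ∈ e.Q, q0 * q0 ≠ 1 := by
    by_contra hall
    push Not at hall
    obtain ⟨d', hd', hd'D⟩ : ∃ d' ∈ cj h e.D, d' ∉ e.D := by
      by_contra hc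
      push Not at hc
      exact hD'ne (eq_of_le_of_card_ge (fun x hx => hc x hx) (card_cj h e.D).ge)
    rcases hAclass d' (mem_sup_right hd') with h1 | ⟨z, hz, hz'⟩
    · exact hd'D h1
    · obtain ⟨q, hq, h2, -⟩ := hDsq _ (mem_cj.1 hd')
      rw [hall q hq] at h2
      have h3 : d' * d' = 1 := by
        calc d' * d' = h * ((h⁻¹ * d' * h) * (h⁻¹ * d' * h)) * h⁻¹ := by group
          _ = 1 := by rw [h2]; group
      obtain ⟨q', hq', h5, -⟩ := hDsq z hz
      rw [hz', hatsq z hz, h5, hall q' hq', mul_one] at h3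
      exact e.v1 h3
  have hq4 : orderOf q0 = 4 := by
    have h1 : orderOf (⟨q0, hq0⟩ : e.Q) ∣ 2 ^ 2 := by
      have := orderOf_dvd_natCard (⟨q0, hq0⟩ : e.Q)
      rwa [h4] at this
    obtain ⟨j, hj, hj'⟩ := (Nat.dvd_prime_pow Nat.prime_two).1 h1
    rw [orderOf_mk] at hj'
    rcases Nat.lt_or_ge j 2 with hj2 | hj2
    · exfalso
      refine hq02 ?_
      rw [← pow_two, ← orderOf_dvd_iff_pow_eq_one, hj']
      exact dvd_trans (pow_dvd_pow 2 (Nat.lt_succ_iff.1 hj2)) (by norm_num)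
    · rw [hj', le_antisymm hj hj2]; norm_num
  have hQgen : ∀ q ∈ e.Q, ∃ i < 4, q = q0 ^ i := by
    intro q hq
    have hz : zpowers q0 = e.Q :=
      eq_of_le_of_card_ge (zpowers_le.2 hq0) (by rw [Nat.card_zpowers, hq4, h4])
    rw [← hz, mem_zpowers_iff_mem_range_orderOf, Finset.mem_image] at hq
    obtain ⟨i, hi, rfl⟩ := hq
    rw [Finset.mem_range, hq4] at hi
    exact ⟨i, hi, rfl⟩
  have hp4 : q0 ^ 4 = 1 := by rw [← hq4]; exact pow_orderOf_eq_one q0
  set u := q0 * q0 with hu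
  have huu : u * u = 1 := by rw [hu, ← pow_two, ← pow_two, ← pow_mul]; exact hp4
  have huQ : u ∈ e.Q := mul_mem hq0 hq0
  have hQsq : ∀ q ∈ e.Q, (q * q = 1 ∧ (q = 1 ∨ q = u)) ∨ q * q = u := by
    intro q hq
    obtain ⟨i, hi, rfl⟩ := hQgen q hq
    have h3 : q0 ^ 3 * q0 ^ 3 = u := by
      rw [← pow_add, show 3 + 3 = 4 + 2 from rfl, pow_add, hp4, one_mul, hu, pow_two]
    interval_cases i
    · left; simp
    · right; simp [hu]
    · left; exact ⟨by rw [← pow_add]; exact hp4, Or.inr (by rw [hu, pow_two])⟩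
    · right; exact h3
  refine ⟨T, A, u, e.v, hTS.le, hT64, hAR.trans inf_le_left, hA16, hSA, hAc,
    le_sup_left (a := e.D) (e.Q_le huQ), hq02, huu, ?_, ?_, e.pr.sqv,
    le_sup_left (a := e.D) e.v_mem_D, ?_, q0, hq0, hq02⟩
  · have hTu : ∀ τ ∈ T, τ * u = u * τ := by
      intro τ hτ
      have h1 := (mem_normalizer_iff.1 (hTD hτ) q0).1 (e.Q_le hq0)
      obtain ⟨q, hq, h2, -⟩ := hDsq _ h1
      have h3 : τ * u * τ⁻¹ = q * q := by rw [← h2, hu]; group
      rcases hQsq q hq with ⟨h5, -⟩ | h5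
      · rw [h5] at h3
        exact absurd (conj_eq_one_iff.1 h3) hq02
      · rw [h5] at h3
        exact mul_inv_eq_iff_eq_mul.1 h3
    refine fun s hs => ⟨fun hsu => ?_, hTu s⟩
    by_contra hsT
    refine e.not_central huQ hq02 fun r hr => ?_
    rcases hsplitT s hs hsT r hr with h1 | h1
    · exact hTu r h1
    · have h2 : Commute (s * (s⁻¹ * r)) u := Commute.mul_left hsu (hTu _ h1)
      rw [mul_inv_cancel_left] at h2
      exact h2.eq
  · intro x hx hx2
    rcases hAclass x hx with h1 | ⟨z, hz, rfl⟩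
    · obtain ⟨q, hq, h2, c, hc, rfl⟩ := hDsq x h1
      rw [hx2] at h2
      rcases hQsq q hq with ⟨-, h3⟩ | h3
      · rcases hc with rfl | rfl <;> rcases h3 with rfl | rfl
        · simp
        · simp
        · simp
        · right; right; right
          exact e.comm e.v_mem (e.mem_Q.1 huQ).1
      · exact absurd (h2.trans h3).symm hq02
    · exfalso
      obtain ⟨q, hq, h2, -⟩ := hDsq z hz
      rw [hatsq z hz, h2] at hx2
      exact e.v_not_Q (eq_inv_of_mul_eq_one_left hx2 ▸ inv_mem (mul_mem hq hq))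
  · intro x hx
    have key : ∀ q ∈ e.Q, (q * q) * (q * q) = 1 := fun q hq => by
      rcases hQsq q hq with ⟨h1, -⟩ | h1 <;> rw [h1]
      · exact one_mul 1
      · exact huu
    rcases hAclass x hx with h1 | ⟨z, hz, rfl⟩
    · obtain ⟨q, hq, h2, -⟩ := hDsq x h1
      rw [h2]; exact key q hq
    · obtain ⟨q, hq, h2, -⟩ := hDsq z hz
      rw [hatsq z hz, h2, mul_mul_of_comm (e.comm e.v_mem (mul_mem (e.mem_Q.1 hq).1 (e.mem_Q.1 hq).1)),
        e.pr.sqv, key q hq, one_mul]

/-- The fixed part is cyclic of order dividing four. -/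
theorem cyclic_Q (e : Ess X E) : ∃ q0 ∈ e.Q, (∀ q ∈ e.Q, ∃ i : ℕ, q = q0 ^ i) ∧ q0 ^ 4 = 1 := by
  classical
  haveI : Fact (Nat.Prime 2) := ⟨Nat.prime_two⟩
  have key : ∀ q0 ∈ e.Q, orderOf q0 = Nat.card e.Q → ∀ q ∈ e.Q, ∃ i : ℕ, q = q0 ^ i := by
    intro q0 hq0 ho q hq
    have hz : zpowers q0 = e.Q :=
      eq_of_le_of_card_ge (zpowers_le.2 hq0) (by rw [Nat.card_zpowers, ho])
    rw [← hz, mem_zpowers_iff_mem_range_orderOf, Finset.mem_image] at hq
    obtain ⟨i, -, hi⟩ := hq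
    exact ⟨i, hi.symm⟩
  rcases e.card_Q with h | h | h
  · exact ⟨1, one_mem _, key 1 (one_mem _) (by rw [orderOf_one, h]), one_pow 4⟩
  · obtain ⟨q, hq⟩ := exists_prime_orderOf_dvd_card' (G := e.Q) 2 (by rw [h])
    rw [← orderOf_coe] at hq
    refine ⟨q, q.2, key q q.2 (by rw [hq, h]), orderOf_dvd_iff_pow_eq_one.1 (by rw [hq]; norm_num)⟩
  · obtain ⟨T, A, u, w, -, -, -, -, -, -, -, -, -, -, -, -, -, -, q0, hq0, hq02⟩ := e.four_data h
    have h1 : orderOf (⟨q0, hq0⟩ : e.Q) ∣ 2 ^ 2 := by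
      have := orderOf_dvd_natCard (⟨q0, hq0⟩ : e.Q)
      rwa [h] at this
    obtain ⟨j, hj, hj'⟩ := (Nat.dvd_prime_pow Nat.prime_two).1 h1
    rw [orderOf_mk] at hj'
    have hq4 : orderOf q0 = 4 := by
      rcases Nat.lt_or_ge j 2 with hj2 | hj2
      · exfalso
        refine hq02 ?_
        rw [← pow_two, ← orderOf_dvd_iff_pow_eq_one, hj']
        exact dvd_trans (pow_dvd_pow 2 (Nat.lt_succ_iff.1 hj2)) (by norm_num)
      · rw [hj', le_antisymm hj hj2]; norm_num
    exact ⟨q0, hq0, key q0 hq0 (by rw [hq4, h]), by rw [← hq4]; exact pow_orderOf_eq_one q0⟩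

end Ess

end CfsgLib.MaxSyl
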