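import Mathlib.GroupTheory.Transfer
import Mathlib.GroupTheory.SpecificGroups.Cyclic
import Mathlib.GroupTheory.GroupAction.Quotient
import Mathlib.RingTheory.IntegralDomain
import Mathlib.FieldTheory.Finite.Basic
import Mathlib.Tactic.NormNum.Prime
import Mathlib.Algebra.Group.Pointwise.Set.Card

/-!
# Small groups without normal 2-subgroups
-/

set_option autoImplicit false
set_option linter.style.haveILetI false

namespace CfsgLib.MaxSyl

open Subgroup
open scoped Pointwise

variable {X : Type*} [Group X] [Finite X]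

omit [Finite X] in
theorem isPGroup_two_of_card {Y : Subgroup X} {r : ℕ} (h : Nat.card Y = 2 ^ r) : IsPGroup 2 Y :=
  IsPGroup.of_card h

/-- A group of order `7 * 2 ^ r`, `r = 2, 3`, has a nontrivial normal 2-subgroup. -/
theorem not_card_seven (h2 : ∀ Y : Subgroup X, Y.Normal → IsPGroup 2 Y → Y = ⊥) {r : ℕ}
    (hr : 2 ≤ r) (hr3 : r ≤ 3) (hX : Nat.card X = 7 * 2 ^ r) : False := by
  haveI : Fact (Nat.Prime 7) := ⟨by norm_num⟩
  haveI : Fact (Nat.Prime 2) := ⟨Nat.prime_two⟩
  obtain ⟨Q⟩ : Nonempty (Sylow 7 X) := inferInstance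
  have hQ : Nat.card Q = 7 := by
    rw [Q.card_eq_multiplicity, hX, Nat.factorization_mul (by norm_num) (by positivity),
      Nat.Prime.factorization (by norm_num : Nat.Prime 7), Nat.Prime.factorization_pow Nat.prime_two]
    simp
  have hidx : (Q : Subgroup X).index = 2 ^ r := by
    have := (Q : Subgroup X).card_mul_index
    rw [hQ, hX] at this
    omega
  haveI : IsCyclic Q := isCyclic_of_prime_card hQ
  obtain ⟨T⟩ : Nonempty (Sylow 2 X) := inferInstance
  have hT : Nat.card T = 2 ^ r := by
    rw [T.card_eq_multiplicity, hX, Nat.factorization_mul (by norm_num) (by positivity),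
      Nat.Prime.factorization (by norm_num : Nat.Prime 7), Nat.Prime.factorization_pow Nat.prime_two]
    simp
  have hsup : (T : Subgroup X) ⊔ Q = ⊤ := by
    apply eq_top_of_card_eq
    apply Nat.dvd_antisymm (card_subgroup_dvd_card _)
    rw [hX]
    have hd1 : Nat.card Q ∣ Nat.card ↥((T : Subgroup X) ⊔ Q) := card_dvd_of_le le_sup_right
    have hd2 : Nat.card T ∣ Nat.card ↥((T : Subgroup X) ⊔ Q) := card_dvd_of_le le_sup_left
    rw [hQ] at hd1
    rw [hT] at hd2
    exact Nat.Coprime.mul_dvd_of_dvd_of_dvd (Nat.Coprime.pow_right r (by norm_num)) hd1 hd2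
  by_cases hN : normalizer ((Q : Subgroup X) : Set X) = ⊤
  · have hf : (T : Subgroup X) ≤ normalizer ((Q : Subgroup X) : Set X) := by rw [hN]; exact le_top
    set K := (T : Subgroup X) ⊓ centralizer ((Q : Subgroup X) : Set X) with hK
    have hKp : IsPGroup 2 K := T.isPGroup'.to_le inf_le_left
    have hKn : K.Normal := by
      rw [← normalizer_eq_top_iff, eq_top_iff, ← hsup, sup_le_iff]
      constructor
      · intro x hx
        rw [mem_normalizer_iff]
        have key : ∀ y ∈ (T : Subgroup X), ∀ z ∈ K, y * z * y⁻¹ ∈ K := fun y hy z hz =>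
          ⟨mul_mem (mul_mem hy hz.1) (Subgroup.inv_mem _ hy), mem_centralizer_iff.2 fun b hb => by
            have hb' : y⁻¹ * b * y ∈ (Q : Subgroup X) := by
              simpa using (mem_normalizer_iff.1 (Subgroup.inv_mem _ (hf hy)) b).1 hb
            have := mem_centralizer_iff.1 hz.2 _ hb'
            calc b * (y * z * y⁻¹) = y * ((y⁻¹ * b * y) * z) * y⁻¹ := by group
              _ = y * (z * (y⁻¹ * b * y)) * y⁻¹ := by rw [this]
              _ = y * z * y⁻¹ * b := by group⟩
        intro z
        refine ⟨key x hx z, fun hz => ?_⟩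
        simpa [mul_assoc] using key x⁻¹ (inv_mem hx) _ hz
      · intro q hq
        rw [mem_normalizer_iff]
        intro z
        have hcomm : ∀ z ∈ K, q * z * q⁻¹ = z := fun z hz => by
          rw [mem_centralizer_iff.1 hz.2 q hq, mul_inv_cancel_right]
        refine ⟨fun hz => by rwa [hcomm z hz], fun hz => ?_⟩
        have h5 : q * z * q⁻¹ = z := mul_left_cancel (mul_right_cancel (hcomm _ hz))
        rwa [h5] at hz
    have hbot := h2 K hKn hKp
    set f : T →* MulAut Q := ((Q : Subgroup X).normalizerMonoidHom).comp (inclusion hf) with hfdef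
    have hker : f.ker = ⊥ := by
      rw [eq_bot_iff]
      intro k hk
      rw [hfdef, MonoidHom.mem_ker, MonoidHom.comp_apply, ← MonoidHom.mem_ker,
        normalizerMonoidHom_ker, mem_subgroupOf, coe_inclusion] at hk
      have hk2 : (k : X) ∈ K := ⟨k.2, hk⟩
      rw [hbot, mem_bot] at hk2
      exact mem_bot.2 (Subtype.ext hk2)
    have hd : Nat.card f.range ∣ 6 := by
      have h1 : Nat.card (MulAut Q) = 6 := by
        rw [IsCyclic.card_mulAut, hQ, Nat.totient_prime (by norm_num)]
      rw [← h1]
      exact card_subgroup_dvd_card f.range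
    rw [← index_ker, hker, index_bot, hT] at hd
    interval_cases r <;> norm_num at hd
  · -- eight Sylow subgroups: a normal complement
    have hc : Nat.card (Sylow 7 X) = (normalizer ((Q : Subgroup X) : Set X)).index :=
      Q.card_eq_index_normalizer
    have hmod := card_sylow_modEq_one 7 X
    have hdvd : (normalizer ((Q : Subgroup X) : Set X)).index ∣ 2 ^ r :=
      hidx ▸ index_dvd_of_le le_normalizer
    have hne1 : (normalizer ((Q : Subgroup X) : Set X)).index ≠ 1 := fun h => hN (index_eq_one.1 h)
    rw [hc] at hmod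
    obtain ⟨j, hj, hji⟩ := (Nat.dvd_prime_pow Nat.prime_two).1 hdvd
    rw [hji] at hmod hne1
    have hj3 : j = 3 := by
      have : j ≤ 3 := hj.trans hr3
      interval_cases j <;> simp_all [Nat.ModEq]
    subst hj3
    have hr' : r = 3 := le_antisymm hr3 hj
    subst hr'
    have hQN : normalizer ((Q : Subgroup X) : Set X) = Q := by
      refine (eq_of_le_of_card_ge le_normalizer ?_).symm
      have := (normalizer ((Q : Subgroup X) : Set X)).card_mul_index
      rw [hji, hX] at this
      rw [hQ]; omega
    have hcen : normalizer ((Q : Subgroup X) : Set X) ≤ centralizer ((Q : Subgroup X) : Set X) := by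
      rw [hQN]
      intro a ha
      rw [mem_centralizer_iff]
      intro b hb
      haveI := IsCyclic.isMulCommutative (α := Q)
      exact congrArg Subtype.val (mul_comm' (⟨b, hb⟩ : Q) ⟨a, ha⟩)
    have hK := MonoidHom.ker_transferSylow_isComplement' Q hcen
    have hKc : Nat.card (MonoidHom.transferSylow Q hcen).ker = 2 ^ 3 := by
      have := hK.card_mul_card
      rw [hQ, hX] at this
      omega
    have := h2 _ (MonoidHom.normal_ker _) (isPGroup_two_of_card hKc)
    rw [this, card_bot] at hKc
    norm_num at hKc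

/-- A group of order four times an odd number, with no normal 2-subgroup and no long chain: a normal
subgroup of prime order inverted by the involution of a cyclic Sylow 2-subgroup. -/
theorem structure_four (h2 : ∀ Y : Subgroup X, Y.Normal → IsPGroup 2 Y → Y = ⊥) (P : Sylow 2 X)
    (hP : Nat.card (P : Subgroup X) = 4)
    (h4 : ∀ A B C : Subgroup X, ⊥ < A → A < B → B < C → C < ⊤ → False) :
    IsCyclic (P : Subgroup X) ∧ ∃ (K : Subgroup X) (q : ℕ), q.Prime ∧ q ≠ 2 ∧ Nat.card K = q ∧
      K.Normal ∧ (∀ g ∈ (P : Subgroup X), (∀ k ∈ K, g * k = k * g) → g = 1) ∧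
      Nat.card X = 4 * q := by
  haveI : Fact (Nat.Prime 2) := ⟨Nat.prime_two⟩
  haveI hab : IsMulCommutative (P : Subgroup X) :=
    IsPGroup.isMulCommutative_of_card_eq_prime_sq (p := 2) (by rw [hP]; norm_num)
  obtain ⟨s, hs⟩ := exists_prime_orderOf_dvd_card' (G := (P : Subgroup X)) 2 (by rw [hP]; norm_num)
  rw [← orderOf_coe] at hs
  have hTP : zpowers (s : X) < (P : Subgroup X) := by
    refine lt_of_le_of_ne (zpowers_le.2 s.2) fun e => ?_
    have := congrArg (fun H : Subgroup X => Nat.card H) e
    simp only [Nat.card_zpowers, hs, hP] at this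
    omega
  have hbot : (⊥ : Subgroup X) < zpowers (s : X) := by
    rw [bot_lt_iff_ne_bot, ne_eq, zpowers_eq_bot]
    intro e; rw [e, orderOf_one] at hs; omega
  have hNP : normalizer ((P : Subgroup X) : Set X) = P := by
    by_contra hne
    by_cases hN : normalizer ((P : Subgroup X) : Set X) = ⊤
    · have := h2 _ (normalizer_eq_top_iff.1 hN) P.isPGroup'
      rw [this, card_bot] at hP
      norm_num at hP
    · exact h4 _ _ _ hbot hTP (lt_of_le_of_ne le_normalizer (Ne.symm hne)) (lt_top_iff_ne_top.2 hN)
  have hcen : normalizer ((P : Subgroup X) : Set X) ≤ centralizer ((P : Subgroup X) : Set X) := by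
    rw [hNP]
    intro a ha
    rw [mem_centralizer_iff]
    intro b hb
    exact congrArg Subtype.val (mul_comm' (⟨b, hb⟩ : (P : Subgroup X)) ⟨a, ha⟩)
  set K := (MonoidHom.transferSylow P hcen).ker with hK
  have hcompl := MonoidHom.ker_transferSylow_isComplement' P hcen
  haveI hKn : K.Normal := MonoidHom.normal_ker _
  have hcard : Nat.card K * 4 = Nat.card X := by rw [← hP]; exact hcompl.card_mul_card
  have hKodd : ¬ 2 ∣ Nat.card K := by
    intro h
    have := P.card_eq_multiplicity
    rw [hP, ← hcard, Nat.factorization_mul (Nat.card_pos.ne') (by norm_num)] at this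
    have h1 : 1 ≤ (Nat.card K).factorization 2 :=
      Nat.Prime.factorization_pos_of_dvd Nat.prime_two Nat.card_pos.ne' h
    simp only [Finsupp.add_apply] at this
    rw [show (4 : ℕ) = 2 ^ 2 by norm_num, Nat.Prime.factorization_pow Nat.prime_two] at this
    simp only [Finsupp.single_eq_same] at this
    have h3 := Nat.pow_right_injective le_rfl this
    omega
  have hK1 : K ≠ ⊥ := by
    intro e
    have hT : (P : Subgroup X) = ⊤ := by
      apply eq_top_of_card_eq
      rw [← hcard, e, card_bot, hP]
    have := h2 _ (by rw [hT]; infer_instance) P.isPGroup'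
    rw [this, card_bot] at hP
    norm_num at hP
  -- the extension of `K` by an involution
  have hsK : (s : X) ∉ K := by
    intro h
    exact hKodd (hs ▸ orderOf_dvd_natCard K h)
  have hKl : K < K ⊔ zpowers (s : X) :=
    lt_of_le_of_ne le_sup_left fun e => hsK (e ▸ mem_sup_right (mem_zpowers _))
  have hKt : K ⊔ zpowers (s : X) < ⊤ := by
    rw [lt_top_iff_ne_top]
    intro e
    have h5 : Nat.card ↥(K ⊔ zpowers (s : X)) ≤ Nat.card K * 2 := by
      have h7 : ((K ⊔ zpowers (s : X) : Subgroup X) : Set X) = (K : Set X) * (zpowers (s : X) : Set X) :=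
        normal_mul K (zpowers (s : X))
      calc Nat.card ↥(K ⊔ zpowers (s : X)) = Nat.card ((K : Set X) * (zpowers (s : X) : Set X) : Set X) :=
            Nat.card_congr (Equiv.setCongr h7)
        _ ≤ Nat.card K * Nat.card (zpowers (s : X)) := Set.natCard_mul_le
        _ = _ := by rw [Nat.card_zpowers, hs]
    rw [e, card_top, ← hcard] at h5
    have := Nat.card_pos (α := K)
    omega
  have hq : (Nat.card K).Prime := by
    obtain ⟨p, hp, hpK⟩ := Nat.exists_prime_and_dvd (n := Nat.card K)
      (fun h => hK1 (eq_bot_of_card_le K h.le))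
    haveI := Fact.mk hp
    obtain ⟨k, hk⟩ := exists_prime_orderOf_dvd_card' (G := K) p hpK
    rw [← orderOf_coe] at hk
    by_contra hnp
    have hlt : zpowers (k : X) < K := by
      refine lt_of_le_of_ne (zpowers_le.2 k.2) fun e => hnp ?_
      rw [← e, Nat.card_zpowers, hk]; exact hp
    refine h4 _ _ _ ?_ hlt hKl hKt
    rw [bot_lt_iff_ne_bot, ne_eq, zpowers_eq_bot]
    intro e; rw [e, orderOf_one] at hk; exact hp.ne_one hk.symm
  have hfree : ∀ g ∈ (P : Subgroup X), (∀ k ∈ K, g * k = k * g) → g = 1 := by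
    intro g hg hgc
    have hz : g ∈ center X := by
      rw [mem_center_iff]
      intro x
      obtain ⟨⟨⟨k, hk⟩, ⟨u, hu⟩⟩, rfl, -⟩ := hcompl.existsUnique x
      have hgu : g * u = u * g := congrArg Subtype.val (mul_comm' (⟨g, hg⟩ : (P : Subgroup X)) ⟨u, hu⟩)
      show k * u * g = g * (k * u)
      rw [mul_assoc, ← hgu, ← mul_assoc, ← hgc k hk, mul_assoc]
    have hn : ((P : Subgroup X) ⊓ center X).Normal := by
      refine ⟨fun z hzz x => ?_⟩
      rw [mem_center_iff.1 hzz.2 x, mul_inv_cancel_right]
      exact hzz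
    have := h2 _ hn (P.isPGroup'.to_le inf_le_left)
    exact mem_bot.1 (this ▸ (⟨hg, hz⟩ : g ∈ (P : Subgroup X) ⊓ center X))
  refine ⟨?_, K, Nat.card K, hq, fun h => hKodd (by rw [h]), rfl, hKn, hfree, by omega⟩
  haveI := Fact.mk hq
  haveI : IsCyclic K := isCyclic_of_prime_card rfl
  have hfK : (P : Subgroup X) ≤ normalizer (K : Set X) := by rw [normalizer_eq_top K]; exact le_top
  set f : (P : Subgroup X) →* MulAut K := (K.normalizerMonoidHom).comp (inclusion hfK) with hfdef
  have hinj : Function.Injective f := by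
    rw [← MonoidHom.ker_eq_bot_iff, eq_bot_iff]
    intro g hg
    rw [hfdef, MonoidHom.mem_ker, MonoidHom.comp_apply, ← MonoidHom.mem_ker,
      normalizerMonoidHom_ker, mem_subgroupOf, coe_inclusion] at hg
    exact mem_bot.2 (Subtype.ext (hfree g g.2 fun k hk => (mem_centralizer_iff.1 hg k hk).symm))
  haveI : IsCyclic (ZMod (Nat.card K))ˣ := inferInstance
  exact isCyclic_of_injective ((IsCyclic.mulAutMulEquiv K).toMonoidHom.comp f)
    ((IsCyclic.mulAutMulEquiv K).injective.comp hinj)

end CfsgLib.MaxSyl
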