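import Mathlib.GroupTheory.OrderOfElement
import Mathlib.Algebra.Group.Subgroup.Basic
import Mathlib.Algebra.Ring.Parity
import Mathlib.Tactic.Group

/-!
# Products of two transvections on an abelian group
-/

set_option autoImplicit false
set_option linter.unusedSectionVars false

namespace CfsgLib.MaxSyl.Transv

variable {G : Type*} [Group G]

/-- `t` moves every element of `E` at most by the involution `v` of `E` that it fixes. -/
structure Tv (E : Subgroup G) (t v : G) : Prop where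
  mem : v ∈ E
  sq : v * v = 1
  fix : t * v * t⁻¹ = v
  move : ∀ x ∈ E, t * x * t⁻¹ = x ∨ t * x * t⁻¹ = x * v

theorem Tv.move_inv {E : Subgroup G} {t v : G} (h : Tv E t v) :
    ∀ x ∈ E, t⁻¹ * x * t = x ∨ t⁻¹ * x * t = x * v := by
  intro x hx
  have hf : t⁻¹ * v * t = v := by
    rw [mul_assoc, inv_mul_eq_iff_eq_mul]
    exact (mul_inv_eq_iff_eq_mul.1 h.fix).symm
  rcases h.move x hx with e | e
  · left
    rw [mul_assoc, inv_mul_eq_iff_eq_mul]
    exact (mul_inv_eq_iff_eq_mul.1 e).symm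
  · right
    have e2 : t * (x * v) * t⁻¹ = x := by
      calc t * (x * v) * t⁻¹ = (t * x * t⁻¹) * (t * v * t⁻¹) := by group
        _ = x * (v * v) := by rw [e, h.fix, mul_assoc]
        _ = x := by rw [h.sq, mul_one]
    rw [mul_assoc, inv_mul_eq_iff_eq_mul]
    exact (mul_inv_eq_iff_eq_mul.1 e2).symm

theorem Tv.conj {E : Subgroup G} {t v : G} (h : Tv E t v) {k : G}
    (hk : k ∈ Subgroup.normalizer (E : Set G)) : Tv E (k * t * k⁻¹) (k * v * k⁻¹) where
  mem := (Subgroup.mem_normalizer_iff.1 hk v).1 h.mem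
  sq := by rw [conj_mul, h.sq, mul_one, mul_inv_cancel]
  fix := by
    calc (k * t * k⁻¹) * (k * v * k⁻¹) * (k * t * k⁻¹)⁻¹ = k * (t * v * t⁻¹) * k⁻¹ := by group
      _ = _ := by rw [h.fix]
  move x hx := by
    have hx' : k⁻¹ * x * k ∈ E := by
      simpa using (Subgroup.mem_normalizer_iff.1 (inv_mem hk) x).1 hx
    rcases h.move _ hx' with e | e
    · left
      calc (k * t * k⁻¹) * x * (k * t * k⁻¹)⁻¹ = k * (t * (k⁻¹ * x * k) * t⁻¹) * k⁻¹ := by group
        _ = _ := by rw [e]; group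
    · right
      calc (k * t * k⁻¹) * x * (k * t * k⁻¹)⁻¹ = k * (t * (k⁻¹ * x * k) * t⁻¹) * k⁻¹ := by group
        _ = _ := by rw [e]; group

/-- `y` moves every element of `E` only inside `{1, v, w, v * w}`. -/
structure Pr (E : Subgroup G) (v w y : G) : Prop where
  memv : v ∈ E
  memw : w ∈ E
  sqv : v * v = 1
  sqw : w * w = 1
  comm : v * w = w * v
  move : ∀ x ∈ E, y * x * y⁻¹ = x ∨ y * x * y⁻¹ = x * v ∨ y * x * y⁻¹ = x * w ∨
    y * x * y⁻¹ = x * (v * w)

theorem pr_of_tv {E : Subgroup G} (hc : ∀ a ∈ E, ∀ b ∈ E, a * b = b * a) {t v s w : G}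
    (ht : Tv E t v) (hs : Tv E s w) : Pr E v w (s * t⁻¹) where
  memv := ht.mem
  memw := hs.mem
  sqv := ht.sq
  sqw := hs.sq
  comm := hc v ht.mem w hs.mem
  move x hx := by
    have hxv : x * v ∈ E := mul_mem hx ht.mem
    have he : s * t⁻¹ * x * (s * t⁻¹)⁻¹ = s * (t⁻¹ * x * t) * s⁻¹ := by group
    rcases ht.move_inv x hx with e | e <;> rw [he, e]
    · rcases hs.move x hx with e' | e'
      · exact Or.inl e'
      · exact Or.inr (Or.inr (Or.inl e'))
    · rcases hs.move _ hxv with e' | e'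
      · exact Or.inr (Or.inl e')
      · exact Or.inr (Or.inr (Or.inr (by rw [e', mul_assoc])))

namespace Pr

variable {E : Subgroup G} {v w y : G}

theorem four_mul (h : Pr E v w y) {a b : G} (ha : a = 1 ∨ a = v ∨ a = w ∨ a = v * w)
    (hb : b = 1 ∨ b = v ∨ b = w ∨ b = v * w) :
    a * b = 1 ∨ a * b = v ∨ a * b = w ∨ a * b = v * w := by
  have h1 : v * (v * w) = w := by rw [← mul_assoc, h.sqv, one_mul]
  have h2 : w * v = v * w := h.comm.symm
  have h3 : w * (v * w) = v := by rw [← mul_assoc, h2, mul_assoc, h.sqw, mul_one]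
  have h4 : (v * w) * v = w := by rw [mul_assoc, h2, h1]
  have h5 : (v * w) * w = v := by rw [mul_assoc, h.sqw, mul_one]
  have h6 : (v * w) * (v * w) = 1 := by rw [mul_assoc, h3, h.sqv]
  rcases ha with rfl | rfl | rfl | rfl <;> rcases hb with rfl | rfl | rfl | rfl <;>
    simp [h.sqv, h.sqw, h1, h2, h3, h4, h5, h6]

theorem four_mem (h : Pr E v w y) {a : G} (ha : a = 1 ∨ a = v ∨ a = w ∨ a = v * w) : a ∈ E := by
  rcases ha with rfl | rfl | rfl | rfl
  exacts [one_mem _, h.memv, h.memw, mul_mem h.memv h.memw]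

theorem delta (h : Pr E v w y) {x : G} (hx : x ∈ E) :
    ∃ c, (c = 1 ∨ c = v ∨ c = w ∨ c = v * w) ∧ y * x * y⁻¹ = x * c := by
  rcases h.move x hx with e | e | e | e
  · exact ⟨1, Or.inl rfl, by rw [e, mul_one]⟩
  · exact ⟨v, Or.inr (Or.inl rfl), e⟩
  · exact ⟨w, Or.inr (Or.inr (Or.inl rfl)), e⟩
  · exact ⟨v * w, Or.inr (Or.inr (Or.inr rfl)), e⟩

theorem four_conj (h : Pr E v w y) {a : G} (ha : a = 1 ∨ a = v ∨ a = w ∨ a = v * w) :
    y * a * y⁻¹ = 1 ∨ y * a * y⁻¹ = v ∨ y * a * y⁻¹ = w ∨ y * a * y⁻¹ = v * w := by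
  obtain ⟨c, hc, e⟩ := h.delta (h.four_mem ha)
  rw [e]
  exact h.four_mul ha hc

theorem pow (h : Pr E v w y) : ∀ n : ℕ, Pr E v w (y ^ n) := by
  intro n
  induction n with
  | zero => exact ⟨h.memv, h.memw, h.sqv, h.sqw, h.comm, fun x _ => Or.inl (by simp)⟩
  | succ n ih =>
    refine ⟨h.memv, h.memw, h.sqv, h.sqw, h.comm, fun x hx => ?_⟩
    obtain ⟨c, hc, e⟩ := ih.delta hx
    obtain ⟨c', hc', e'⟩ := h.delta hx
    have hcc := h.four_conj hc
    have e2 : y ^ (n + 1) * x * (y ^ (n + 1))⁻¹ = x * (c' * (y * c * y⁻¹)) := by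
      rw [pow_succ']
      calc y * y ^ n * x * (y * y ^ n)⁻¹ = y * (y ^ n * x * (y ^ n)⁻¹) * y⁻¹ := by group
        _ = (y * x * y⁻¹) * (y * c * y⁻¹) := by rw [e]; group
        _ = _ := by rw [e', mul_assoc]
    rw [e2]
    rcases h.four_mul hc' hcc with e3 | e3 | e3 | e3 <;> rw [e3] <;> simp

/-- Fixing `v` and `w`, an element of odd order fixes everything. -/
theorem fix_all (h : Pr E v w y) (ho : Odd (orderOf y)) (hv : y * v * y⁻¹ = v)
    (hw : y * w * y⁻¹ = w) {x : G} (hx : x ∈ E) : y * x * y⁻¹ = x := by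
  obtain ⟨c, hc, e⟩ := h.delta hx
  have hfc : y * c * y⁻¹ = c := by
    rcases hc with rfl | rfl | rfl | rfl
    · simp
    · exact hv
    · exact hw
    · rw [← conj_mul, hv, hw]
  have hcc : c * c = 1 := by
    rcases hc with rfl | rfl | rfl | rfl
    · simp
    · exact h.sqv
    · exact h.sqw
    · rw [mul_assoc, ← mul_assoc w, ← h.comm, mul_assoc v w w, h.sqw, mul_one, h.sqv]
  have hn : ∀ n : ℕ, y ^ n * x * (y ^ n)⁻¹ = x * c ^ n := by
    intro n
    induction n with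
    | zero => simp
    | succ n ih =>
      rw [pow_succ']
      calc y * y ^ n * x * (y * y ^ n)⁻¹ = y * (y ^ n * x * (y ^ n)⁻¹) * y⁻¹ := by group
        _ = (y * x * y⁻¹) * (y * c ^ n * y⁻¹) := by rw [ih]; group
        _ = x * c * c ^ n := by rw [e, ← conj_pow, hfc]
        _ = _ := by rw [mul_assoc, ← pow_succ']
  obtain ⟨m, hm⟩ := ho
  have h1 := hn (orderOf y)
  rw [pow_orderOf_eq_one, hm, pow_succ, pow_mul, pow_two, hcc, one_pow, one_mul] at h1
  simp only [one_mul, inv_one, mul_one] at h1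
  rw [e, ← h1]

/-- If `v` is fixed then so is `w`. -/
theorem fix_w (h : Pr E v w y) (ho : Odd (orderOf y)) (h1ne : v ≠ 1) (hw1 : w ≠ 1) (hvw : v ≠ w)
    (hv : y * v * y⁻¹ = v) : y * w * y⁻¹ = w := by
  rcases h.four_conj (Or.inr (Or.inr (Or.inl rfl))) with e | e | e | e
  · exact absurd (conj_eq_one_iff.1 e) hw1
  · exact absurd ((MulAut.conj y).injective (a₁ := v) (a₂ := w) (hv.trans e.symm)) hvw
  · exact e
  · -- `w` goes to `v * w`, so its square fixes `w`
    exfalso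
    have e2 : y * (v * w) * y⁻¹ = w := by
      rw [← conj_mul, hv, e, ← mul_assoc, h.sqv, one_mul]
    have hv2 : Commute (y ^ 2) w := by
      rw [pow_two]
      have : y * y * w * (y * y)⁻¹ = w := by
        calc y * y * w * (y * y)⁻¹ = y * (y * w * y⁻¹) * y⁻¹ := by group
          _ = w := by rw [e, e2]
      exact mul_inv_eq_iff_eq_mul.1 this
    have hy : y ∈ Subgroup.zpowers (y ^ 2) := by
      obtain ⟨m, hm⟩ := ho
      refine Subgroup.mem_zpowers_iff.2 ⟨(m + 1 : ℕ), ?_⟩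
      rw [zpow_natCast, ← pow_mul, show 2 * (m + 1) = orderOf y + 1 by omega, pow_succ,
        pow_orderOf_eq_one, one_mul]
    obtain ⟨i, hi⟩ := Subgroup.mem_zpowers_iff.1 hy
    have hc : Commute y w := hi ▸ hv2.zpow_left i
    rw [hc.eq, mul_inv_cancel_right] at e
    have h1 : v = 1 := mul_eq_right.1 e.symm
    exact h1ne h1


theorem conj_mem_of_sq {a : G} (ho : Odd (orderOf y)) (h2 : Commute (y ^ 2) a) : Commute y a := by
  have hy : y ∈ Subgroup.zpowers (y ^ 2) := by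
    obtain ⟨m, hm⟩ := ho
    refine Subgroup.mem_zpowers_iff.2 ⟨(m + 1 : ℕ), ?_⟩
    rw [zpow_natCast, ← pow_mul, show 2 * (m + 1) = orderOf y + 1 by omega, pow_succ,
      pow_orderOf_eq_one, one_mul]
  obtain ⟨i, hi⟩ := Subgroup.mem_zpowers_iff.1 hy
  exact hi ▸ h2.zpow_left i

theorem swap (h : Pr E v w y) : Pr E (v * w) v y := by
  have h1 : v * w * v = w := by rw [mul_assoc, ← h.comm, ← mul_assoc, h.sqv, one_mul]
  refine ⟨mul_mem h.memv h.memw, h.memv, ?_, h.sqv, ?_, fun x hx => ?_⟩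
  · rw [← mul_assoc, h1, h.sqw]
  · rw [h1, ← mul_assoc, h.sqv, one_mul]
  · rw [h1]
    rcases h.move x hx with e | e | e | e
    exacts [Or.inl e, Or.inr (Or.inr (Or.inl e)), Or.inr (Or.inr (Or.inr e)), Or.inr (Or.inl e)]

theorem symm (h : Pr E v w y) : Pr E w v y :=
  ⟨h.memw, h.memv, h.sqw, h.sqv, h.comm.symm, fun x hx => by
    rw [← h.comm]
    rcases h.move x hx with e | e | e | e
    exacts [Or.inl e, Or.inr (Or.inr (Or.inl e)), Or.inr (Or.inl e), Or.inr (Or.inr (Or.inr e))]⟩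

/-- An element of odd order acting nontrivially on `E` permutes the three involutions freely. -/
theorem free (h : Pr E v w y) (ho : Odd (orderOf y)) (h1 : v ≠ 1) (h2 : w ≠ 1) (hvw : v ≠ w)
    (hmove : ∃ x ∈ E, y * x * y⁻¹ ≠ x) :
    y * v * y⁻¹ ≠ v ∧ y * w * y⁻¹ ≠ w ∧ y * (v * w) * y⁻¹ ≠ v * w := by
  obtain ⟨x, hx, hxm⟩ := hmove
  have hne : v * w ≠ 1 := fun e => hvw (mul_left_cancel (a := v) (by rw [e, h.sqv]))
  refine ⟨fun e => hxm (h.fix_all ho e (h.fix_w ho h1 h2 hvw e) hx),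
    fun e => hxm (h.symm.fix_all ho e (h.symm.fix_w ho h2 h1 hvw.symm e) hx),
    fun e => hxm (h.swap.fix_all ho e (h.swap.fix_w ho hne h1 ?_ e) hx)⟩
  intro e'
  exact h2 (mul_eq_left.1 e')

/-- The cube of an element of odd order acting nontrivially centralizes `E`. -/
theorem cube (h : Pr E v w y) (ho : Odd (orderOf y)) (h1 : v ≠ 1) (h2 : w ≠ 1) (hvw : v ≠ w)
    {x : G} (hx : x ∈ E) : y ^ 3 * x * (y ^ 3)⁻¹ = x := by
  by_cases hmove : ∃ x ∈ E, y * x * y⁻¹ ≠ x
  swap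
  · push Not at hmove
    have hc : Commute y x := mul_inv_eq_iff_eq_mul.1 (hmove x hx)
    rw [(hc.pow_left 3).eq, mul_inv_cancel_right]
  obtain ⟨fv, fw, fp⟩ := h.free ho h1 h2 hvw hmove
  have hodd3 : Odd (orderOf (y ^ 3)) := ho.of_dvd_nat (orderOf_pow_dvd 3)
  have key : ∀ a : G, (a = v ∨ a = w ∨ a = v * w) → y * a * y⁻¹ ≠ a → a ≠ 1 →
      y * (y * a * y⁻¹) * y⁻¹ ≠ a := by
    intro a _ ha _ e
    apply ha
    have hc : Commute (y ^ 2) a := by
      rw [pow_two]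
      exact mul_inv_eq_iff_eq_mul.1 (show y * y * a * (y * y)⁻¹ = a from
        (by group : y * y * a * (y * y)⁻¹ = y * (y * a * y⁻¹) * y⁻¹).trans e)
    exact mul_inv_eq_iff_eq_mul.2 (conj_mem_of_sq ho hc).eq
  have three : ∀ a : G, y ^ 3 * a * (y ^ 3)⁻¹ = y * (y * (y * a * y⁻¹) * y⁻¹) * y⁻¹ := fun a => by
    rw [pow_succ', pow_two]; group
  have k1 := key v (Or.inl rfl) fv h1
  have k2 := key w (Or.inr (Or.inl rfl)) fw h2
  have ne1 : ∀ {a : G}, a ≠ 1 → y * a * y⁻¹ ≠ 1 := fun {a} ha e => ha (conj_eq_one_iff.1 e)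
  have hne : v * w ≠ 1 := fun e => hvw (mul_left_cancel (a := v) (by rw [e, h.sqv]))
  have kp := key (v * w) (Or.inr (Or.inr rfl)) fp hne
  rcases h.four_conj (Or.inr (Or.inl rfl)) with ev | ev | ev | ev
  · exact absurd ev (ne1 h1)
  · exact absurd ev fv
  · rcases h.four_conj (Or.inr (Or.inr (Or.inl rfl))) with ew | ew | ew | ew
    · exact absurd ew (ne1 h2)
    · exact absurd (by rw [ev, ew]) k1
    · exact absurd ew fw
    · have ep : y * (v * w) * y⁻¹ = v := by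
        rw [← conj_mul, ev, ew, ← mul_assoc, ← h.comm, mul_assoc, h.sqw, mul_one]
      refine (h.pow 3).fix_all hodd3 ?_ ?_ hx
      · rw [three, ev, ew, ep]
      · rw [three, ew, ep, ev]
  · rcases h.four_conj (Or.inr (Or.inr (Or.inl rfl))) with ew | ew | ew | ew
    · exact absurd ew (ne1 h2)
    · have ep : y * (v * w) * y⁻¹ = w := by
        rw [← conj_mul, ev, ew, mul_assoc, ← h.comm, ← mul_assoc, h.sqv, one_mul]
      refine (h.pow 3).fix_all hodd3 ?_ ?_ hx
      · rw [three, ev, ep, ew]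
      · rw [three, ew, ev, ep]
    · exact absurd ew fw
    · exact absurd ((MulAut.conj y).injective (a₁ := v) (a₂ := w) (ev.trans ew.symm)) hvw

end Pr

end CfsgLib.MaxSyl.Transv
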