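import Cfsg.Agent.Lib.MaxSylow128.Escape
import Cfsg.Agent.Lib.MaxSylow128.Transv
import Cfsg.Agent.Lib.MaxSylow128.SmallQuot

/-!
# The members of the family have index two in their Sylow normalizers
-/

set_option autoImplicit false
set_option linter.unusedSectionVars false
set_option linter.style.haveILetI false

namespace CfsgLib.MaxSyl

open Subgroup CfsgLib.ConjFunctor

variable {G : Type*} [Group G] [Finite G]

theorem Setup.card_dvd_of_isPGroup (X : Setup G) {H : Subgroup G} (h : IsPGroup 2 H) :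
    Nat.card H ∣ 2 ^ 7 := by
  haveI : Fact (Nat.Prime 2) := ⟨Nat.prime_two⟩
  obtain ⟨T, hT⟩ := h.exists_le_sylow
  have := card_dvd_of_le hT
  rwa [T.card_eq_multiplicity, ← X.S.card_eq_multiplicity, X.card] at this

theorem Setup.odd_pow (X : Setup G) (y : G) : Odd (orderOf (y ^ 2 ^ 7)) := by
  obtain ⟨a, b, hb, hm⟩ := Nat.exists_eq_two_pow_mul_odd (orderOf_pos y).ne'
  have hy : (y ^ b) ^ 2 ^ a = 1 := by rw [← pow_mul, mul_comm, ← hm, pow_orderOf_eq_one]
  have h1 : orderOf (y ^ b) = 2 ^ a := by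
    rw [orderOf_pow' _ (Nat.ne_of_gt hb.pos), hm, Nat.gcd_mul_left_left,
      Nat.mul_div_cancel _ hb.pos]
  have hP : IsPGroup 2 (zpowers (y ^ b)) := IsPGroup.of_card (by rw [Nat.card_zpowers, h1])
  have h2 := X.card_dvd_of_isPGroup hP
  rw [Nat.card_zpowers, h1] at h2
  have h3 : orderOf y ∣ 2 ^ 7 * b := hm ▸ Nat.mul_dvd_mul_right h2 b
  refine hb.of_dvd_nat (orderOf_dvd_of_pow_eq_one ?_)
  rw [← pow_mul]
  exact orderOf_dvd_iff_pow_eq_one.1 h3

theorem eq_one_of_odd_of_mem {H : Subgroup G} (hH : IsPGroup 2 H) {x : G} (hx : x ∈ H)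
    (ho : Odd (orderOf x)) : x = 1 := by
  obtain ⟨k, hk⟩ := IsPGroup.iff_orderOf.1 hH ⟨x, hx⟩
  rw [orderOf_mk] at hk
  rw [hk] at ho
  rcases Nat.eq_zero_or_pos k with rfl | hk0
  · rw [← orderOf_eq_one_iff, hk, pow_zero]
  · exact absurd ho (Nat.not_odd_iff_even.2 (Nat.even_pow.2 ⟨even_two, by omega⟩))

/-- The central elements of square one of `E`. -/
def omegaCenter (E : Subgroup G) : Subgroup G where
  carrier := {e | e ∈ E ∧ (∀ f ∈ E, f * e = e * f) ∧ e * e = 1}
  one_mem' := ⟨one_mem _, fun f _ => by simp, by simp⟩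
  mul_mem' := by
    rintro a b ⟨ha, hac, ha2⟩ ⟨hb, hbc, hb2⟩
    refine ⟨mul_mem ha hb, fun f hf => ?_, ?_⟩
    · rw [← mul_assoc, hac f hf, mul_assoc, hbc f hf, ← mul_assoc]
    · rw [mul_assoc, ← mul_assoc b, hac b hb, mul_assoc a b b, hb2, mul_one, ha2]
  inv_mem' := by
    rintro a ⟨ha, hac, ha2⟩
    rw [inv_eq_of_mul_eq_one_right ha2]
    exact ⟨ha, hac, ha2⟩

namespace Setup.Loc

variable {X : Setup G} {E : Subgroup G}

theorem ne_bot (L : X.Loc E) : E ≠ ⊥ := by
  rintro rfl
  refine X.S_ne_top (eq_top_iff.2 fun g _ => ?_)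
  have : g ∈ centralizer ((⊥ : Subgroup G) : Set G) := mem_centralizer_iff.2 fun e he => by
    rw [mem_bot.1 he, one_mul, mul_one]
  exact mem_bot.1 (L.cent this) ▸ one_mem _

theorem isPGroup (L : X.Loc E) : IsPGroup 2 E := X.S.isPGroup'.to_le L.lt.le

theorem lt_inf (L : X.Loc E) : E < (X.S : Subgroup G) ⊓ normalizer (E : Set G) := by
  refine lt_of_le_of_ne (le_inf L.lt.le le_normalizer) fun e => ?_
  obtain ⟨g, hgS, hgE, hgN⟩ := X.exists_normalizing le_rfl L.lt
  exact hgE (e ▸ ⟨hgS, hgN⟩)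

theorem inf_lt (L : X.Loc E) : (X.S : Subgroup G) ⊓ normalizer (E : Set G) < X.S := by
  refine lt_of_le_of_ne inf_le_left fun e => ?_
  have h : (X.S : Subgroup G) ≤ normalizer (E : Set G) := by
    intro s hs
    rw [← e] at hs
    exact hs.2
  have hN := X.normalizer_eq L.ne_bot L.lt.le h
  exact L.lt.not_ge (L.core X.S L.lt.le X.S.isPGroup' hN.ge (hN.le.trans le_normalizer))

theorem central_mem (L : X.Loc E) {z : G}
    (hc : ∀ s ∈ (X.S : Subgroup G), s * z = z * s) : z ∈ E :=
  L.cent (mem_centralizer_iff.2 fun e he => hc e (L.lt.le he))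

theorem card_normalizer (_L : X.Loc E) :
    ((X.S : Subgroup G) ⊓ normalizer (E : Set G)).relIndex (normalizer (E : Set G)) *
      Nat.card ↥((X.S : Subgroup G) ⊓ normalizer (E : Set G)) =
      Nat.card ↥(normalizer (E : Set G)) := by
  rw [← Nat.card_congr (subgroupOfEquivOfLe (inf_le_right :
      (X.S : Subgroup G) ⊓ normalizer (E : Set G) ≤ _)).toEquiv, mul_comm]
  exact card_mul_index _

theorem relIndex_ne_one (L : X.Loc E) :
    ((X.S : Subgroup G) ⊓ normalizer (E : Set G)).relIndex (normalizer (E : Set G)) ≠ 1 := by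
  intro h
  refine L.lt_inf.not_ge (L.core _ L.lt_inf.le (X.S.isPGroup'.to_le inf_le_left) inf_le_right ?_)
  exact (relIndex_eq_one.1 h).trans le_normalizer

theorem odd_relIndex (L : X.Loc E) :
    Odd (((X.S : Subgroup G) ⊓ normalizer (E : Set G)).relIndex (normalizer (E : Set G))) := by
  rw [Nat.odd_iff]
  have := L.sylow
  omega

theorem core' (L : X.Loc E) (Y : Subgroup (normalizer (E : Set G))) [hn : Y.Normal]
    (hEY : E.subgroupOf (normalizer (E : Set G)) ≤ Y) (hY : IsPGroup 2 Y) :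
    Y ≤ E.subgroupOf (normalizer (E : Set G)) := by
  have h1 : (Y.map (normalizer (E : Set G)).subtype).subgroupOf (normalizer (E : Set G)) = Y :=
    comap_map_eq_self_of_injective (subtype_injective _) Y
  haveI : ((Y.map (normalizer (E : Set G)).subtype).subgroupOf (normalizer (E : Set G))).Normal := by
    rw [h1]; exact hn
  have h := L.core (Y.map (normalizer (E : Set G)).subtype)
    (fun e he => ⟨⟨e, le_normalizer he⟩, hEY (mem_subgroupOf.2 he), rfl⟩) (hY.map _)
    (map_subtype_le Y) ((normal_subgroupOf_iff_le_normalizer (map_subtype_le Y)).1 inferInstance)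
  exact fun y hy => mem_subgroupOf.2 (h (mem_map_of_mem _ hy))

theorem quot_core (L : X.Loc E) [(E.subgroupOf (normalizer (E : Set G))).Normal]
    (Y : Subgroup (↥(normalizer (E : Set G)) ⧸ E.subgroupOf (normalizer (E : Set G))))
    (hn : Y.Normal) (hY : IsPGroup 2 Y) : Y = ⊥ := by
  set π := QuotientGroup.mk' (E.subgroupOf (normalizer (E : Set G))) with hπ
  haveI : (Y.comap π).Normal := hn.comap π
  have hker : IsPGroup 2 π.ker := by
    rw [hπ, QuotientGroup.ker_mk']
    exact L.isPGroup.of_equiv (subgroupOfEquivOfLe le_normalizer).symm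
  have h := L.core' (Y.comap π) (fun e he => by
    rw [mem_comap, hπ, QuotientGroup.mk'_apply, (QuotientGroup.eq_one_iff e).2 he]
    exact one_mem _) (hY.comap_of_ker_isPGroup π hker)
  rw [← map_comap_eq_self_of_surjective (QuotientGroup.mk'_surjective _) Y, eq_bot_iff]
  rintro _ ⟨y, hy, rfl⟩
  exact mem_bot.2 ((QuotientGroup.eq_one_iff y).2 (h hy))

theorem of_three (L : X.Loc E)
    (h3 : ((X.S : Subgroup G) ⊓ normalizer (E : Set G)).relIndex (normalizer (E : Set G)) = 3) :
    Nat.card ↥((X.S : Subgroup G) ⊓ normalizer (E : Set G)) ≤ 2 * Nat.card E := by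
  set N := normalizer (E : Set G) with hN
  set R := (X.S : Subgroup G) ⊓ N with hR
  set Y := (R.subgroupOf N).normalCore with hY
  have hEY : E.subgroupOf N ≤ Y :=
    normal_le_normalCore.2 (fun e he => mem_subgroupOf.2 (L.lt_inf.le (mem_subgroupOf.1 he)))
  have hYp : IsPGroup 2 Y :=
    ((X.S.isPGroup'.to_le inf_le_left : IsPGroup 2 R).of_equiv
      (subgroupOfEquivOfLe inf_le_right).symm).to_le (normalCore_le _)
  have h := L.core' Y hEY hYp
  have h6 : Y.index ∣ 6 := by
    have h7 : Nat.card (Equiv.Perm (N ⧸ R.subgroupOf N)) = 6 := by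
      rw [Nat.card_perm, ← index_eq_card, ← relIndex, h3]
      rfl
    rw [hY, normalCore_eq_ker, index_ker, ← h7]
    exact card_subgroup_dvd_card _
  have h8 : (E.subgroupOf N).index ≤ 6 := Nat.le_of_dvd (by norm_num) ((index_dvd_of_le h).trans h6)
  have h9 := (E.subgroupOf N).card_mul_index
  rw [Nat.card_congr (subgroupOfEquivOfLe (le_normalizer (H := E))).toEquiv, ← L.card_normalizer, ← hN,
    ← hR, h3] at h9
  nlinarith

theorem relIndex_le (L : X.Loc E) :
    ((X.S : Subgroup G) ⊓ normalizer (E : Set G)).relIndex (normalizer (E : Set G)) + 1 ≤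
      Nat.card (omegaCenter E) := by
  set N := normalizer (E : Set G) with hN
  set R := (X.S : Subgroup G) ⊓ N with hR
  obtain ⟨z, hzS, hz1, hz2, hz⟩ := X.exists_center
  have hU : ∀ k ∈ N, k * z * k⁻¹ ∈ omegaCenter E := by
    intro k hk
    refine ⟨(mem_normalizer_iff.1 hk z).1 (L.central_mem hz), fun f hf => ?_, ?_⟩
    · have h := hz (k⁻¹ * f * k) (L.lt.le (by
        simpa using (mem_normalizer_iff.1 (inv_mem hk) f).1 hf))
      calc f * (k * z * k⁻¹) = k * ((k⁻¹ * f * k) * z) * k⁻¹ := by group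
        _ = k * (z * (k⁻¹ * f * k)) * k⁻¹ := by rw [h]
        _ = k * z * k⁻¹ * f := by group
    · rw [conj_mul, hz2, mul_one, mul_inv_cancel]
  let f : N ⧸ R.subgroupOf N → ((omegaCenter E : Set G) \ {1} : Set G) :=
    Quotient.lift (fun k => ⟨(k : G) * z * (k : G)⁻¹, hU k k.2, fun e => hz1 (conj_eq_one_iff.1 e)⟩)
      (fun a b hab => Subtype.ext (by
        have h := hz _ (mem_subgroupOf.1 (QuotientGroup.leftRel_apply.1 hab)).1
        simp only [coe_mul, coe_inv] at h
        calc (a : G) * z * (a : G)⁻¹ = a * (z * ((a : G)⁻¹ * b)) * (b : G)⁻¹ := by group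
          _ = a * (((a : G)⁻¹ * b) * z) * (b : G)⁻¹ := by rw [h]
          _ = (b : G) * z * (b : G)⁻¹ := by group))
  have hinj : Function.Injective f := by
    intro a b
    refine Quotient.inductionOn₂ a b fun a b h => ?_
    have h' : (a : G) * z * (a : G)⁻¹ = b * z * (b : G)⁻¹ := congrArg Subtype.val h
    refine QuotientGroup.eq.2 (mem_subgroupOf.2 ⟨?_, (a⁻¹ * b : N).2⟩)
    show ((a⁻¹ * b : N) : G) ∈ (X.S : Subgroup G)
    rw [← X.centralizer_eq hzS hz hz1, mem_centralizer_singleton_iff]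
    simp only [coe_mul, coe_inv]
    calc (a : G)⁻¹ * b * z = (a : G)⁻¹ * (b * z * (b : G)⁻¹) * b := by group
      _ = (a : G)⁻¹ * (a * z * (a : G)⁻¹) * b := by rw [h']
      _ = z * ((a : G)⁻¹ * b) := by group
  have h := Nat.card_le_card_of_injective f hinj
  rw [Nat.card_coe_set_eq, Set.ncard_sdiff_singleton_of_mem (one_mem _), ← Nat.card_coe_set_eq,
    ← index_eq_card] at h
  have := Nat.card_pos (α := omegaCenter E)
  simp only [SetLike.coe_sort_coe] at h
  rw [relIndex]
  omega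

theorem not_five (L : X.Loc E) (h8 : Nat.card (omegaCenter E) = 8) :
    ((X.S : Subgroup G) ⊓ normalizer (E : Set G)).relIndex (normalizer (E : Set G)) ≠ 5 := by
  intro h5
  set N := normalizer (E : Set G) with hN
  haveI : Fact (Nat.Prime 5) := ⟨by norm_num⟩
  obtain ⟨x', hx'⟩ := exists_prime_orderOf_dvd_card' (G := N) 5
    ⟨_, by rw [hN, ← L.card_normalizer, h5]⟩
  set x : G := x'.1
  have hxN : x ∈ N := x'.2
  have hx : orderOf x = 5 := by rw [orderOf_coe]; exact hx'
  set U := omegaCenter E with hUdef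
  have hinv : ∀ k ∈ zpowers x, ∀ u ∈ U, k * u * k⁻¹ ∈ U := by
    intro k hk u hu
    have hkN : k ∈ N := (zpowers_le.2 hxN) hk
    refine ⟨(mem_normalizer_iff.1 hkN u).1 hu.1, fun f hf => ?_, ?_⟩
    · have h := hu.2.1 (k⁻¹ * f * k) (by simpa using (mem_normalizer_iff.1 (inv_mem hkN) f).1 hf)
      calc f * (k * u * k⁻¹) = k * ((k⁻¹ * f * k) * u) * k⁻¹ := by group
        _ = k * (u * (k⁻¹ * f * k)) * k⁻¹ := by rw [h]
        _ = k * u * k⁻¹ * f := by group
    · rw [conj_mul, hu.2.2, mul_one, mul_inv_cancel]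
  letI act : MulAction (zpowers x) U :=
    { smul := fun k u => ⟨(k : G) * u * (k : G)⁻¹, hinv k k.2 u u.2⟩
      one_smul := fun u => Subtype.ext (by show (1 : G) * u * (1 : G)⁻¹ = u; simp)
      mul_smul := fun k l u => Subtype.ext (by
        show ((k : G) * l) * u * ((k : G) * l)⁻¹ = (k : G) * ((l : G) * u * (l : G)⁻¹) * (k : G)⁻¹
        group) }
  have hP : IsPGroup 5 (zpowers x) := IsPGroup.of_card (n := 1) (by rw [Nat.card_zpowers, hx, pow_one])
  have hmod := hP.card_modEq_card_fixedPoints U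
  have he : Nat.card (MulAction.fixedPoints (zpowers x) U) = Nat.card ↥(U ⊓ centralizer ({x} : Set G)) :=
    Nat.card_congr
      { toFun := fun w => ⟨w.1, w.1.2, mem_centralizer_singleton_iff.2
          (mul_inv_eq_iff_eq_mul.1 (congrArg Subtype.val (w.2 ⟨x, mem_zpowers x⟩))).symm⟩
        invFun := fun w => ⟨⟨w, w.2.1⟩, fun k => Subtype.ext (by
          show (k : G) * w * (k : G)⁻¹ = w
          obtain ⟨i, hi⟩ := mem_zpowers_iff.1 k.2
          have hc : Commute x (w : G) := (mem_centralizer_singleton_iff.1 w.2.2).symm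
          rw [← hi, (hc.zpow_left i).eq, mul_inv_cancel_right])⟩
        left_inv := fun w => rfl
        right_inv := fun w => rfl }
  rw [he, h8] at hmod
  have hd : Nat.card ↥(U ⊓ centralizer ({x} : Set G)) ∣ 2 ^ 3 := by
    have := card_dvd_of_le (inf_le_left : U ⊓ centralizer ({x} : Set G) ≤ U)
    rwa [h8] at this
  obtain ⟨j, hj, hje⟩ := (Nat.dvd_prime_pow Nat.prime_two).1 hd
  rw [hje] at hmod
  have hj3 : j = 3 := by interval_cases j <;> simp_all [Nat.ModEq]
  have heq : U ⊓ centralizer ({x} : Set G) = U :=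
    eq_of_le_of_card_ge inf_le_left (by rw [hje, hj3, h8]; norm_num)
  obtain ⟨z, hzS, hz1, hz2, hz⟩ := X.exists_center
  have hzU : z ∈ U := ⟨L.central_mem hz, fun f hf => hz f (L.lt.le hf), hz2⟩
  rw [← heq] at hzU
  have := X.odd_not_centralize hzS hz hz1 (mem_centralizer_singleton_iff.1 hzU.2).symm
    (by rw [hx]; decide)
  rw [this, orderOf_one] at hx
  norm_num at hx

end Setup.Loc

end CfsgLib.MaxSyl
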