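import Cfsg.Agent.Lib.MaxSylow128.Four

/-!
# The fixed part has order at most two
-/

set_option autoImplicit false
set_option linter.style.haveILetI false
set_option linter.unusedSectionVars false

namespace CfsgLib.MaxSyl

open Subgroup CfsgLib.ConjFunctor

variable {G : Type*} [Group G] [Finite G]

private theorem self_mem {V : Subgroup G} {q : G} (hq : q ^ 4 = 1) (m : ℤ) (h : q ^ (2 * m - 1) ∈ V) :
    q ∈ V := by
  have h1 := zpow_mem h (2 * m - 1)
  rw [← zpow_mul, show (2 * m - 1) * (2 * m - 1) = 4 * (m * m - m) + 1 by ring, zpow_add, zpow_one,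
    zpow_mul, show (4 : ℤ) = ((4 : ℕ) : ℤ) by rfl, zpow_natCast, hq, one_zpow, one_mul] at h1
  exact h1

/-- Outside a proper subgroup containing the commutators there is a moved conjugate of `v`. -/
theorem Setup.exists_moved_notin (X : Setup G) {M : Subgroup G}
    (hMS : ∀ a ∈ (X.S : Subgroup G), ∀ b ∈ (X.S : Subgroup G), a⁻¹ * b⁻¹ * a * b ∈ M)
    (hlt : ¬ (X.S : Subgroup G) ≤ M) :
    ∃ (E : Subgroup G) (e : Ess X E), e.v ∈ M ∧ e.a ∉ M := by
  obtain ⟨E, L, x, hxN, hxo, u, huE, hd⟩ := exists_escape X hMS hlt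
  obtain ⟨e, -⟩ := L.exists_ess
  have hvM : e.v ∈ M := by
    rw [e.v_commutator]
    simpa using hMS e.t⁻¹ (inv_mem e.t_mem.1) e.a⁻¹ (inv_mem (e.loc.lt.le e.a_mem))
  by_cases hk : ∃ k ∈ normalizer (E : Set G), k * e.v * k⁻¹ ∉ M
  · obtain ⟨k, hk, hkM⟩ := hk
    obtain ⟨e', hv', ha'⟩ := e.change hk fun h => hkM (by rw [h]; exact hvM)
    exact ⟨E, e', by rw [hv']; exact hvM, by rw [ha']; exact hkM⟩
  exfalso
  push Not at hk
  apply hd
  set C : Set G := {c | ∃ k ∈ normalizer (E : Set G), c = k * e.v * k⁻¹} with hC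
  have hWM : closure C ≤ M := (closure_le _).2 fun c ⟨k, hk', hc⟩ => hc ▸ hk k hk'
  have hWE : closure C ≤ E := (closure_le _).2 fun c ⟨k, hk', hc⟩ =>
    hc ▸ (mem_normalizer_iff.1 hk' e.v).1 e.v_mem
  have hWn : ∀ k ∈ normalizer (E : Set G), ∀ w ∈ closure C, k * w * k⁻¹ ∈ closure C := by
    intro k hk' w hw
    have h : closure C ≤ (closure C).comap (MulAut.conj k).toMonoidHom := (closure_le _).2 <| by
      rintro c ⟨l, hl, rfl⟩
      refine subset_closure ⟨k * l, mul_mem hk' hl, ?_⟩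
      simp [mul_assoc]
    simpa using h hw
  have hvW : e.v ∈ closure C := subset_closure ⟨1, one_mem _, by simp⟩
  have haW : e.a ∈ closure C := by
    obtain ⟨k, hk', hka⟩ := e.kconj
    exact subset_closure ⟨k, hk', hka.symm⟩
  obtain ⟨q0, hq0, hgen, hq4⟩ := e.cyclic_Q
  have hq0E := (e.mem_Q.1 hq0).1
  have hdec : ∀ z ∈ E, ∃ w ∈ closure C, ∃ i : ℕ, z = w * q0 ^ i := by
    intro z hz
    obtain ⟨c, hc, q, hq, rfl⟩ := e.split' hz
    obtain ⟨i, rfl⟩ := hgen q hq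
    refine ⟨c, ?_, i, rfl⟩
    rcases hc with rfl | rfl | rfl | rfl
    exacts [one_mem _, hvW, haW, mul_mem hvW haW]
  have hfull : q0 ∈ closure C → closure C = E := fun h => le_antisymm hWE fun z hz => by
    obtain ⟨w, hw, i, rfl⟩ := hdec z hz
    exact mul_mem hw (pow_mem h i)
  -- the square of every element of the normalizer fixes `E` modulo the closure
  have hsq : ∀ k ∈ normalizer (E : Set G), ∀ z ∈ E, z⁻¹ * (k ^ 2 * z * (k ^ 2)⁻¹) ∈ closure C := by
    intro k hk' z hz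
    by_cases hqW : q0 ∈ closure C
    · rw [hfull hqW]
      exact mul_mem (inv_mem hz) ((mem_normalizer_iff.1 (pow_mem hk' 2) z).1 hz)
    obtain ⟨w1, hw1, i, hi⟩ := hdec _ ((mem_normalizer_iff.1 hk' q0).1 hq0E)
    have hodd : Odd i := by
      rw [← Nat.not_even_iff_odd]
      rintro ⟨j, rfl⟩
      obtain ⟨w3, hw3, l, hl⟩ := hdec (k⁻¹ * q0 * k) (by
        simpa using (mem_normalizer_iff.1 (inv_mem hk') q0).1 hq0E)
      apply hqW
      refine self_mem hq4 ((l : ℤ) * j) ?_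
      have hc3 : Commute w3 (q0 ^ l) := e.comm (hWE hw3) (pow_mem hq0E l)
      have h1 : q0 = (k⁻¹ * w1 * k) * (w3 ^ (j + j) * q0 ^ (l * (j + j))) := by
        calc q0 = k⁻¹ * (k * q0 * k⁻¹) * k := by group
          _ = (k⁻¹ * w1 * k) * (k⁻¹ * q0 ^ (j + j) * k⁻¹⁻¹) := by rw [hi]; group
          _ = (k⁻¹ * w1 * k) * (k⁻¹ * q0 * k⁻¹⁻¹) ^ (j + j) := by rw [conj_pow]
          _ = _ := by rw [inv_inv, hl, hc3.mul_pow, ← pow_mul]
      have h2 : (k⁻¹ * w1 * k) * w3 ^ (j + j) ∈ closure C :=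
        mul_mem (by simpa using hWn k⁻¹ (inv_mem hk') w1 hw1) (pow_mem hw3 _)
      have h3 : q0 ^ (2 * ((l : ℤ) * j) - 1) =
          ((k⁻¹ * w1 * k) * w3 ^ (j + j))⁻¹ := by
        rw [zpow_sub, zpow_one, show (2 * ((l : ℤ) * j)) = ((l * (j + j) : ℕ) : ℤ) by push_cast; ring,
          zpow_natCast]
        refine eq_inv_of_mul_eq_one_left ?_
        have hc : Commute q0 ((k⁻¹ * w1 * k) * w3 ^ (j + j)) := e.comm hq0E (hWE h2)
        rw [mul_assoc, (hc.inv_left).eq, ← mul_assoc, (hc.pow_left _).eq,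
          mul_assoc (k⁻¹ * w1 * k) (w3 ^ (j + j)), ← h1, mul_inv_cancel]
      rw [h3]; exact inv_mem h2
    obtain ⟨w, hw, n, rfl⟩ := hdec z hz
    have hk2 : k ^ 2 ∈ normalizer (E : Set G) := pow_mem hk' 2
    have hq2 : ∃ w' ∈ closure C, k ^ 2 * q0 * (k ^ 2)⁻¹ = w' * q0 := by
      obtain ⟨m, rfl⟩ := hodd
      have hc1 : Commute w1 (q0 ^ (2 * m + 1)) := e.comm (hWE hw1) (pow_mem hq0E _)
      refine ⟨(k * w1 * k⁻¹) * w1 ^ (2 * m + 1), mul_mem (hWn k hk' w1 hw1) (pow_mem hw1 _), ?_⟩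
      have hqq : q0 ^ ((2 * m + 1) * (2 * m + 1)) = q0 := by
        rw [show (2 * m + 1) * (2 * m + 1) = 4 * (m * m + m) + 1 by ring, pow_add, pow_mul, hq4,
          one_pow, one_mul, pow_one]
      calc k ^ 2 * q0 * (k ^ 2)⁻¹ = k * (k * q0 * k⁻¹) * k⁻¹ := by rw [pow_two]; group
        _ = (k * w1 * k⁻¹) * (k * q0 * k⁻¹) ^ (2 * m + 1) := by rw [conj_pow, conj_mul, ← hi]
        _ = _ := by rw [hi, hc1.mul_pow, ← pow_mul, hqq, ← mul_assoc]
    obtain ⟨w', hw', hw'e⟩ := hq2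
    have hc' : Commute w' q0 := e.comm (hWE hw') hq0E
    have h4 : (w * q0 ^ n)⁻¹ * (k ^ 2 * (w * q0 ^ n) * (k ^ 2)⁻¹) =
        w⁻¹ * (k ^ 2 * w * (k ^ 2)⁻¹) * w' ^ n := by
      rw [← conj_mul, ← conj_pow, hw'e, hc'.mul_pow]
      have hc2 : Commute (q0 ^ n) (w⁻¹ * (k ^ 2 * w * (k ^ 2)⁻¹) * w' ^ n) :=
        e.comm (pow_mem hq0E n) (hWE (mul_mem (mul_mem (inv_mem hw) (hWn _ hk2 w hw)) (pow_mem hw' n)))
      calc (w * q0 ^ n)⁻¹ * (k ^ 2 * w * (k ^ 2)⁻¹ * (w' ^ n * q0 ^ n))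
          = (q0 ^ n)⁻¹ * ((w⁻¹ * (k ^ 2 * w * (k ^ 2)⁻¹) * w' ^ n) * q0 ^ n) := by group
        _ = _ := by rw [← hc2.eq, inv_mul_cancel_left]
    rw [h4]
    exact mul_mem (mul_mem (inv_mem hw) (hWn _ hk2 w hw)) (pow_mem hw' n)
  obtain ⟨m, hm⟩ := hxo
  have hx2 : x⁻¹ = (x ^ m) ^ 2 := by
    refine inv_eq_of_mul_eq_one_right ?_
    rw [← pow_mul, ← pow_succ', show m * 2 + 1 = orderOf x by omega, pow_orderOf_eq_one]
  have h5 := hsq (x ^ m) (pow_mem hxN m) u huE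
  rw [← hx2, inv_inv] at h5
  exact hWM h5

namespace Ess

variable {X : Setup G} {E : Subgroup G}

theorem card_Q_le_two (e : Ess X E) : Nat.card e.Q ≤ 2 := by
  rcases e.card_Q with h | h | h
  · omega
  · omega
  exfalso
  haveI : Fact (Nat.Prime 2) := ⟨Nat.prime_two⟩
  obtain ⟨T, A, u, w, hTS, hT64, hAS, hA16, hSA, hAc, huA, hu1, huu, hTu, hinv, hww, hwA, hA4, -⟩ :=
    e.four_data h
  have hidx : (T.subgroupOf (X.S : Subgroup G)).index = 2 := by
    have h1 := (T.subgroupOf (X.S : Subgroup G)).card_mul_index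
    rw [Nat.card_congr (subgroupOfEquivOfLe hTS).toEquiv, hT64, X.card] at h1
    omega
  haveI := normal_of_index_eq_two hidx
  have hcomm : ∀ p ∈ (X.S : Subgroup G), ∀ q ∈ (X.S : Subgroup G), p⁻¹ * q⁻¹ * p * q ∈ T := by
    intro p hp q hq
    have h1 : (⟨p, hp⟩⁻¹ * ⟨q, hq⟩⁻¹ * ⟨p, hp⟩ * ⟨q, hq⟩ : (X.S : Subgroup G)) ∈
        T.subgroupOf (X.S : Subgroup G) := by
      simp only [mul_mem_iff_of_index_two hidx, inv_mem_iff]
      tauto
    exact mem_subgroupOf.1 h1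
  obtain ⟨E', e', -, haT⟩ := X.exists_moved_notin hcomm fun hle => by
    have := card_le_of_le hle
    rw [X.card, hT64] at this
    norm_num at this
  set a := e'.a with ha
  have haS : a ∈ (X.S : Subgroup G) := e'.loc.lt.le e'.a_mem
  have haa : a * a = 1 := e'.pr.sqw
  have hai : a⁻¹ = a := inv_eq_of_mul_eq_one_right haa
  set u1 := a * u * a⁻¹ with hu1'
  have hu1A : u1 ∈ A := (mem_normalizer_iff.1 (hSA haS) u).1 huA
  have hau1 : a * u1 * a⁻¹ = u := by
    calc a * u1 * a⁻¹ = (a * a) * u * (a * a)⁻¹ := by rw [hu1']; group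
      _ = u := by rw [haa]; group
  have hne : u1 ≠ u := fun hh => haT ((hTu a haS).1 (mul_inv_eq_iff_eq_mul.1 hh))
  have hu1one : u1 ≠ 1 := fun hh => hu1 (conj_eq_one_iff.1 hh)
  have hu1u1 : u1 * u1 = 1 := by rw [hu1', conj_mul, huu, mul_one, mul_inv_cancel]
  set w0 := u * u1 with hw0
  have huu1 : u * u1 = u1 * u := hAc u huA u1 hu1A
  have hw0w0 : w0 * w0 = 1 := by
    rw [hw0, mul_mul_of_comm huu1, huu, hu1u1, one_mul]
  have hw01 : w0 ≠ 1 := fun hh => hne (by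
    calc u1 = u * (u * u1) := by rw [← mul_assoc, huu, one_mul]
      _ = u := by rw [← hw0, hh, mul_one])
  have haw0 : a * w0 * a⁻¹ = w0 := by
    rw [hw0, ← conj_mul, ← hu1', hau1, huu1]
  have hlist : ∀ x ∈ A, x * x = 1 → x = 1 ∨ x = u ∨ x = u1 ∨ x = w0 := by
    intro x hx hx2
    rcases hinv x hx hx2 with h1 | h1 | h1 | h1
    · exact Or.inl h1
    · exact Or.inr (Or.inl h1)
    all_goals
      rcases hinv u1 hu1A hu1u1 with h2 | h2 | h2 | h2
      · exact absurd h2 hu1one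
      · exact absurd h2 hne
    · exact Or.inr (Or.inr (Or.inl (h1.trans h2.symm)))
    · exact Or.inr (Or.inr (Or.inr (by rw [hw0, h2, ← mul_assoc, huu, one_mul, h1])))
    · exact Or.inr (Or.inr (Or.inr (by rw [hw0, h2, h1])))
    · exact Or.inr (Or.inr (Or.inl (h1.trans h2.symm)))
  have hfixlist : ∀ x ∈ A, x * x = 1 → a * x * a⁻¹ = x → x = 1 ∨ x = w0 := by
    intro x hx hx2 hxa
    rcases hlist x hx hx2 with rfl | rfl | rfl | rfl
    · exact Or.inl rfl
    · exact absurd hxa hne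
    · exact absurd (hau1.symm.trans hxa).symm hne
    · exact Or.inr rfl
  -- a fixed element outside `{1, w0}`
  obtain ⟨x, hxA, hxa, hx1, hxw⟩ : ∃ x ∈ A, a * x * a⁻¹ = x ∧ x ≠ 1 ∧ x ≠ w0 := by
    by_contra hno
    push Not at hno
    let φ : A →* A :=
      { toFun := fun x => ⟨(x : G)⁻¹ * (a * x * a⁻¹),
          mul_mem (inv_mem x.2) ((mem_normalizer_iff.1 (hSA haS) x).1 x.2)⟩
        map_one' := Subtype.ext (by simp)
        map_mul' := fun x y => Subtype.ext (by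
          show ((x : G) * y)⁻¹ * (a * (x * y) * a⁻¹) =
            (x : G)⁻¹ * (a * x * a⁻¹) * ((y : G)⁻¹ * (a * y * a⁻¹))
          have h1 : (y : G)⁻¹ * ((x : G)⁻¹ * (a * x * a⁻¹)) = (x : G)⁻¹ * (a * x * a⁻¹) * (y : G)⁻¹ :=
            hAc _ (inv_mem y.2) _ (mul_mem (inv_mem x.2) ((mem_normalizer_iff.1 (hSA haS) x).1 x.2))
          calc ((x : G) * y)⁻¹ * (a * (x * y) * a⁻¹)
              = ((y : G)⁻¹ * ((x : G)⁻¹ * (a * x * a⁻¹))) * (a * y * a⁻¹) := by group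
            _ = _ := by rw [h1]; group) }
    have hker : Nat.card φ.ker ≤ 2 := by
      have hf : ∀ x : φ.ker, (((x : A) : G) = 1 ∨ ((x : A) : G) = w0) := by
        intro x
        have h1 : ((x : A) : G)⁻¹ * (a * ((x : A) : G) * a⁻¹) = 1 :=
          congrArg Subtype.val (MonoidHom.mem_ker.1 x.2)
        by_contra hc
        push Not at hc
        exact hc.2 (hno _ (x : A).2 (inv_mul_eq_one.1 h1).symm hc.1)
      have hi : Function.Injective (fun x : φ.ker => (⟨((x : A) : G), by simpa using hf x⟩ : ({1, w0} : Set G))) :=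
        fun p q hpq => by
          have h2 := congrArg Subtype.val hpq
          exact Subtype.ext (Subtype.ext h2)
      refine (Nat.card_le_card_of_injective _ hi).trans ?_
      rw [Nat.card_coe_set_eq]
      exact (Set.ncard_insert_le _ _).trans (by rw [Set.ncard_singleton])
    have hrange : 8 ≤ Nat.card φ.range := by
      have h1 := φ.ker.card_mul_index
      rw [index_ker, hA16] at h1
      nlinarith
    have hi2 : ∀ p : φ.range, a * ((p : A) : G) * a⁻¹ = ((p : A) : G)⁻¹ := by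
      rintro ⟨_, y, rfl⟩
      show a * ((y : G)⁻¹ * (a * y * a⁻¹)) * a⁻¹ = ((y : G)⁻¹ * (a * y * a⁻¹))⁻¹
      calc a * ((y : G)⁻¹ * (a * y * a⁻¹)) * a⁻¹ = (a * (y : G)⁻¹ * a⁻¹) * ((a * a) * y * (a * a)⁻¹) := by group
        _ = _ := by rw [haa]; group
    have hsqp : ∀ p : φ.range, ((p : A) : G) * ((p : A) : G) = 1 → ((p : A) : G) = 1 ∨ ((p : A) : G) = w0 :=
      fun p hp => hfixlist _ (p : A).2 hp (by rw [hi2, inv_eq_of_mul_eq_one_right hp])
    have hsqw : ∀ p : φ.range, ((p : A) : G) * ((p : A) : G) ≠ 1 → ((p : A) : G) * ((p : A) : G) = w0 := by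
      intro p hp
      exact (hsqp (p * p) (hA4 _ (p : A).2)).resolve_left hp
    obtain ⟨p0, hp0⟩ : ∃ p0 : φ.range, ∀ q : φ.range, ((q : A) : G) = 1 ∨ ((q : A) : G) = w0 ∨
        ((q : A) : G) = ((p0 : A) : G) ∨ ((q : A) : G) = ((p0 : A) : G) * w0 := by
      by_cases hex : ∃ p0 : φ.range, ((p0 : A) : G) * ((p0 : A) : G) ≠ 1
      · obtain ⟨p0, hp⟩ := hex
        refine ⟨p0, fun q => ?_⟩
        by_cases hq : ((q : A) : G) * ((q : A) : G) = 1
        · rcases hsqp q hq with h1 | h1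
          exacts [Or.inl h1, Or.inr (Or.inl h1)]
        · have h2 : ((p0 : A) : G)⁻¹ * ((q : A) : G) * (((p0 : A) : G)⁻¹ * ((q : A) : G)) = 1 := by
            rw [mul_mul_of_comm (hAc _ (inv_mem (p0 : A).2) _ (q : A).2), hsqw q hq, ← mul_inv_rev,
              hsqw p0 hp, inv_mul_cancel]
          rcases hsqp (p0⁻¹ * q) h2 with h1 | h1
          · exact Or.inr (Or.inr (Or.inl (inv_mul_eq_one.1 h1).symm))
          · exact Or.inr (Or.inr (Or.inr (by
              change ((p0 : A) : G)⁻¹ * ((q : A) : G) = w0 at h1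
              rw [← h1, mul_inv_cancel_left])))
      · push Not at hex
        exact ⟨1, fun q => (hsqp q (hex q)).imp id Or.inl⟩
    have hi : Function.Injective (fun q : φ.range => (⟨((q : A) : G), by simpa using hp0 q⟩ :
        ({1, w0, ((p0 : A) : G), ((p0 : A) : G) * w0} : Set G))) :=
      fun p q hpq => by
        have h2 := congrArg Subtype.val hpq
        exact Subtype.ext (Subtype.ext h2)
    have h4 := Nat.card_le_card_of_injective _ hi
    rw [Nat.card_coe_set_eq] at h4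
    have h5 : ({1, w0, ((p0 : A) : G), ((p0 : A) : G) * w0} : Set G).ncard ≤ 4 := by
      refine (Set.ncard_insert_le _ _).trans (Nat.add_le_add_right ((Set.ncard_insert_le _ _).trans
        (Nat.add_le_add_right ((Set.ncard_insert_le _ _).trans ?_) 1)) 1)
      rw [Set.ncard_singleton]
    omega
  have hxx : x * x = w0 := by
    have hsq1 : x * x ≠ 1 := fun hh => (hfixlist x hxA hh hxa).elim hx1 hxw
    exact (hfixlist _ (mul_mem hxA hxA) (hA4 x hxA) (by rw [← conj_mul, hxa])).resolve_left hsq1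
  have hxE : x ∈ E' :=
    e'.cent_out e'.a_mem e'.a_not_D (hAS hxA) (mul_inv_eq_iff_eq_mul.1 hxa).symm
  obtain ⟨c, hc, q, hq, rfl⟩ := e'.split' hxE
  have hcE : c ∈ E' := e'.pr.four_mem hc
  have hcc : c * c = 1 := by
    rcases hc with rfl | rfl | rfl | rfl
    · simp
    · exact e'.pr.sqv
    · exact e'.pr.sqw
    · rw [mul_mul_of_comm e'.pr.comm, e'.pr.sqv, e'.pr.sqw, one_mul]
  have hw0Q : w0 ∈ e'.Q := by
    rw [← hxx, mul_mul_of_comm (e'.comm hcE (e'.mem_Q.1 hq).1), hcc, one_mul]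
    exact mul_mem hq hq
  have hTu' : ∀ τ ∈ T, τ * u = u * τ := fun τ hτ => (hTu τ (hTS hτ)).2 hτ
  have hTw : ∀ τ ∈ T, Commute τ w0 := by
    intro τ hτ
    have h1 : τ * u1 = u1 * τ := by
      have hm : a⁻¹ * τ * a ∈ T := mem_subgroupOf.1 (Subgroup.Normal.conj_mem' inferInstance
        ⟨τ, hTS hτ⟩ (mem_subgroupOf.2 hτ) ⟨a, haS⟩)
      have h2 := hTu' _ hm
      calc τ * u1 = a * ((a⁻¹ * τ * a) * u) * a⁻¹ := by rw [hu1']; group
        _ = a * (u * (a⁻¹ * τ * a)) * a⁻¹ := by rw [h2]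
        _ = u1 * τ := by rw [hu1']; group
    exact Commute.mul_right (hTu' τ hτ) h1
  refine e'.not_central hw0Q hw01 fun s hs => ?_
  by_cases hsT : s ∈ T
  · exact (hTw s hsT).eq
  · have h6 := mem_subgroupOf.1 ((mul_mem_iff_of_index_two hidx (a := ⟨a, haS⟩⁻¹) (b := ⟨s, hs⟩)).2
      (iff_of_false (fun hm => haT (mem_subgroupOf.1 (inv_mem_iff.1 hm)))
        (fun hm => hsT (mem_subgroupOf.1 hm))))
    have h7 : Commute a w0 := mul_inv_eq_iff_eq_mul.1 haw0
    have h8 := h7.mul_left (hTw _ h6)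
    simpa using h8.eq

end Ess

end CfsgLib.MaxSyl
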