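import Cfsg.Agent.Lib.MaxSylow128.NotFour
import Cfsg.Agent.Lib.PGroup.MaximalClass

/-!
# Some fixed part is trivial
-/

set_option autoImplicit false
set_option linter.style.haveILetI false
set_option linter.unusedSectionVars false

namespace CfsgLib.MaxSyl

open Subgroup CfsgLib.ConjFunctor
open scoped commutatorElement

universe u

variable {G : Type u} [Group G] [Finite G]

/-- The derived subgroup of the Sylow subgroup. -/
abbrev Setup.S' (X : Setup G) : Subgroup G := ⁅(X.S : Subgroup G), (X.S : Subgroup G)⁆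

theorem Setup.S'_le (X : Setup G) : X.S' ≤ X.S :=
  Subgroup.commutator_le.2 fun _ ha _ hb =>
    mul_mem (mul_mem (mul_mem ha hb) (inv_mem ha)) (inv_mem hb)

theorem Setup.comm_mem (X : Setup G) {p q : G} (hp : p ∈ (X.S : Subgroup G))
    (hq : q ∈ (X.S : Subgroup G)) : p * q * p⁻¹ * q⁻¹ ∈ X.S' :=
  Subgroup.commutator_mem_commutator hp hq

theorem Setup.conj_S' (X : Setup G) {p c : G} (hp : p ∈ (X.S : Subgroup G)) (hc : c ∈ X.S') :
    p * c * p⁻¹ ∈ X.S' := by
  have := mul_mem (X.comm_mem hp (X.S'_le hc)) hc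
  rwa [inv_mul_cancel_right] at this

theorem four_injective_comm {Z C : Subgroup G} (hZC : Z ≤ C) {a b : G} (ha : a ∈ C) (hb : b ∈ C)
    (haZ : a ∉ Z) (hbZ : b ∉ Z) (habZ : a⁻¹ * b ∉ Z) (hmZ : a * b ∉ Z) (hab : a * b = b * a) :
    Function.Injective (fun p : Fin 4 × Z => (⟨rep4 a b p.1 * p.2,
      mul_mem (rep4_mem ha hb p.1) (hZC p.2.2)⟩ : C)) := by
  rintro ⟨i, z⟩ ⟨j, z'⟩ h
  have h' : rep4 a b i * (z : G) = rep4 a b j * z' := congrArg Subtype.val h
  have hd : (rep4 a b i)⁻¹ * rep4 a b j ∈ Z := by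
    have : (rep4 a b i)⁻¹ * rep4 a b j = z * (z' : G)⁻¹ := by
      rw [inv_mul_eq_iff_eq_mul, ← mul_assoc, h', mul_inv_cancel_right]
    rw [this]; exact mul_mem z.2 (inv_mem z'.2)
  have hconj : b⁻¹ * (a * b) ∉ Z := by rw [hab, inv_mul_cancel_left]; exact haZ
  have hij : i = j := by
    have hinv : ∀ {p q : G}, p⁻¹ * q ∈ Z → q⁻¹ * p ∈ Z := fun {p q} hp => by simpa using inv_mem hp
    fin_cases i <;> fin_cases j <;> try rfl
    all_goals exfalso
    all_goals simp only [rep4] at hd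
    · exact haZ (by simpa using hd)
    · exact hbZ (by simpa using hd)
    · exact hmZ (by simpa using hd)
    · exact haZ (by simpa using hinv hd)
    · exact habZ (by simpa using hd)
    · exact hbZ (by simpa [← mul_assoc] using hd)
    · exact hbZ (by simpa using hinv hd)
    · exact habZ (by simpa using hinv hd)
    · exact hconj (by simpa using hd)
    · exact hmZ (by simpa using hinv hd)
    · exact hbZ (by simpa [← mul_assoc] using hinv hd)
    · exact hconj (by simpa using hinv hd)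
  subst hij
  exact Prod.ext rfl (Subtype.ext (mul_left_cancel h'))

namespace Ess

variable {X : Setup G} {E : Subgroup G}

theorem sq_one_two (e : Ess X E) (h2 : Nat.card e.Q ≤ 2) {x : G} (hx : x ∈ E) : x * x = 1 := by
  obtain ⟨c, hc, q, hq, rfl⟩ := e.split' hx
  have hcc : c * c = 1 := by
    rcases hc with rfl | rfl | rfl | rfl
    · simp
    · exact e.pr.sqv
    · exact e.pr.sqw
    · rw [mul_mul_of_comm e.pr.comm, e.pr.sqv, e.pr.sqw, one_mul]
  rw [mul_mul_of_comm (e.comm (e.pr.four_mem hc) (e.mem_Q.1 hq).1), hcc, one_mul]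
  have h1 : orderOf (⟨q, hq⟩ : e.Q) ∣ 2 := by
    have h3 := orderOf_dvd_natCard (⟨q, hq⟩ : e.Q)
    have h4 := Nat.card_pos (α := e.Q)
    have h5 : Nat.card e.Q = 1 ∨ Nat.card e.Q = 2 := by omega
    rcases h5 with h5 | h5 <;> rw [h5] at h3
    · exact h3.trans (one_dvd 2)
    · exact h3
  rw [orderOf_mk] at h1
  rw [← pow_two]
  exact orderOf_dvd_iff_pow_eq_one.1 h1

theorem class_injective (e : Ess X E) {x : G} (hx : x ∈ E) (hxD : x ∉ e.D) :
    ∃ f : (X.S : Subgroup G) ⧸ E.subgroupOf (X.S : Subgroup G) → X.S',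
      Function.Injective f ∧ ∀ p, ∃ s ∈ (X.S : Subgroup G), (f p : G) = x⁻¹ * (s * x * s⁻¹) := by
  have hxS := e.loc.lt.le hx
  refine ⟨fun p => ⟨x⁻¹ * ((p.out : G) * x * (p.out : G)⁻¹), ?_⟩, ?_,
    fun p => ⟨_, p.out.2, rfl⟩⟩
  · have := X.comm_mem (inv_mem hxS) p.out.2
    rw [inv_inv] at this
    simpa [mul_assoc] using this
  · intro p q hpq
    have h1 : (p.out : G) * x * (p.out : G)⁻¹ = (q.out : G) * x * (q.out : G)⁻¹ :=
      mul_left_cancel (congrArg Subtype.val hpq)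
    rw [← QuotientGroup.out_eq' p, ← QuotientGroup.out_eq' q, QuotientGroup.eq, mem_subgroupOf]
    refine e.cent_out hx hxD (p.out⁻¹ * q.out).2 ?_
    simp only [coe_mul, coe_inv]
    calc (p.out : G)⁻¹ * q.out * x
        = (p.out : G)⁻¹ * ((q.out : G) * x * (q.out : G)⁻¹) * q.out := by group
      _ = (p.out : G)⁻¹ * ((p.out : G) * x * (p.out : G)⁻¹) * q.out := by rw [h1]
      _ = x * ((p.out : G)⁻¹ * q.out) := by group

theorem card_quot (e : Ess X E) (h2 : Nat.card e.Q = 2) :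
    Nat.card ((X.S : Subgroup G) ⧸ E.subgroupOf (X.S : Subgroup G)) = 16 := by
  have h1 := (E.subgroupOf (X.S : Subgroup G)).card_mul_index
  rw [Nat.card_congr (subgroupOfEquivOfLe e.loc.lt.le).toEquiv, e.card_E, h2, X.card, index_eq_card] at h1
  omega

theorem card_S' (e : Ess X E) (h2 : Nat.card e.Q = 2) : Nat.card X.S' = 16 := by
  haveI : Fact (Nat.Prime 2) := ⟨Nat.prime_two⟩
  obtain ⟨f, hf, -⟩ := e.class_injective e.a_mem e.a_not_D
  have hge := Nat.card_le_card_of_injective f hf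
  rw [e.card_quot h2] at hge
  refine le_antisymm ?_ hge
  have hS : IsPGroup 2 (X.S : Subgroup G) := X.S.isPGroup'
  have hmap : (commutator (X.S : Subgroup G)).map (X.S : Subgroup G).subtype = X.S' := by
    rw [Subgroup.map_subtype_commutator]
  have hcm : Nat.card X.S' = Nat.card (commutator (X.S : Subgroup G)) := by
    rw [← hmap, card_map_of_injective (subtype_injective _)]
  have hidx := (commutator (X.S : Subgroup G)).card_mul_index
  rw [← hcm, X.card] at hidx
  by_contra hgt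
  push Not at hgt
  obtain ⟨i, hi, hie⟩ := (Nat.dvd_prime_pow Nat.prime_two).1
    (Dvd.intro_left _ hidx : (commutator (X.S : Subgroup G)).index ∣ 2 ^ 7)
  have hi2 : i ≤ 2 := by
    by_contra h
    have : 2 ^ 3 ≤ 2 ^ i := Nat.pow_le_pow_right (by norm_num) (by omega)
    rw [hie] at hidx
    nlinarith
  have hnc : ∀ y : (X.S : Subgroup G), zpowers y ≠ ⊤ := by
    intro y hy
    have h1 : (X.S : Subgroup G) ≤ E := fun s hs => by
      refine e.cent_out e.a_mem e.a_not_D hs ?_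
      obtain ⟨k, hk⟩ := mem_zpowers_iff.1 (hy ▸ mem_top (⟨s, hs⟩ : (X.S : Subgroup G)))
      obtain ⟨l, hl⟩ := mem_zpowers_iff.1
        (hy ▸ mem_top (⟨e.a, e.loc.lt.le e.a_mem⟩ : (X.S : Subgroup G)))
      have h3 : (⟨s, hs⟩ : (X.S : Subgroup G)) * ⟨e.a, e.loc.lt.le e.a_mem⟩ =
          ⟨e.a, e.loc.lt.le e.a_mem⟩ * ⟨s, hs⟩ := by
        rw [← hk, ← hl, ← zpow_add, ← zpow_add, add_comm]
      exact congrArg Subtype.val h3
    exact e.loc.lt.not_ge h1
  interval_cases i
  · refine hnc 1 (CfsgLib.PGroup.MaxClass.eq_or_isCyclic_of_sup_commutator hS 1 ?_)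
    rw [(index_eq_one (H := commutator (X.S : Subgroup G))).1 (by rw [hie]; norm_num), sup_top_eq]
  · have hidx2 : (commutator (X.S : Subgroup G)).index = 2 := by rw [hie]; norm_num
    obtain ⟨y, hy⟩ : ∃ y, y ∉ commutator (X.S : Subgroup G) := by
      by_contra h
      push Not at h
      rw [(eq_top_iff' _).2 h, index_top] at hidx2
      omega
    refine hnc y (CfsgLib.PGroup.MaxClass.eq_or_isCyclic_of_sup_commutator hS y (eq_top_iff.2 fun z _ => ?_))
    by_cases hz : z ∈ commutator (X.S : Subgroup G)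
    · exact mem_sup_right hz
    · have h3 : y⁻¹ * z ∈ commutator (X.S : Subgroup G) := (mul_mem_iff_of_index_two hidx2).2
        (iff_of_false (fun h => hy (inv_mem_iff.1 h)) hz)
      have h4 := mul_mem (mem_sup_left (T := commutator (X.S : Subgroup G)) (mem_zpowers y))
        (mem_sup_right (S := zpowers y) h3)
      rwa [mul_inv_cancel_left] at h4
  · obtain ⟨C, hC, hC2⟩ := CfsgLib.PGroup.MaxClass.exists_cyclic_index_two 7 (X.S : Subgroup G)
      (by norm_num) X.card (by rw [hie]; norm_num)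
    set E' := E.subgroupOf (X.S : Subgroup G) with hE'
    have hle := card_mul_card_le (le_top : E' ≤ ⊤) (le_top : C ≤ ⊤)
    rw [card_top, hE', Nat.card_congr (subgroupOfEquivOfLe e.loc.lt.le).toEquiv, e.card_E, h2] at hle
    have hC64 := C.card_mul_index
    rw [hC2, X.card] at hC64
    rw [X.card] at hle
    haveI : IsCyclic ↥(E' ⊓ C) :=
      isCyclic_of_injective (inclusion (inf_le_right : E' ⊓ C ≤ C)) (inclusion_injective _)
    obtain ⟨c, hc⟩ := IsCyclic.exists_generator (α := ↥(E' ⊓ C))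
    have h4 := orderOf_eq_card_of_forall_mem_zpowers hc
    have h5 : orderOf c ∣ 2 := by
      refine orderOf_dvd_of_pow_eq_one ?_
      rw [pow_two]
      have h6 := e.sq_one_two h2.le (mem_subgroupOf.1 c.2.1)
      exact Subtype.ext (Subtype.ext h6)
    have h7 := Nat.le_of_dvd (by norm_num) h5
    rw [h4] at h7
    rw [← hE'] at hle
    nlinarith

theorem class_eq (e : Ess X E) (h2 : Nat.card e.Q = 2) {x : G} (hx : x ∈ E) (hxD : x ∉ e.D)
    {c : G} (hc : c ∈ X.S') : ∃ s ∈ (X.S : Subgroup G), s * x * s⁻¹ = x * c := by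
  obtain ⟨f, hf, hfs⟩ := e.class_injective hx hxD
  obtain ⟨p, hp⟩ := ((Nat.bijective_iff_injective_and_card f).2
    ⟨hf, by rw [e.card_quot h2, e.card_S' h2]⟩).2 ⟨c, hc⟩
  obtain ⟨s, hs, hse⟩ := hfs p
  refine ⟨s, hs, ?_⟩
  rw [hp] at hse
  simp only at hse
  rw [hse, mul_inv_cancel_left]

theorem inverts (e : Ess X E) (h2 : Nat.card e.Q = 2) {c : G} (hc : c ∈ X.S') :
    e.a * c * e.a⁻¹ = c⁻¹ := by
  obtain ⟨s, hs, he⟩ := e.class_eq h2 e.a_mem e.a_not_D hc
  have h1 : e.a * c * (e.a * c) = 1 := by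
    rw [← he, conj_mul, e.pr.sqw, mul_one, mul_inv_cancel]
  rw [inv_eq_of_mul_eq_one_right e.pr.sqw, eq_comm, inv_eq_iff_mul_eq_one]
  calc c * (e.a * c * e.a) = e.a⁻¹ * (e.a * c * (e.a * c)) * e.a := by group
    _ = 1 := by rw [h1]; group

theorem a_not_S' (e : Ess X E) (h2 : Nat.card e.Q = 2) : e.a ∉ X.S' := fun h => by
  obtain ⟨s, -, he⟩ := e.class_eq h2 e.a_mem e.a_not_D h
  rw [e.pr.sqw] at he
  exact e.a1 (conj_eq_one_iff.1 he)

theorem S'_comm (e : Ess X E) (h2 : Nat.card e.Q = 2) {c d : G} (hc : c ∈ X.S') (hd : d ∈ X.S') :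
    c * d = d * c := by
  have h1 := e.inverts h2 (mul_mem hc hd)
  rw [← conj_mul, e.inverts h2 hc, e.inverts h2 hd, mul_inv_rev] at h1
  have h3 := congrArg (·⁻¹) h1
  simp only [mul_inv_rev, inv_inv] at h3
  exact h3.symm

theorem exists_q (e : Ess X E) (h2 : Nat.card e.Q = 2) :
    ∃ q ∈ e.Q, q ≠ 1 ∧ q * q = 1 ∧ (∀ r ∈ e.Q, r = 1 ∨ r = q) ∧ e.a * q ∉ e.D ∧ e.a * q ∈ E := by
  obtain ⟨p, r, hpr, hall⟩ := Nat.card_eq_two_iff.1 h2
  obtain ⟨q, hq1, hqall⟩ : ∃ q : e.Q, q ≠ 1 ∧ ∀ r : e.Q, r = 1 ∨ r = q := by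
    have h1 := hall ▸ Set.mem_univ (1 : e.Q)
    simp only [Set.mem_insert_iff, Set.mem_singleton_iff] at h1
    have hmem : ∀ z : e.Q, z = p ∨ z = r := fun z => by
      have h3 := hall ▸ Set.mem_univ z
      simpa using h3
    rcases h1 with h1 | h1
    · exact ⟨r, fun h => hpr (h1.symm.trans h.symm), fun z => h1 ▸ hmem z⟩
    · exact ⟨p, fun h => hpr (h.trans h1), fun z => h1 ▸ (hmem z).symm⟩
  refine ⟨q, q.2, fun h => hq1 (Subtype.ext h), e.sq_one_two h2.le (e.mem_Q.1 q.2).1, fun r hr => ?_,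
    fun h => e.a_not_D ?_, mul_mem e.a_mem (e.mem_Q.1 q.2).1⟩
  · rcases hqall ⟨r, hr⟩ with h | h
    · exact Or.inl (congrArg Subtype.val h)
    · exact Or.inr (congrArg Subtype.val h)
  · have := mul_mem h (inv_mem (e.Q_le q.2))
    rwa [mul_inv_cancel_right] at this

end Ess

set_option maxHeartbeats 1000000 in
/-- Some member of the family has trivial fixed part. -/
theorem Setup.exists_card_Q_one (X : Setup G) :
    ∃ (E : Subgroup G) (e : Ess X E), Nat.card e.Q = 1 := by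
  by_contra hno
  have hall : ∀ (E : Subgroup G) (e : Ess X E), Nat.card e.Q = 2 := fun E e => by
    have h1 := e.card_Q_le_two
    have h2 := Nat.card_pos (α := e.Q)
    have h3 : Nat.card e.Q ≠ 1 := fun h => hno ⟨E, e, h⟩
    omega
  have hcommM : ∀ M : Subgroup G, X.S' ≤ M → ∀ a ∈ (X.S : Subgroup G), ∀ b ∈ (X.S : Subgroup G),
      a⁻¹ * b⁻¹ * a * b ∈ M := fun M hM a ha b hb => hM (by
        simpa using X.comm_mem (inv_mem ha) (inv_mem hb))
  obtain ⟨E, e, -, -⟩ := X.exists_moved_notin (hcommM X.S' le_rfl) (by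
    intro hle
    haveI : Fact (Nat.Prime 2) := ⟨Nat.prime_two⟩
    have htop : commutator (X.S : Subgroup G) = ⊤ := by
      rw [eq_top_iff]
      intro s _
      obtain ⟨z, hz, hzs⟩ : (s : G) ∈ (commutator (X.S : Subgroup G)).map (X.S : Subgroup G).subtype := by
        rw [Subgroup.map_subtype_commutator]; exact hle s.2
      exact (Subtype.ext hzs : z = s) ▸ hz
    have h10 := CfsgLib.PGroup.MaxClass.eq_or_isCyclic_of_sup_commutator X.S.isPGroup' 1
      (by rw [htop, sup_top_eq])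
    have h11 := congrArg (fun H : Subgroup (X.S : Subgroup G) => Nat.card H) h10
    simp only [zpowers_one_eq_bot, card_bot, card_top, X.card] at h11
    norm_num at h11)
  have h2 := hall E e
  obtain ⟨u, huQ, hu1, huu, hQ, hauD, hauE⟩ := e.exists_q h2
  have huE := (e.mem_Q.1 huQ).1
  have hau : e.a * u = u * e.a := e.comm e.a_mem huE
  have hauS' : e.a * u ∉ X.S' := by
    intro h
    obtain ⟨s, hs, he⟩ := e.class_eq h2 e.a_mem e.a_not_D h
    rw [← mul_assoc, e.pr.sqw, one_mul] at he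
    have hle : cj s⁻¹ (X.R E) ≤ E := by
      intro r hr
      rw [mem_cj, inv_inv] at hr
      have h1 := e.D_comm (e.Q_le huQ) hr
      refine e.cent_out e.a_mem e.a_not_D ?_ ?_
      · have := mul_mem (mul_mem (inv_mem hs) hr.1) hs
        simpa [mul_assoc] using this
      · calc r * e.a = s⁻¹ * ((s * r * s⁻¹) * (s * e.a * s⁻¹)) * s := by group
          _ = s⁻¹ * ((s * e.a * s⁻¹) * (s * r * s⁻¹)) * s := by rw [he, h1]
          _ = e.a * r := by group
    have h3 := card_le_of_le hle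
    rw [card_cj, e.card_R] at h3
    have := Nat.card_pos (α := E)
    omega
  have hvS' : e.v ∈ X.S' := by
    rw [e.v_commutator]; exact X.comm_mem e.t_mem.1 (e.loc.lt.le e.a_mem)
  have hvu : e.v * u = u * e.v := e.comm e.v_mem huE
  -- the involutions of the derived subgroup
  have hinvol : ∀ c ∈ X.S', c * c = 1 → c = 1 ∨ c = e.v ∨ c = u ∨ c = e.v * u := by
    intro c hc hcc
    have h1 : e.a * c * e.a⁻¹ = c := by rw [e.inverts h2 hc, inv_eq_of_mul_eq_one_right hcc]
    have hcE : c ∈ E := e.cent_out e.a_mem e.a_not_D (X.S'_le hc) (mul_inv_eq_iff_eq_mul.1 h1).symm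
    obtain ⟨d, hd, q, hq, rfl⟩ := e.split' hcE
    rcases hd with rfl | rfl | rfl | rfl <;> rcases hQ q hq with rfl | rfl
    · simp
    · simp
    · simp
    · simp
    · exact absurd (by simpa using hc) (e.a_not_S' h2)
    · exact absurd hc hauS'
    · have := mul_mem (inv_mem hvS') hc
      exact absurd (by simpa [mul_assoc] using this) (e.a_not_S' h2)
    · have := mul_mem (inv_mem hvS') hc
      exact absurd (by simpa [mul_assoc] using this) hauS'
  have hnc : ¬ (X.S : Subgroup G) ≤ (X.S : Subgroup G) ⊓ centralizer ({u} : Set G) := fun h =>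
    e.not_central huQ hu1 fun s hs => mem_centralizer_singleton_iff.1 (h hs).2
  -- `u` is outside the derived subgroup
  have huS' : u ∉ X.S' := by
    intro hu
    have hle : X.S' ≤ (X.S : Subgroup G) ⊓ centralizer ({u} : Set G) := fun c hc =>
      ⟨X.S'_le hc, mem_centralizer_singleton_iff.2 (e.S'_comm h2 hc hu)⟩
    obtain ⟨E', e', -, ha'⟩ := X.exists_moved_notin (hcommM _ hle) hnc
    have h1 := e'.inverts (hall E' e') hu
    rw [inv_eq_of_mul_eq_one_right huu] at h1
    exact ha' ⟨e'.loc.lt.le e'.a_mem, mem_centralizer_singleton_iff.2 (mul_inv_eq_iff_eq_mul.1 h1)⟩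
  have hinvol' : ∀ c ∈ X.S', c * c = 1 → c = 1 ∨ c = e.v := by
    intro c hc hcc
    rcases hinvol c hc hcc with h | h | h | h
    · exact Or.inl h
    · exact Or.inr h
    · exact absurd (h ▸ hc) huS'
    · refine absurd ?_ huS'
      have := mul_mem (inv_mem hvS') (h ▸ hc)
      rwa [inv_mul_cancel_left] at this
  -- every element of `S` centralizes or inverts the derived subgroup
  let PM : Subgroup G :=
    { carrier := {s | s ∈ (X.S : Subgroup G) ∧
        ((∀ c ∈ X.S', s * c * s⁻¹ = c) ∨ (∀ c ∈ X.S', s * c * s⁻¹ = c⁻¹))}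
      one_mem' := ⟨one_mem _, Or.inl fun c _ => by simp⟩
      mul_mem' := by
        rintro p q ⟨hp, hp'⟩ ⟨hq, hq'⟩
        refine ⟨mul_mem hp hq, ?_⟩
        have key : ∀ c, p * q * c * (p * q)⁻¹ = p * (q * c * q⁻¹) * p⁻¹ := fun c => by group
        rcases hp' with hp' | hp' <;> rcases hq' with hq' | hq'
        · exact Or.inl fun c hc => by rw [key, hq' c hc, hp' c hc]
        · exact Or.inr fun c hc => by rw [key, hq' c hc, hp' _ (inv_mem hc)]
        · exact Or.inr fun c hc => by rw [key, hq' c hc, hp' c hc]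
        · exact Or.inl fun c hc => by rw [key, hq' c hc, hp' _ (inv_mem hc), inv_inv]
      inv_mem' := by
        rintro p ⟨hp, hp'⟩
        refine ⟨inv_mem hp, ?_⟩
        rcases hp' with hp' | hp'
        · refine Or.inl fun c hc => ?_
          calc p⁻¹ * c * p⁻¹⁻¹ = p⁻¹ * (p * c * p⁻¹) * p := by rw [hp' c hc, inv_inv]
            _ = c := by group
        · refine Or.inr fun c hc => ?_
          calc p⁻¹ * c * p⁻¹⁻¹ = p⁻¹ * (p * c⁻¹ * p⁻¹) * p := by
                rw [hp' _ (inv_mem hc), inv_inv, inv_inv]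
            _ = c⁻¹ := by group }
  have hPM : (X.S : Subgroup G) ≤ PM := by
    by_contra hlt
    obtain ⟨E', e', -, ha'⟩ := X.exists_moved_notin (hcommM PM fun c hc =>
      ⟨X.S'_le hc, Or.inl fun d hd => by rw [e.S'_comm h2 hc hd, mul_inv_cancel_right]⟩) hlt
    exact ha' ⟨e'.loc.lt.le e'.a_mem, Or.inr fun c hc => e'.inverts (hall E' e') hc⟩
  have huc : ∀ c ∈ X.S', u * c = c * u := by
    rcases (hPM (e.loc.lt.le huE)).2 with h | h
    · exact fun c hc => mul_inv_eq_iff_eq_mul.1 (h c hc)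
    · exfalso
      have hle : X.S' ≤ E := by
        intro c hc
        refine e.cent_out hauE hauD (X.S'_le hc) ?_
        refine (mul_inv_eq_iff_eq_mul.1 ?_).symm
        calc e.a * u * c * (e.a * u)⁻¹ = e.a * (u * c * u⁻¹) * e.a⁻¹ := by group
          _ = c := by rw [h c hc, e.inverts h2 (inv_mem hc), inv_inv]
      have h3 := card_le_of_le hle
      rw [e.card_S' h2, e.card_E, h2] at h3
      omega
  set K := (X.S : Subgroup G) ⊓ centralizer ({u} : Set G) with hK
  have hS'K : X.S' ≤ K := fun c hc => ⟨X.S'_le hc, mem_centralizer_singleton_iff.2 (huc c hc).symm⟩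
  have haK : e.a ∈ K := ⟨e.loc.lt.le e.a_mem, mem_centralizer_singleton_iff.2 hau⟩
  have huK : u ∈ K := ⟨e.loc.lt.le huE, mem_centralizer_singleton_iff.2 rfl⟩
  have hinj := four_injective_comm hS'K haK huK (e.a_not_S' h2) huS'
    (by rw [inv_eq_of_mul_eq_one_right e.pr.sqw]; exact hauS') hauS' hau
  have hK64 : Nat.card K = 64 := by
    have h3 := Nat.card_le_card_of_injective _ hinj
    rw [Nat.card_prod, Nat.card_fin, e.card_S' h2] at h3
    have h4 := X.card_two_mul le_rfl (show K < X.S from lt_of_le_of_ne inf_le_left fun h => hnc h.ge)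
    rw [X.card] at h4
    omega
  have hidx : (K.subgroupOf (X.S : Subgroup G)).index = 2 := by
    have h1 := (K.subgroupOf (X.S : Subgroup G)).card_mul_index
    rw [Nat.card_congr (subgroupOfEquivOfLe (inf_le_left : K ≤ X.S)).toEquiv, hK64, X.card] at h1
    omega
  have hKconj : ∀ s ∈ (X.S : Subgroup G), ∀ k ∈ K, s * k * s⁻¹ ∈ K := fun s hs k hk => by
    have h3 := mul_mem (hS'K (X.comm_mem hs hk.1)) hk
    rwa [inv_mul_cancel_right] at h3
  have hcov : ∀ x ∈ K, ∃ c ∈ X.S', x = c ∨ x = e.a * c ∨ x = u * c ∨ x = e.a * u * c := by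
    intro x hx
    obtain ⟨⟨i, c⟩, hic⟩ := ((Nat.bijective_iff_injective_and_card _).2
      ⟨hinj, by rw [Nat.card_prod, Nat.card_fin, e.card_S' h2, hK64]⟩).2 ⟨x, hx⟩
    have h' : rep4 e.a u i * (c : G) = x := congrArg Subtype.val hic
    refine ⟨c, c.2, ?_⟩
    fin_cases i <;> simp [rep4] at h' <;> simp [← h']
  obtain ⟨E', e', -, ha'⟩ := X.exists_moved_notin (hcommM K hS'K) hnc
  have h2' := hall E' e'
  have ha'S := e'.loc.lt.le e'.a_mem
  have hne : e'.a * u ≠ u * e'.a := fun h => ha' ⟨ha'S, mem_centralizer_singleton_iff.2 h⟩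
  -- the conjugate of `u`
  have hv' : e'.v = e.v := by
    have : e'.v ∈ X.S' := by
      rw [e'.v_commutator]; exact X.comm_mem e'.t_mem.1 ha'S
    exact (hinvol' _ this e'.pr.sqv).resolve_left e'.v1
  obtain ⟨u', hu'Q, hu'1, hu'u', -⟩ := e'.exists_q h2'
  have hu'E := (e'.mem_Q.1 hu'Q).1
  obtain ⟨w, hwE, hwK, hwne⟩ : ∃ w ∈ E', w ∈ K ∧
      ∀ d, (d = 1 ∨ d = e'.v ∨ d = e'.a ∨ d = e'.v * e'.a) → w ≠ d := by
    by_cases hu'K : u' ∈ K
    · exact ⟨u', hu'E, hu'K, fun d hd h => hu'1 (h ▸ e'.eq_one_of_mem_Q hd (h ▸ hu'Q))⟩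
    · refine ⟨e'.a * u', mul_mem e'.a_mem hu'E, ?_, fun d hd h => ?_⟩
      · exact mem_subgroupOf.1 ((mul_mem_iff_of_index_two hidx (a := ⟨e'.a, ha'S⟩)
          (b := ⟨u', e'.loc.lt.le hu'E⟩)).2 (iff_of_false (fun hm => ha' (mem_subgroupOf.1 hm))
            (fun hm => hu'K (mem_subgroupOf.1 hm))))
      · refine hu'1 (e'.eq_one_of_mem_Q ?_ hu'Q)
        have h3 := e'.pr.four_mul (Or.inr (Or.inr (Or.inl rfl))) hd
        rw [← h, ← mul_assoc, e'.pr.sqw, one_mul] at h3
        exact h3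
  have hww := e'.sq_one_two h2'.le hwE
  have haw : e'.a * w = w * e'.a := e'.comm e'.a_mem hwE
  have hconjcase : ∀ x ∈ E, x ∉ e.D → ∀ c ∈ X.S', w ≠ x * c := by
    intro x hx hxD c hc hwx
    obtain ⟨s, hs, he⟩ := e.class_eq h2 hx hxD hc
    rw [← hwx] at he
    have h3 : s⁻¹ * e'.a * s ∈ E := by
      refine e.cent_out hx hxD (mul_mem (mul_mem (inv_mem hs) ha'S) hs) ?_
      calc s⁻¹ * e'.a * s * x = s⁻¹ * (e'.a * (s * x * s⁻¹)) * s := by group
        _ = s⁻¹ * (w * e'.a) * s := by rw [he, haw]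
        _ = s⁻¹ * ((s * x * s⁻¹) * e'.a) * s := by rw [he]
        _ = x * (s⁻¹ * e'.a * s) := by group
    have hEK : E ≤ K := fun f hf =>
      ⟨e.loc.lt.le hf, mem_centralizer_singleton_iff.2 (e.comm hf huE)⟩
    have h4 := hKconj s hs _ (hEK h3)
    exact ha' (by simpa [mul_assoc] using h4)
  obtain ⟨c, hc, hw | hw | hw | hw⟩ := hcov w hwK
  · subst hw
    rcases hinvol' w hc hww with h | h
    · exact hwne 1 (Or.inl rfl) h
    · exact hwne e'.v (Or.inr (Or.inl rfl)) (h.trans hv'.symm)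
  · exact hconjcase e.a e.a_mem e.a_not_D c hc hw
  · have h3 : c * c = 1 := by
      rw [hw, mul_mul_of_comm (huc c hc), huu, one_mul] at hww
      exact hww
    have hac : e'.a * c = c * e'.a := by
      rcases hinvol' c hc h3 with rfl | rfl
      · simp
      · rw [← hv']; exact e'.comm e'.a_mem e'.v_mem
    apply hne
    calc e'.a * u = e'.a * w * c⁻¹ := by rw [hw]; group
      _ = w * (e'.a * c⁻¹) := by rw [haw]; group
      _ = w * (c⁻¹ * e'.a) := by rw [(Commute.inv_right (hac : Commute e'.a c)).eq]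
      _ = u * e'.a := by rw [hw]; group
  · exact hconjcase (e.a * u) hauE hauD c hc hw

end CfsgLib.MaxSyl
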