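import Cfsg.Agent.Lib.MaxSylow128.Index

/-!
# The index of a member of the family in its Sylow normalizer is two
-/

set_option autoImplicit false
set_option linter.style.haveILetI false
set_option linter.unusedSectionVars false

namespace CfsgLib.MaxSyl

open Subgroup CfsgLib.ConjFunctor

variable {G : Type*} [Group G] [Finite G]

private theorem sq_emod_three {m : ℤ} (h0 : 0 ≤ m) (h3 : m < 3) (h : m ≠ 0) : m * m % 3 = 1 := by
  interval_cases m <;> first | rfl | exact absurd rfl h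

namespace Setup.Loc

variable {X : Setup G} {E : Subgroup G}

set_option maxHeartbeats 1000000 in
theorem no_four (L : X.Loc E) (h16 : Nat.card E = 16)
    (hU : ∀ e ∈ E, (∀ f ∈ E, f * e = e * f) ∧ e * e = 1) {Q : Type*} [Group Q] [Finite Q]
    (π : ↥(normalizer (E : Set G)) →* Q) (hπs : Function.Surjective π)
    (hπ1 : ∀ a : ↥(normalizer (E : Set G)), π a = 1 ↔ (a : G) ∈ E) (P : Subgroup Q)
    (hP : ∀ a : ↥(normalizer (E : Set G)), (a : G) ∈ (X.S : Subgroup G) → π a ∈ P)
    (hP4 : Nat.card P = 4) (hcyc : IsCyclic P) (K : Subgroup Q) (q : ℕ) (hq : q.Prime) (hq2 : q ≠ 2)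
    (hK : Nat.card K = q) (hKn : K.Normal)
    (hfree : ∀ a ∈ P, (∀ k ∈ K, a * k = k * a) → a = 1) : False := by
  classical
  haveI : Fact (Nat.Prime 2) := ⟨Nat.prime_two⟩
  obtain ⟨g, hgS, hgR, hgN⟩ := X.exists_normalizing le_rfl L.inf_lt
  have hgE : cj g E ≠ E := fun e => hgR ⟨hgS, cj_eq_self_iff.1 e⟩
  have hE'R : cj g E ≤ (X.S : Subgroup G) ⊓ normalizer (E : Set G) := by
    intro a ha
    rw [mem_cj] at ha
    have := (mem_normalizer_iff.1 hgN _).1 (L.lt_inf.le ha)
    simpa [mul_assoc] using this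
  have hab' : ∀ a ∈ cj g E, (∀ b ∈ cj g E, b * a = a * b) ∧ a * a = 1 := by
    intro a ha
    rw [mem_cj] at ha
    refine ⟨fun b hb => ?_, ?_⟩
    · rw [mem_cj] at hb
      calc b * a = g * ((g⁻¹ * b * g) * (g⁻¹ * a * g)) * g⁻¹ := by group
        _ = g * ((g⁻¹ * a * g) * (g⁻¹ * b * g)) * g⁻¹ := by rw [(hU _ ha).1 _ hb]
        _ = a * b := by group
    · calc a * a = g * ((g⁻¹ * a * g) * (g⁻¹ * a * g)) * g⁻¹ := by group
        _ = 1 := by rw [(hU _ ha).2]; group
  obtain ⟨t, htE', htE⟩ : ∃ t ∈ cj g E, t ∉ E := by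
    by_contra h
    push Not at h
    exact hgE (eq_of_le_of_card_ge (fun a ha => h a ha) (card_cj g E).ge)
  have htR := hE'R htE'
  -- the images of `E'` in the cyclic group of order four
  obtain ⟨c, hc⟩ := hcyc.exists_generator
  have hc4 : orderOf c = 4 := by rw [orderOf_eq_card_of_forall_mem_zpowers hc, hP4]
  have himg : ∀ a : G, ∀ ha : a ∈ cj g E, a ∉ E → π ⟨a, (hE'R ha).2⟩ = ((c ^ 2 : P) :) := by
    intro a ha haE
    have hmem : π ⟨a, (hE'R ha).2⟩ ∈ P :=
      hP _ (hE'R ha).1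
    set p : P := ⟨_, hmem⟩ with hp
    have hpp : p * p = 1 := Subtype.ext (by
      show π ⟨a, (hE'R ha).2⟩ * π ⟨a, (hE'R ha).2⟩ = 1
      rw [← map_mul, hπ1]
      show a * a ∈ E
      rw [(hab' a ha).2]; exact one_mem _)
    have hp1 : p ≠ 1 := fun e => haE ((hπ1 ⟨a, (hE'R ha).2⟩).1 (congrArg Subtype.val e))
    obtain ⟨i, hi⟩ := (mem_zpowers_iff_mem_range_orderOf.1 (hc p)) |> Finset.mem_image.1
    obtain ⟨hi4, hip⟩ := hi
    rw [hc4, Finset.mem_range] at hi4
    have : i = 2 := by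
      rw [← hip, ← pow_add, ← orderOf_dvd_iff_pow_eq_one, hc4] at hpp
      rcases Nat.eq_zero_or_pos i with rfl | h
      · exact absurd (by simpa using hip.symm) hp1
      · omega
    subst this
    rw [hip]
  have hD : (E ⊓ cj g E).relIndex (cj g E) = 2 := by
    rw [relIndex, index_eq_two_iff]
    refine ⟨⟨t, htE'⟩, fun b => ?_⟩
    have htD : t ∉ E ⊓ cj g E := fun h => htE h.1
    simp only [mem_subgroupOf, coe_mul]
    by_cases hb : (b : G) ∈ E ⊓ cj g E
    · exact Or.inr ⟨hb, fun h => htD ((mul_mem_cancel_left hb).1 h)⟩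
    · refine Or.inl ⟨⟨?_, mul_mem b.2 htE'⟩, hb⟩
      have hbE : (b : G) ∉ E := fun h => hb ⟨h, b.2⟩
      have h1 : π (⟨b, (hE'R b.2).2⟩ * ⟨t, htR.2⟩) = 1 := by
        rw [map_mul, himg _ b.2 hbE, himg _ htE' htE, ← coe_mul, ← pow_add,
          show 2 + 2 = orderOf c by rw [hc4], pow_orderOf_eq_one, coe_one]
      exact (hπ1 _).1 h1
  have hD' : (E ⊓ cj g E).relIndex E = 2 := by
    have h1 := (( E ⊓ cj g E).subgroupOf (cj g E)).card_mul_index
    have h2 := (( E ⊓ cj g E).subgroupOf E).card_mul_index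
    rw [Nat.card_congr (subgroupOfEquivOfLe (inf_le_right : E ⊓ cj g E ≤ _)).toEquiv, ← relIndex, hD,
      card_cj, h16] at h1
    rw [Nat.card_congr (subgroupOfEquivOfLe (inf_le_left : E ⊓ cj g E ≤ _)).toEquiv, ← relIndex, h16] at h2
    have : Nat.card ↥(E ⊓ cj g E) = 8 := by omega
    rw [this] at h2
    omega
  obtain ⟨e0, he0, he0D⟩ : ∃ e0 ∈ E, e0 ∉ cj g E := by
    by_contra h
    push Not at h
    exact hgE (eq_of_le_of_card_ge (fun a ha => h a ha) (card_cj g E).le).symm
  have htD : ∀ d ∈ E ⊓ cj g E, t * d * t⁻¹ = d := fun d hd => by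
    rw [(hab' d hd.2).1 t htE', mul_inv_cancel_right]
  set v := t * e0 * t⁻¹ * e0 with hv
  have hvE : v ∈ E := mul_mem ((mem_normalizer_iff.1 htR.2 e0).1 he0) he0
  have hvE' : v ∈ cj g E := by
    have h1 : g⁻¹ * e0 * g ∈ normalizer (E : Set G) := by
      have : g⁻¹ * e0 * g ∈ (X.S : Subgroup G) ⊓ normalizer (E : Set G) := by
        simpa using (mem_normalizer_iff.1 (inv_mem hgN) e0).1 (L.lt_inf.le he0)
      exact this.2
    have h2 : e0 * t⁻¹ * e0⁻¹ ∈ cj g E := by
      rw [mem_cj]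
      have h3 := (mem_normalizer_iff.1 h1 _).1 (mem_cj.1 (inv_mem htE'))
      convert h3 using 1
      group
    have h4 : v = t * (e0 * t⁻¹ * e0⁻¹) := by
      rw [hv, inv_eq_of_mul_eq_one_right (hU e0 he0).2]; group
    rw [h4]; exact mul_mem htE' h2
  have hTv : Transv.Tv E t v := by
    refine ⟨hvE, (hU v hvE).2, htD v ⟨hvE, hvE'⟩, fun x hx => ?_⟩
    by_cases hxD : x ∈ E ⊓ cj g E
    · exact Or.inl (htD x hxD)
    · right
      have h1 := (mul_mem_iff_of_index_two (H := (E ⊓ cj g E).subgroupOf E) hD'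
        (a := ⟨x, hx⟩) (b := ⟨e0, he0⟩)).2
        (iff_of_false (fun h => hxD (mem_subgroupOf.1 h)) (fun h => he0D (mem_subgroupOf.1 h).2))
      have h2 := htD _ (mem_subgroupOf.1 h1)
      simp only [coe_mul] at h2
      have hev : e0 * v = v * e0 := (hU v hvE).1 e0 he0
      calc t * x * t⁻¹ = (t * (x * e0) * t⁻¹) * (t * e0⁻¹ * t⁻¹) := by group
        _ = (t * (x * e0) * t⁻¹) * (t * e0 * t⁻¹) := by
            rw [inv_eq_of_mul_eq_one_right (hU e0 he0).2]
        _ = x * e0 * (v * e0⁻¹) := by rw [h2, hv, mul_inv_cancel_right]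
        _ = x * (e0 * v) * e0⁻¹ := by group
        _ = x * (v * e0) * e0⁻¹ := by rw [hev]
        _ = x * v := by group
  -- a generator of the normal subgroup of order `q`
  haveI := Fact.mk hq
  obtain ⟨k', hk'⟩ := exists_prime_orderOf_dvd_card' (G := K) q (by rw [hK])
  obtain ⟨k, hk⟩ := hπs (k' : Q)
  have hKgen : ∀ a ∈ K, ∃ i : ℤ, (π k) ^ i = a := by
    intro a ha
    have : zpowers k' = ⊤ := eq_top_of_card_eq _ (by rw [Nat.card_zpowers, hk', hK])
    obtain ⟨i, hi⟩ := mem_zpowers_iff.1 (this ▸ mem_top (⟨a, ha⟩ : K))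
    exact ⟨i, by rw [hk, ← coe_zpow, hi]⟩
  set y : (normalizer (E : Set G)) := k * ⟨t, htR.2⟩ * k⁻¹ * ⟨t, htR.2⟩⁻¹ with hy
  have hyK : π y ∈ K := by
    have h1 : π y = π k * (π ⟨t, htR.2⟩ * (π k)⁻¹ * (π ⟨t, htR.2⟩)⁻¹) := by
      simp only [hy, map_mul, map_inv, mul_assoc]
    rw [h1, hk]
    exact mul_mem k'.2 (hKn.conj_mem _ (inv_mem k'.2) _)
  have hyne : π y ≠ 1 := by
    intro e
    have hcm : Commute (π ⟨t, htR.2⟩) (π k) := by
      rw [hy, map_mul, map_mul, map_mul, map_inv, map_inv, mul_inv_eq_one, mul_inv_eq_iff_eq_mul] at e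
      exact e.symm
    have h1 := hfree (π ⟨t, htR.2⟩) (hP _ htR.1) (fun a ha => by
      obtain ⟨i, rfl⟩ := hKgen a ha
      exact (hcm.zpow_right i).eq)
    exact htE ((hπ1 _).1 h1)
  have hyord : orderOf (π y) = q := by
    refine (Nat.dvd_prime hq).1 ?_ |>.resolve_left (fun h => hyne (orderOf_eq_one_iff.1 h))
    rw [← hK]
    exact orderOf_dvd_natCard K (x := π y) hyK
  have hkN : (k : G) ∈ normalizer (E : Set G) := k.2
  have hTvk := hTv.conj hkN
  have hcomm : ∀ a ∈ E, ∀ b ∈ E, a * b = b * a := fun a ha b hb => (hU b hb).1 a ha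
  have hyv : (y : G) = (k : G) * t * (k : G)⁻¹ * t⁻¹ := by simp [hy]
  have hv1 : v ≠ 1 := by
    intro e
    refine htE (L.cent (mem_centralizer_iff.2 fun x hx => ?_))
    have hxt : t * x * t⁻¹ = x := by
      rcases hTv.move x hx with h | h
      · exact h
      · rw [h, e, mul_one]
    exact (mul_inv_eq_iff_eq_mul.1 hxt).symm
  by_cases hfix : (k : G) * v * (k : G)⁻¹ = v
  · apply hyne
    have hPr := Transv.pr_of_tv hcomm hTv hTvk
    rw [hfix, ← hyv] at hPr
    have hsq : (y : G) ^ 2 ∈ E := by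
      refine L.cent (mem_centralizer_iff.2 fun x hx => ?_)
      have hyfix : (y : G) * v * (y : G)⁻¹ = v := by
        have h1 : t⁻¹ * v * t = v := by
          rw [mul_assoc, inv_mul_eq_iff_eq_mul]
          exact (mul_inv_eq_iff_eq_mul.1 hTv.fix).symm
        have h2 : (k : G) * t * (k : G)⁻¹ * v * ((k : G) * t * (k : G)⁻¹)⁻¹ = v := by
          have := hTvk.fix
          rwa [hfix] at this
        calc (y : G) * v * (y : G)⁻¹
            = (k : G) * t * (k : G)⁻¹ * (t⁻¹ * v * t) * ((k : G) * t * (k : G)⁻¹)⁻¹ := by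
              rw [hyv]; group
          _ = v := by rw [h1, h2]
      have h2 : (y : G) * x * (y : G)⁻¹ = x ∨ (y : G) * x * (y : G)⁻¹ = x * v := by
        rcases hPr.move x hx with h | h | h | h
        · exact Or.inl h
        · exact Or.inr h
        · exact Or.inr h
        · rw [hTv.sq, mul_one] at h; exact Or.inl h
      have h3 : (y : G) ^ 2 * x * ((y : G) ^ 2)⁻¹ = x := by
        have h4 : (y : G) ^ 2 * x * ((y : G) ^ 2)⁻¹ = (y : G) * ((y : G) * x * (y : G)⁻¹) * (y : G)⁻¹ := by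
          rw [pow_two]; group
        rcases h2 with h | h
        · rw [h4, h, h]
        · rw [h4, h, ← conj_mul, h, hyfix, mul_assoc, hTv.sq, mul_one]
      exact (mul_inv_eq_iff_eq_mul.1 h3).symm
    have h1 : π (y ^ 2) = 1 := (hπ1 _).2 (by simpa using hsq)
    rw [map_pow] at h1
    have h2 := orderOf_dvd_of_pow_eq_one h1
    rw [hyord] at h2
    exact absurd ((Nat.prime_dvd_prime_iff_eq hq Nat.prime_two).1 h2) hq2
  · have hPr := (Transv.pr_of_tv hcomm hTv hTvk).pow (2 ^ 7)
    rw [← hyv] at hPr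
    have hw1 : (k : G) * v * (k : G)⁻¹ ≠ 1 := fun e => hv1 (conj_eq_one_iff.1 e)
    have h3 : ((y : G) ^ 2 ^ 7) ^ 3 ∈ E := L.cent (mem_centralizer_iff.2 fun x hx =>
      (mul_inv_eq_iff_eq_mul.1 (hPr.cube (X.odd_pow _) hv1 hw1 (Ne.symm hfix) hx)).symm)
    have h4 : π ((y ^ 2 ^ 7) ^ 3) = 1 := (hπ1 _).2 (by simpa using h3)
    rw [map_pow, map_pow, ← pow_mul] at h4
    have h5 := orderOf_dvd_of_pow_eq_one h4
    rw [hyord] at h5
    have hq3 : q = 3 := by
      rcases hq.dvd_mul.1 h5 with h | h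
      · exact absurd ((Nat.prime_dvd_prime_iff_eq hq Nat.prime_two).1 (hq.dvd_of_dvd_pow h)) hq2
      · exact (Nat.prime_dvd_prime_iff_eq hq Nat.prime_three).1 h
    -- the square of the generator of the Sylow subgroup centralizes `K`
    have hk3 : (π k) ^ 3 = 1 := by
      rw [hk, ← hq3, ← hk', ← coe_pow, pow_orderOf_eq_one, coe_one]
    have hc2 : Commute ((c ^ 2 : P) : Q) (π k) := by
      obtain ⟨i, hi⟩ := hKgen _ (hKn.conj_mem _ (hk ▸ k'.2 : π k ∈ K) (c : Q))
      have hcc : ((c : Q)) * ((c : Q) * π k * (c : Q)⁻¹) * (c : Q)⁻¹ = π k := by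
        rw [← hi, ← conj_zpow, ← hi, ← zpow_mul]
        have h7 : (i * i) % 3 = 1 := by
          have h9 : i % 3 ≠ 0 := by
            intro h
            have h8 : (π k) ^ i = 1 := by
              rw [← Int.emod_add_mul_ediv i 3, h, zero_add, zpow_mul,
                show (3 : ℤ) = ((3 : ℕ) : ℤ) by rfl, zpow_natCast, hk3, one_zpow]
            rw [h8] at hi
            have h10 := conj_eq_one_iff.1 hi.symm
            exact hyne (by
              obtain ⟨j, hj⟩ := hKgen _ hyK
              rw [← hj, h10, one_zpow])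
          rw [Int.mul_emod]
          have h11 := Int.emod_nonneg i (by norm_num : (3 : ℤ) ≠ 0)
          have h12 := Int.emod_lt_of_pos i (by norm_num : (0 : ℤ) < 3)
          exact sq_emod_three h11 h12 h9
        rw [← Int.emod_add_mul_ediv (i * i) 3, h7, zpow_add, zpow_one, zpow_mul,
          show (3 : ℤ) = ((3 : ℕ) : ℤ) by rfl, zpow_natCast, hk3, one_zpow, mul_one]
      show ((c ^ 2 : P) : Q) * π k = π k * ((c ^ 2 : P) : Q)
      rw [coe_pow]
      refine mul_inv_eq_iff_eq_mul.1 ?_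
      rw [pow_two, mul_inv_rev]
      simpa [mul_assoc] using hcc
    have h6 := hfree _ (c ^ 2).2 (fun a ha => by
      obtain ⟨j, rfl⟩ := hKgen a ha
      exact (hc2.zpow_right j).eq)
    have h7 := orderOf_dvd_of_pow_eq_one (Subtype.ext h6 : c ^ 2 = 1)
    rw [hc4] at h7
    exact absurd (Nat.le_of_dvd (by norm_num) h7) (by norm_num)

theorem not_sixteen (L : X.Loc E) (h16 : Nat.card E = 16)
    (hU : ∀ e ∈ E, (∀ f ∈ E, f * e = e * f) ∧ e * e = 1)
    (hR : 4 * Nat.card E ≤ Nat.card ↥((X.S : Subgroup G) ⊓ normalizer (E : Set G))) : False := by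
  haveI : Fact (Nat.Prime 2) := ⟨Nat.prime_two⟩
  have hn := L.card_normalizer
  have hodd := L.odd_relIndex
  have hNtop : normalizer (E : Set G) ≠ ⊤ := by
    intro h
    refine L.relIndex_ne_one ?_
    have h' : (X.S : Subgroup G) ≤ normalizer (E : Set G) := by rw [h]; exact le_top
    exact absurd (inf_eq_left.2 h') L.inf_lt.ne
  have hR64 : Nat.card ↥((X.S : Subgroup G) ⊓ normalizer (E : Set G)) = 64 := by
    have h2 := X.card_two_mul le_rfl L.inf_lt
    rw [X.card] at h2
    omega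
  haveI hEn : (E.subgroupOf (normalizer (E : Set G))).Normal :=
    (normal_subgroupOf_iff_le_normalizer le_normalizer).2 le_rfl
  set π := QuotientGroup.mk' (E.subgroupOf (normalizer (E : Set G))) with hπ
  have hπs : Function.Surjective π := QuotientGroup.mk'_surjective _
  have hker : π.ker = E.subgroupOf (normalizer (E : Set G)) := QuotientGroup.ker_mk' _
  have hπ1 : ∀ a : (normalizer (E : Set G)), π a = 1 ↔ (a : G) ∈ E := fun a =>
    (QuotientGroup.eq_one_iff a).trans mem_subgroupOf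
  set R' := ((X.S : Subgroup G) ⊓ normalizer (E : Set G)).subgroupOf (normalizer (E : Set G)) with hR'
  have hER : π.ker ≤ R' := by
    rw [hker]; exact fun e he => mem_subgroupOf.2 (L.lt_inf.le (mem_subgroupOf.1 he))
  have hidx : (R'.map π).index =
      ((X.S : Subgroup G) ⊓ normalizer (E : Set G)).relIndex (normalizer (E : Set G)) :=
    index_map_eq _ hπs hER
  have hPp : IsPGroup 2 (R'.map π) :=
    (((X.S.isPGroup'.to_le inf_le_left :
      IsPGroup 2 ↥((X.S : Subgroup G) ⊓ normalizer (E : Set G)))).of_equiv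
      (subgroupOfEquivOfLe inf_le_right).symm).map π
  set P := hPp.toSylow (by rw [hidx]; exact L.sylow) with hPdef
  have hP4 : Nat.card P.toSubgroup = 4 := by
    show Nat.card ↥(R'.map π) = 4
    have h1 := (R'.map π).card_mul_index
    have h2 := (E.subgroupOf (normalizer (E : Set G))).card_mul_index
    rw [index_eq_card, Nat.card_congr (subgroupOfEquivOfLe (le_normalizer (H := E))).toEquiv, h16,
      ← hn, hR64, ← h1, hidx] at h2
    nlinarith [hodd.pos]
  have h4 : ∀ A B C : Subgroup _, ⊥ < A → A < B → B < C →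
      C < (⊤ : Subgroup (↥(normalizer (E : Set G)) ⧸ E.subgroupOf (normalizer (E : Set G)))) → False := by
    intro A B C hA hAB hBC hC
    set f := fun Y : Subgroup (↥(normalizer (E : Set G)) ⧸ E.subgroupOf (normalizer (E : Set G))) =>
      (Y.comap π).map (normalizer (E : Set G)).subtype with hf
    have hmono : ∀ Y Z, Y < Z → f Y < f Z := fun Y Z h =>
      (map_lt_map_iff_of_injective (subtype_injective _)).2 ((comap_lt_comap_of_surjective hπs).2 h)
    have hfb : f ⊥ = E := by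
      show ((⊥ : Subgroup _).comap π).map _ = E
      rw [MonoidHom.comap_bot, hker, map_subgroupOf_eq_of_le le_normalizer]
    have hft : f ⊤ = normalizer (E : Set G) := by
      show ((⊤ : Subgroup _).comap π).map _ = _
      rw [comap_top, ← MonoidHom.range_eq_map, range_subtype]
    have h0 : Len (f ⊥) 4 := hfb.symm ▸ len_of_card 4 E (by rw [h16]; norm_num)
    have h8 := (((h0.step (hmono _ _ hA)).step (hmono _ _ hAB)).step (hmono _ _ hBC)).step (hmono _ _ hC)
    rw [hft] at h8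
    exact X.not_len_nine _ (h8.step (lt_top_iff_ne_top.2 hNtop))
  obtain ⟨hcyc, K, q, hq, hq2, hK, hKn, hfree, -⟩ := structure_four L.quot_core P hP4 h4
  exact L.no_four h16 hU π hπs hπ1 P.toSubgroup
    (fun a ha => mem_map_of_mem π (mem_subgroupOf.2 ⟨ha, a.2⟩)) hP4 hcyc K q hq hq2 hK hKn hfree

/-- A member of the family has index two in its Sylow normalizer. -/
theorem index_two (L : X.Loc E) :
    Nat.card ↥((X.S : Subgroup G) ⊓ normalizer (E : Set G)) = 2 * Nat.card E := by
  have h2 := X.card_two_mul inf_le_left L.lt_inf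
  refine le_antisymm ?_ h2
  by_contra hgt
  have h3 := X.card_two_mul le_rfl L.inf_lt
  rw [X.card] at h3
  obtain ⟨i, hi7, hi⟩ := X.card_eq_pow L.lt.le
  obtain ⟨j, hj7, hj⟩ := X.card_eq_pow (inf_le_left :
    (X.S : Subgroup G) ⊓ normalizer (E : Set G) ≤ X.S)
  rw [hi, hj] at hgt
  rw [hj] at h3
  have hij : i + 2 ≤ j := by
    by_contra h
    apply hgt
    calc 2 ^ j ≤ 2 ^ (i + 1) := Nat.pow_le_pow_right (by norm_num) (by omega)
      _ = 2 * 2 ^ i := by ring
  have hj6 : j ≤ 6 := by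
    by_contra h
    have : 2 ^ 7 ≤ 2 ^ j := Nat.pow_le_pow_right (by norm_num) (by omega)
    omega
  have hrel := L.relIndex_le
  have hodd := L.odd_relIndex
  have hne := L.relIndex_ne_one
  have hne3 : ((X.S : Subgroup G) ⊓ normalizer (E : Set G)).relIndex (normalizer (E : Set G)) ≠ 3 := by
    intro h
    have := L.of_three h
    rw [hi, hj] at this
    exact hgt this
  have hUE : omegaCenter E ≤ E := fun e he => he.1
  obtain ⟨l, hl, hlU⟩ := (Nat.dvd_prime_pow Nat.prime_two).1 (hi ▸ card_dvd_of_le hUE)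
  obtain ⟨o, ho⟩ := hodd
  rw [hlU] at hrel
  have hl3 : 3 ≤ l := by
    by_contra h
    interval_cases l <;> omega
  rcases Nat.lt_or_ge l 4 with hl4 | hl4
  · have hl8 : l = 3 := by omega
    subst hl8
    have h5 := L.not_five hlU
    have h7 : ((X.S : Subgroup G) ⊓ normalizer (E : Set G)).relIndex (normalizer (E : Set G)) = 7 := by
      omega
    haveI hEn : (E.subgroupOf (normalizer (E : Set G))).Normal :=
      (normal_subgroupOf_iff_le_normalizer le_normalizer).2 le_rfl
    refine not_card_seven L.quot_core (r := j - i) (by omega) (by omega) ?_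
    have h8 := (E.subgroupOf (normalizer (E : Set G))).card_mul_index
    rw [index_eq_card, Nat.card_congr (subgroupOfEquivOfLe (le_normalizer (H := E))).toEquiv, hi,
      ← L.card_normalizer, h7, hj, show j = i + (j - i) by omega, pow_add] at h8
    have := Nat.two_pow_pos i
    nlinarith [h8]
  · have hi4 : i = 4 := by omega
    have hl' : l = 4 := by omega
    have heq : omegaCenter E = E := eq_of_le_of_card_ge hUE (by rw [hi, hlU, hi4, hl'])
    refine L.not_sixteen (by rw [hi, hi4]; norm_num) (fun e he => ?_) ?_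
    · rw [← heq] at he; exact ⟨he.2.1, he.2.2⟩
    · rw [hi, hj]
      calc 4 * 2 ^ i = 2 ^ (i + 2) := by ring
        _ ≤ 2 ^ j := Nat.pow_le_pow_right (by norm_num) hij

end Setup.Loc

end CfsgLib.MaxSyl
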